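import Mathlib.Tactic.Linarith
import Mathlib.Tactic.Ring
import Mathlib.Tactic.LinearCombination
import Mathlib.Tactic.IntervalCases
import Mathlib.Data.Nat.Prime.Basic
import Mathlib.Data.Int.ModEq
import Mathlib.Algebra.Ring.Int.Parity

/-!
# Divisors of `e (1 + n p)` congruent to `1` or `-1` modulo `p`
-/

set_option autoImplicit false

namespace Cfsg.Agent.Blocks.FewSylow

/-- A factorisation `(u p + 1) (h p + e) = e (1 + n p)` gives the parametrised form of `n`. -/
theorem plus_form {p e n u h t : ℕ} (hp : 0 < p) (ht : t * e + 1 = p) (hu : 0 < u) (hh : 0 < h)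
    (heq : (u * p + 1) * (h * p + e) = e * (1 + n * p)) :
    ∃ h' : ℕ, 0 < h' ∧ n * (u + 1) = h' * u * p + u ^ 2 + u + h' := by
  have h1 : h * (u * p + 1) + u * e = e * n := by
    apply Nat.eq_of_mul_eq_mul_left hp
    linear_combination heq
  have hun : u < n := by
    by_contra hle
    push Not at hle
    have := Nat.mul_le_mul_left e hle
    have : 0 < h * (u * p + 1) := Nat.mul_pos hh (Nat.succ_pos _)
    nlinarith
  obtain ⟨q, rfl⟩ : ∃ q, n = u + q := ⟨n - u, by omega⟩
  have h2 : h * (u * p + 1) = e * q := by linear_combination h1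
  have h3 : (q : ℤ) * (u + 1) = ((u : ℤ) * p + 1) * (q - u * t * h) := by
    have hp' : (p : ℤ) = t * e + 1 := by exact_mod_cast ht.symm
    have h2' : (h : ℤ) * ((u : ℤ) * p + 1) = e * q := by exact_mod_cast h2
    linear_combination ((u : ℤ) * t) * h2' - (u * q : ℤ) * hp'
  have hq : 0 < q := by omega
  have h4 : (0 : ℤ) < q - u * t * h := by
    by_contra hle
    push Not at hle
    have : (0 : ℤ) < (q : ℤ) * (u + 1) := by positivity
    have : (0 : ℤ) < (u : ℤ) * p + 1 := by positivity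
    nlinarith
  obtain ⟨h', hh'⟩ : ∃ h' : ℕ, (h' : ℤ) = q - u * t * h :=
    ⟨((q : ℤ) - u * t * h).toNat, Int.toNat_of_nonneg h4.le⟩
  refine ⟨h', by omega, ?_⟩
  have : (((u + q) * (u + 1) : ℕ) : ℤ) = ((h' * u * p + u ^ 2 + u + h' : ℕ) : ℤ) := by
    push_cast
    rw [hh']
    linear_combination h3
  exact_mod_cast this

/-- The parametrised form is impossible for small `n`. -/
theorem not_form {p n u h : ℕ} (hu : 0 < u) (hh : 0 < h) (hn : 2 * n < p + 3)
    (heq : n * (u + 1) = h * u * p + u ^ 2 + u + h) : False := by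
  obtain ⟨k, rfl⟩ : ∃ k, u = k + 1 := ⟨u - 1, by omega⟩
  have h1 : (k + 1) * p + (k + 1) ^ 2 + (k + 1) + 1 ≤ n * (k + 1 + 1) := by
    rw [heq]
    have : 1 * ((k + 1) * p + 1) ≤ h * ((k + 1) * p + 1) := Nat.mul_le_mul_right _ hh
    nlinarith
  have h2 : (2 * n + 1) * (k + 2) ≤ (p + 3) * (k + 2) := Nat.mul_le_mul_right _ hn
  nlinarith

/-- The number `n` admits no parametrised form. -/
def NForm (p n : ℕ) : Prop :=
  ∀ u h : ℕ, 0 < u → 0 < h → n * (u + 1) ≠ h * u * p + u ^ 2 + u + h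

theorem nform_of_few {p n : ℕ} (hn : 2 * n < p + 3) : NForm p n :=
  fun _ _ hu hh h => not_form hu hh hn h

theorem no_plus {p e n u h t : ℕ} (hp : 0 < p) (ht : t * e + 1 = p) (hn : NForm p n)
    (heq : (u * p + 1) * (h * p + e) = e * (1 + n * p)) : u = 0 ∨ h = 0 := by
  by_contra hne
  push Not at hne
  obtain ⟨h', hh', hf⟩ := plus_form hp ht (Nat.pos_of_ne_zero hne.1) (Nat.pos_of_ne_zero hne.2) heq
  exact hn _ _ (Nat.pos_of_ne_zero hne.1) hh' hf

theorem no_minus {p e n u k t : ℕ} (hp : 2 ≤ p) (ht : t * e + 1 = p) (hn : NForm p n)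
    (hw : 0 < (k : ℤ) * p - e)
    (heq : ((u : ℤ) * p - 1) * ((k : ℤ) * p - e) = e * (1 + n * p)) :
    u = 1 ∨ (t = 1 ∧ k = 1) := by
  rcases Nat.lt_trichotomy u 1 with h | h | h
  · obtain rfl : u = 0 := by omega
    have : (0 : ℤ) ≤ e * (1 + n * p) := by positivity
    simp only [Nat.cast_zero, zero_mul, zero_sub, neg_mul, one_mul] at heq
    linarith
  · exact Or.inl h
  right
  have hk : 0 < k := by
    by_contra h0
    obtain rfl : k = 0 := by omega
    simp at hw
    omega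
  have ht0 : 0 < t := Nat.pos_of_ne_zero (by rintro rfl; omega)
  set d := Nat.gcd (u - 1) (p - 1)
  have hd0 : 0 < d := Nat.gcd_pos_of_pos_left _ (by omega)
  obtain ⟨g, a, hga, ha, hg⟩ :
      ∃ g a : ℕ, g.Coprime a ∧ u - 1 = d * a ∧ p - 1 = d * g := by
    obtain ⟨a, g, hag, ha, hg⟩ := Nat.exists_coprime (u - 1) (p - 1)
    exact ⟨g, a, hag.symm, ha.trans (mul_comm _ _), hg.trans (mul_comm _ _)⟩
  have hu' : u = d * a + 1 := by omega
  have hp' : p = d * g + 1 := by omega
  have hg0 : 0 < g := Nat.pos_of_ne_zero (by rintro rfl; omega)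
  have ha0 : 0 < a := Nat.pos_of_ne_zero (by rintro rfl; omega)
  have h1 : (k * t) * (a * p + g) = g * (n + u) := by
    have h0 : (k : ℤ) * ((u : ℤ) * p - 1) = e * (n + u) := by
      apply mul_left_cancel₀ (show (p : ℤ) ≠ 0 by exact_mod_cast (by omega : p ≠ 0))
      linear_combination heq
    apply Nat.eq_of_mul_eq_mul_left hd0
    have e1 : (t : ℤ) * e = d * g := by
      have : t * e = d * g := by omega
      exact_mod_cast this
    have e2 : (u : ℤ) * p - 1 = d * (a * p + g) := by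
      rw [hu']; push_cast; rw [show (p : ℤ) = d * g + 1 by exact_mod_cast hp']; ring
    rw [e2] at h0
    have : ((d * ((k * t) * (a * p + g)) : ℕ) : ℤ) = ((d * (g * (n + u)) : ℕ) : ℤ) := by
      push_cast
      linear_combination (t : ℤ) * h0 + ((n : ℤ) + u) * e1
    exact_mod_cast this
  have hgp : g.Coprime p := by
    rw [hp', mul_comm d g, Nat.coprime_mul_left_add_right]
    exact Nat.coprime_one_right g
  obtain ⟨m, hm⟩ : g ∣ k * t := by
    refine (hga.mul_right hgp).dvd_of_dvd_mul_right ?_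
    have h2 : g ∣ (k * t) * (a * p) + (k * t) * g := ⟨n + u, by rw [← h1, mul_add]⟩
    exact (Nat.dvd_add_left (dvd_mul_left _ _)).mp h2
  have h3 : m * (a * p + g) = n + u := by
    apply Nat.eq_of_mul_eq_mul_left hg0
    rw [← h1, hm, mul_assoc]
  have hm0 : 0 < m := Nat.pos_of_ne_zero (by
    rintro rfl; rw [mul_zero] at hm; exact absurd hm (Nat.mul_ne_zero (by omega) (by omega)))
  by_contra hne
  have hgm : 2 ≤ g * m := by
    by_contra hlt
    have : 0 < g * m := Nat.mul_pos hg0 hm0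
    have h4 : k * t = 1 := by omega
    exact hne ⟨Nat.eq_one_of_mul_eq_one_left h4, Nat.eq_one_of_mul_eq_one_right h4⟩
  obtain ⟨v, hv⟩ : ∃ v, g * m = v + 1 := ⟨g * m - 1, by omega⟩
  refine hn v (a * m) (by omega) (Nat.mul_pos ha0 hm0) ?_
  have : ((n * (v + 1) : ℕ) : ℤ) = ((a * m * v * p + v ^ 2 + v + a * m : ℕ) : ℤ) := by
    push_cast
    have e3 : (v : ℤ) + 1 = g * m := by exact_mod_cast hv.symm
    have e4 : (m : ℤ) * (a * p + g) = n + u := by exact_mod_cast h3
    rw [show (u : ℤ) = d * a + 1 by exact_mod_cast hu'] at e4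
    have e5 : (p : ℤ) = d * g + 1 := by exact_mod_cast hp'
    linear_combination (-((v : ℤ) + 1)) * e4 + (m * (a : ℤ)) * e5 +
      ((-(d : ℤ)) * a - v - 1) * e3
  exact_mod_cast this

end Cfsg.Agent.Blocks.FewSylow
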