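import Cfsg.Agent.Lib.Blocks.FewSylow.Arith
import Cfsg.Agent.Lib.Blocks.DefectOneCount
import Cfsg.Agent.Lib.Blocks.DefectOnePrincipal
import Cfsg.Agent.Lib.ClassSum.Vanish
import Cfsg.Agent.Lib.CT.Kernel
import Mathlib.GroupTheory.Transfer

/-!
# Perfect groups with a self-centralizing Sylow subgroup of order `p` and few Sylow subgroups
-/

set_option autoImplicit false
set_option linter.unusedSectionVars false

namespace Cfsg.Agent.Blocks.FewSylow

open scoped Cfsg.Agent.Blocks.D1 Classical ComplexConjugate commutatorElement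
open CT

universe u

variable {p : ℕ} [hp : Fact p.Prime] {G : Type u} [Group G] [Fintype G]

/-- The hypotheses: `P` is self-centralizing of order `p` and there are `1 + n p` Sylow subgroups, `n` not of the
parametrised form. -/
structure Setting (P : Sylow p G) (n : ℕ) : Prop where
  card : Nat.card P = p
  cent : ∀ g : G, (∀ y ∈ (P : Subgroup G), g * y = y * g) → g ∈ (P : Subgroup G)
  perfect : commutator G = ⊤
  sylows : Nat.card (Sylow p G) = 1 + n * p
  nform : NForm p n

/-- The index of `P` in its normalizer. -/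
noncomputable def einv (P : Sylow p G) : ℕ := Nat.card (D1.cN P) / p

/-- The fixed space dimension of the Sylow subgroup. -/
noncomputable def fix (P : Sylow p G) (χ : G → ℂ) : ℕ :=
  mult (fun y : (P : Subgroup G) => χ y) (fun _ => 1)

theorem fix_spec (P : Sylow p G) {χ : G → ℂ} (hχ : IsCharacter G χ) :
    (Nat.card P : ℂ) * (fix P χ : ℂ) = ∑ y : (P : Subgroup G), χ y := by
  have h : classInner (fun y : (P : Subgroup G) => χ y) (fun _ => 1) = (fix P χ : ℂ) :=
    mult_spec (isCharacter_restrict _ hχ) isCharacter_one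
  rw [← h, classInner, ← mul_assoc, mul_inv_cancel₀ (Nat.cast_ne_zero.mpr Nat.card_pos.ne'), one_mul]
  simp

namespace Setting

variable {P : Sylow p G} {n : ℕ} (S : Setting P n)
include S

theorem cC_eq : D1.cC P = (P : Subgroup G) :=
  le_antisymm (fun g hg => S.cent g fun y hy => (Subgroup.mem_centralizer_iff.mp hg y hy).symm)
    fun _ hg => D1.mem_cC_of_mem S.card hg

theorem cent_of_mem {u g : G} (hu : u ∈ (P : Subgroup G)) (hu1 : u ≠ 1) (h : g * u = u * g) :
    g ∈ (P : Subgroup G) := by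
  refine S.cent g fun y hy => ?_
  obtain ⟨i, hi⟩ := Subgroup.mem_zpowers_iff.mp
    (mem_zpowers_of_prime_card S.card (g := (⟨u, hu⟩ : (P : Subgroup G)))
      (fun e => hu1 (congrArg Subtype.val e)) (g' := ⟨y, hy⟩))
  have hi' : u ^ i = y := by simpa using congrArg Subtype.val hi
  rw [← hi']
  exact (Commute.zpow_right h i).eq

theorem P_le : (P : Subgroup G) ≤ D1.cN P := Subgroup.le_normalizer

theorem card_N : Nat.card (D1.cN P) = einv P * p := by
  refine (Nat.div_mul_cancel ?_).symm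
  have h := Subgroup.card_dvd_of_le S.P_le
  rwa [show Nat.card ↥(P : Subgroup G) = p from S.card] at h

theorem relIndex_eq : (D1.cC P).relIndex (D1.cN P) = einv P := by
  have h := Subgroup.card_mul_index ((P : Subgroup G).subgroupOf (D1.cN P))
  rw [S.cC_eq, Subgroup.relIndex]
  rw [card_subgroupOf S.P_le, show Nat.card ↥(P : Subgroup G) = p from S.card, S.card_N,
    mul_comm (einv P)] at h
  exact Nat.eq_of_mul_eq_mul_left hp.out.pos h

theorem card_G : Nat.card G = p * (einv P * (1 + n * p)) := by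
  have h : Nat.card (Sylow p G) = (D1.cN P).index := P.card_eq_index_normalizer
  rw [← Subgroup.card_mul_index (D1.cN P), ← h, S.sylows, S.card_N]
  ring

theorem sq : ¬ p ^ 2 ∣ Nat.card G := by
  intro h
  rw [← Subgroup.card_mul_index (P : Subgroup G), show Nat.card ↥(P : Subgroup G) = p from S.card,
    pow_two] at h
  exact P.not_dvd_index (Nat.dvd_of_mul_dvd_mul_left hp.out.pos h)

theorem factorization : (Nat.card G).factorization p = 1 := D1.factorization_card S.card

theorem comm_mem {a b : G} (ha : a ∈ D1.cN P) (hb : b ∈ D1.cN P) :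
    a * b * a⁻¹ * b⁻¹ ∈ (P : Subgroup G) := by
  obtain ⟨T⟩ := D1.exists_setup P S.card
  rw [← S.cC_eq]
  refine (T.u_eq_one_iff (⟨a, ha⟩ * ⟨b, hb⟩ * ⟨a, ha⟩⁻¹ * ⟨b, hb⟩⁻¹)).mp ?_
  have e : ∀ x : D1.cN P, T.u x * T.u x⁻¹ = 1 := fun x => by
    rw [← T.u_mul, mul_inv_cancel, T.u_one]
  rw [T.u_mul, T.u_mul, T.u_mul]
  linear_combination (T.u ⟨b, hb⟩ * T.u (⟨b, hb⟩ : D1.cN P)⁻¹) * e ⟨a, ha⟩ + e ⟨b, hb⟩

/-- A proper normal subgroup `K` with `G = K N(P)` does not exist. -/
theorem eq_top_of_sup {K : Subgroup G} [K.Normal] (h : ∀ g : G, ∃ k ∈ K, ∃ m ∈ D1.cN P, g = k * m) :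
    K ⊔ (P : Subgroup G) = ⊤ := by
  refine top_le_iff.mp (S.perfect ▸ ?_)
  rw [commutator_def, Subgroup.commutator_le]
  intro g₁ _ g₂ _
  obtain ⟨k₁, hk₁, m₁, hm₁, rfl⟩ := h g₁
  obtain ⟨k₂, hk₂, m₂, hm₂, rfl⟩ := h g₂
  have key : QuotientGroup.mk' K (⁅k₁ * m₁, k₂ * m₂⁆) = QuotientGroup.mk' K (⁅m₁, m₂⁆) := by
    have e1 : QuotientGroup.mk' K k₁ = 1 := (QuotientGroup.eq_one_iff _).mpr hk₁
    have e2 : QuotientGroup.mk' K k₂ = 1 := (QuotientGroup.eq_one_iff _).mpr hk₂
    rw [map_commutatorElement, map_commutatorElement, map_mul, map_mul, e1, e2, one_mul, one_mul]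
  obtain ⟨z, hz, hzeq⟩ := (QuotientGroup.mk'_eq_mk' K).mp key.symm
  rw [← hzeq]
  refine Subgroup.mul_mem _ (Subgroup.mem_sup_right ?_) (Subgroup.mem_sup_left hz)
  rw [commutatorElement_def]
  exact S.comm_mem hm₁ hm₂

theorem two_le_e : 2 ≤ einv P := by
  have h0 : einv P ≠ 0 := fun h => Nat.card_pos.ne' (S.card_N.trans (by rw [h, zero_mul]))
  by_contra hlt
  have h1 : einv P = 1 := by omega
  have hN : D1.cN P = (P : Subgroup G) :=
    (Subgroup.eq_of_le_of_card_ge S.P_le (by rw [S.card_N, h1, one_mul]; exact S.card.ge)).symm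
  have hle : Subgroup.normalizer ((P : Subgroup G) : Set G) ≤
      Subgroup.centralizer ((P : Subgroup G) : Set G) := fun g hg =>
    D1.mem_cC_of_mem S.card (hN ▸ hg)
  haveI : IsCyclic P := isCyclic_of_prime_card S.card
  letI := IsCyclic.commGroup (α := P)
  set f := MonoidHom.transferSylow P hle with hf
  have htop : f.ker = ⊤ := top_le_iff.mp (S.perfect ▸ Abelianization.commutator_subset_ker f)
  have h2 := MonoidHom.not_dvd_card_ker_transferSylow P hle
  rw [← hf, htop, Subgroup.card_top, S.card_G] at h2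
  exact h2 (dvd_mul_right p _)

theorem n_pos : 0 < n := by
  by_contra h0
  have hn : n = 0 := by omega
  have h1 : D1.cN P = ⊤ := by
    have h : Nat.card (Sylow p G) = (D1.cN P).index := P.card_eq_index_normalizer
    rw [← Subgroup.index_eq_one, ← h, S.sylows, hn, zero_mul, add_zero]
  haveI : (P : Subgroup G).Normal := Subgroup.normalizer_eq_top_iff.mp h1
  have h2 : (P : Subgroup G) = ⊤ := by
    have := S.eq_top_of_sup (K := (P : Subgroup G))
      (fun g => ⟨1, one_mem _, g, h1 ▸ Subgroup.mem_top g, (one_mul g).symm⟩)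
    rwa [sup_idem] at this
  have h3 := S.two_le_e
  have h4 := S.card_N
  rw [h1, ← h2, show Nat.card ↥(P : Subgroup G) = p from S.card] at h4
  have : 1 * p < einv P * p := Nat.mul_lt_mul_of_pos_right h3 hp.out.pos
  omega

theorem e_dvd : einv P ∣ p - 1 := by
  obtain ⟨M, hM⟩ := exists_isPModular hp.out
  haveI := hM.2.1.isPrime
  obtain ⟨X, Y, εX, ε, hdvd, -⟩ := D1.exists_principal_structure (M := M) hM P S.card S.relIndex_eq
  exact hdvd

theorem odd : Odd p := by
  refine hp.out.odd_of_ne_two fun h => ?_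
  have := Nat.le_of_dvd (by omega) S.e_dvd
  have := S.two_le_e
  omega

theorem three_le : 3 ≤ p := by
  obtain ⟨k, hk⟩ := S.odd
  have := hp.out.two_le
  omega

/-- The number of exceptional characters. -/
theorem t_spec : (p - 1) / einv P * einv P + 1 = p := by
  rw [Nat.div_mul_cancel S.e_dvd]
  have := hp.out.pos
  omega

theorem exists_conj {h : G} (hh : h ∈ D1.cN P) (hhP : h ∉ (P : Subgroup G)) {u : G}
    (hu : u ∈ (P : Subgroup G)) :
    ∃ v ∈ (P : Subgroup G), v * h * v⁻¹ = h * u := by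
  have hmem : ∀ v : (P : Subgroup G), h⁻¹ * (v : G) * h * (v : G)⁻¹ ∈ (P : Subgroup G) := fun v =>
    mul_mem (by simpa using (Subgroup.mem_normalizer_iff.mp (inv_mem hh) (v : G)).mp v.2) (inv_mem v.2)
  have hinj : Function.Injective fun v : (P : Subgroup G) =>
      (⟨_, hmem v⟩ : (P : Subgroup G)) := by
    intro a b hab
    by_contra hne
    have e : h⁻¹ * (a : G) * h * (a : G)⁻¹ = h⁻¹ * (b : G) * h * (b : G)⁻¹ := congrArg Subtype.val hab
    refine hhP (S.cent_of_mem (u := (b : G)⁻¹ * a) (mul_mem (inv_mem b.2) a.2)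
      (fun h1 => hne (Subtype.ext (inv_mul_eq_one.mp h1).symm)) ?_)
    have hc : (b : G)⁻¹ * a = (a : G) * (b : G)⁻¹ :=
      Subgroup.mem_centralizer_iff.mp (D1.mem_cC_of_mem S.card a.2) _ (inv_mem b.2)
    calc h * ((b : G)⁻¹ * a) = (b : G)⁻¹ * (b * h * (b : G)⁻¹) * a := by group
      _ = (b : G)⁻¹ * (h * (h⁻¹ * b * h * (b : G)⁻¹)) * a := by group
      _ = (b : G)⁻¹ * (h * (h⁻¹ * a * h * (a : G)⁻¹)) * a := by rw [e]
      _ = (b : G)⁻¹ * a * h := by group
  obtain ⟨v, hv⟩ := (Finite.injective_iff_surjective.mp hinj) ⟨u, hu⟩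
  have e : h⁻¹ * (v : G) * h * (v : G)⁻¹ = u := congrArg Subtype.val hv
  exact ⟨v, v.2, by rw [← e]; group⟩

theorem conj_of_mul {h : G} (hh : h ∈ D1.cN P) (hhP : h ∉ (P : Subgroup G)) {u : G}
    (hu : u ∈ (P : Subgroup G)) : IsConj (h * u) h := by
  obtain ⟨v, -, e⟩ := S.exists_conj hh hhP hu
  exact (isConj_iff.mpr ⟨v, e⟩).symm

theorem regular_of_mem {h : G} (hh : h ∈ D1.cN P) (hhP : h ∉ (P : Subgroup G)) :
    ¬ p ∣ orderOf h := by
  intro hd
  set x := h ^ (orderOf h / p) with hx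
  have hox : orderOf x = p := orderOf_pow_orderOf_div (orderOf_pos h).ne' hd
  have hxP : x ∈ (P : Subgroup G) := by
    haveI : ((P : Subgroup G).subgroupOf (D1.cN P)).Normal := Subgroup.normal_in_normalizer
    have hxN : x ∈ D1.cN P := pow_mem hh _
    rw [show x ∈ (P : Subgroup G) ↔ (⟨x, hxN⟩ : D1.cN P) ∈ (P : Subgroup G).subgroupOf (D1.cN P) from
      Iff.rfl, ← QuotientGroup.eq_one_iff, ← orderOf_eq_one_iff]
    have h1 : orderOf ((⟨x, hxN⟩ : D1.cN P) : D1.cN P ⧸ (P : Subgroup G).subgroupOf (D1.cN P)) ∣ p :=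
      (orderOf_map_dvd (QuotientGroup.mk' _) _).trans (dvd_of_eq (by rw [← Subgroup.orderOf_coe, hox]))
    rcases (Nat.dvd_prime hp.out).mp h1 with h' | h'
    · exact h'
    · have h2 := orderOf_dvd_natCard
        ((⟨x, hxN⟩ : D1.cN P) : D1.cN P ⧸ (P : Subgroup G).subgroupOf (D1.cN P))
      rw [h', show Nat.card (D1.cN P ⧸ (P : Subgroup G).subgroupOf (D1.cN P)) = einv P from ?_] at h2
      · have he0 : 0 < einv P := (Nat.succ_pos 1).trans_le S.two_le_e
        have h5 := Nat.le_of_dvd he0 h2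
        have h6 := Nat.le_of_dvd (Nat.sub_pos_of_lt hp.out.one_lt) S.e_dvd
        omega
      · rw [← S.relIndex_eq, S.cC_eq]; rfl
  refine hhP (S.cent_of_mem hxP (fun h1 => ?_) ((Commute.refl h).pow_right _).eq)
  rw [h1, orderOf_one] at hox
  exact hp.out.one_lt.ne hox

theorem not_divisor {y w : ℕ} (hy : p ∣ y - 1) (hy0 : 0 < y) (heq : y * w = einv P * (1 + n * p)) :
    y = 1 ∨ y = 1 + n * p := by
  obtain ⟨u, hu⟩ := hy
  have hyu : y = u * p + 1 := by rw [mul_comm, ← hu]; omega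
  subst hyu
  have he := S.two_le_e
  have hlt : einv P < p := by
    have := Nat.le_of_dvd (by have := S.three_le; omega) S.e_dvd
    omega
  have hmod : w % p = einv P := by
    have h1 := congrArg (· % p) heq
    simp only [Nat.mul_mod, Nat.add_mod, Nat.mul_mod_left, Nat.mod_eq_of_lt hp.out.one_lt, zero_add,
      add_zero, Nat.mod_mod, one_mul, mul_one, Nat.mod_eq_of_lt hlt] at h1
    simpa [Nat.mod_eq_of_lt hp.out.one_lt, Nat.mod_eq_of_lt hlt] using h1
  obtain ⟨h, rfl⟩ : ∃ h, w = h * p + einv P := ⟨w / p, by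
    have := Nat.div_add_mod w p
    rw [mul_comm, hmod] at this
    omega⟩
  rcases no_plus hp.out.pos S.t_spec S.nform heq with rfl | rfl
  · left; omega
  · right
    rw [zero_mul, zero_add, mul_comm (einv P)] at heq
    exact Nat.eq_of_mul_eq_mul_right (by omega) heq

theorem pprime_normal_eq_bot {K : Subgroup G} [K.Normal] (hK : ¬ p ∣ Nat.card K) : K = ⊥ := by
  have hcop : ∀ y, y ∈ K → y ∈ (P : Subgroup G) → y = 1 := by
    intro y hy hyP
    by_contra h1
    refine hK ?_
    have hd := Subgroup.orderOf_dvd_natCard (P : Subgroup G) hyP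
    rw [show Nat.card ↥(P : Subgroup G) = p from S.card] at hd
    rcases (Nat.dvd_prime hp.out).mp hd with h | h
    · exact absurd (orderOf_eq_one_iff.mp h) h1
    · exact h ▸ K.orderOf_dvd_natCard hy
  -- the conjugation action of `P` on `K`
  letI : MulAction (P : Subgroup G) K :=
    { smul := fun g k => ⟨(g : G) * k * (g : G)⁻¹, ‹K.Normal›.conj_mem _ k.2 _⟩
      one_smul := fun k => Subtype.ext (show (1 : G) * k * (1 : G)⁻¹ = k by simp)
      mul_smul := fun a b k => Subtype.ext (show ((a * b : (P : Subgroup G)) : G) * k * _ = _ by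
        show (a : G) * b * k * ((a : G) * b)⁻¹ = (a : G) * ((b : G) * k * (b : G)⁻¹) * (a : G)⁻¹
        group) }
  have hcong := P.isPGroup'.card_modEq_card_fixedPoints K
  have hfix : Nat.card (MulAction.fixedPoints (P : Subgroup G) K) = 1 := by
    refine Nat.card_eq_one_iff_unique.mpr ⟨⟨fun a b => ?_⟩,
      ⟨⟨1, fun g => Subtype.ext (show (g : G) * ((1 : K) : G) * (g : G)⁻¹ = ((1 : K) : G) by simp)⟩⟩⟩
    have key : ∀ c : MulAction.fixedPoints (P : Subgroup G) K, ((c : K) : G) = 1 := fun c =>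
      hcop _ (c : K).2 (S.cent _ fun y hy => by
        have e : y * ((c : K) : G) * y⁻¹ = ((c : K) : G) := congrArg Subtype.val (c.2 ⟨y, hy⟩)
        exact (mul_inv_eq_iff_eq_mul.mp e).symm)
    exact Subtype.ext (Subtype.ext ((key a).trans (key b).symm))
  rw [hfix] at hcong
  obtain ⟨w, hw⟩ : Nat.card K ∣ einv P * (1 + n * p) :=
    ((hp.out.coprime_iff_not_dvd.mpr hK).symm).dvd_of_dvd_mul_left
      (S.card_G ▸ Subgroup.card_subgroup_dvd_card K)
  rcases S.not_divisor ((Nat.modEq_iff_dvd' Nat.card_pos).mp hcong.symm) Nat.card_pos hw.symm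
    with h | h
  · exact Subgroup.eq_bot_of_card_eq _ h
  exfalso
  have hdisj : Disjoint K (D1.cN P) := by
    rw [Subgroup.disjoint_def]
    intro y hy hyN
    by_contra h1
    refine h1 (hcop y hy (S.cent y fun z hz => ?_))
    have hm : y * z * y⁻¹ * z⁻¹ ∈ K := by
      rw [show y * z * y⁻¹ * z⁻¹ = y * (z * y⁻¹ * z⁻¹) by group]
      exact mul_mem hy (‹K.Normal›.conj_mem _ (inv_mem hy) z)
    have hm' : y * z * y⁻¹ * z⁻¹ ∈ (P : Subgroup G) :=
      mul_mem ((Subgroup.mem_normalizer_iff.mp hyN z).mp hz) (inv_mem hz)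
    exact mul_inv_eq_iff_eq_mul.mp (mul_inv_eq_one.mp (hcop _ hm hm'))
  have hc : Subgroup.IsComplement' K (D1.cN P) :=
    Subgroup.isComplement'_of_card_mul_and_disjoint (by rw [S.card_N, h, S.card_G]; ring) hdisj
  have htop := S.eq_top_of_sup (K := K) fun g => by
    obtain ⟨⟨⟨a, ha⟩, ⟨b, hb⟩⟩, hab⟩ := hc.2 g
    exact ⟨a, ha, b, hb, hab.symm⟩
  have hle : Nat.card (D1.cN P) ≤ Nat.card (P : Subgroup G) := by
    refine Nat.le_of_eq (congrArg (fun L : Subgroup G => Nat.card L) (le_antisymm (fun y hy => ?_) S.P_le))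
    have hmem : y ∈ K ⊔ (P : Subgroup G) := htop ▸ Subgroup.mem_top y
    rw [← SetLike.mem_coe, Subgroup.normal_mul] at hmem
    obtain ⟨a, ha, b, hb, hab⟩ := Set.mem_mul.mp hmem
    have : a = 1 := Subgroup.disjoint_def.mp hdisj ha (by
      rw [eq_mul_inv_of_mul_eq hab]
      exact mul_mem hy (inv_mem (S.P_le hb)))
    rw [← hab, this, one_mul]
    exact hb
  rw [S.card_N, show Nat.card (P : Subgroup G) = p from S.card] at hle
  have := Nat.mul_lt_mul_of_pos_right S.two_le_e hp.out.pos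
  omega

theorem isSimple : IsSimpleGroup G := by
  haveI : Nontrivial G := by
    rw [← Finite.one_lt_card_iff_nontrivial, S.card_G]
    exact Nat.one_lt_iff_ne_zero_and_ne_one.mpr ⟨by
      have := S.two_le_e; have := hp.out.pos; positivity, fun h =>
      hp.out.one_lt.ne' (Nat.eq_one_of_mul_eq_one_right h)⟩
  refine ⟨fun K hK => ?_⟩
  by_cases hd : p ∣ Nat.card K
  · right
    have hle : (P : Subgroup G) ≤ K := by
      obtain ⟨y, hy⟩ := exists_prime_orderOf_dvd_card' p hd
      obtain ⟨R, hR⟩ := (IsPGroup.of_card (p := p) (n := 1) (G := Subgroup.zpowers (y : G))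
        (by rw [Nat.card_zpowers, Subgroup.orderOf_coe, hy, pow_one])).exists_le_sylow
      have hRK : (R : Subgroup G) ≤ K := by
        have h2 : Subgroup.zpowers (y : G) = (R : Subgroup G) := by
          refine Subgroup.eq_of_le_of_card_ge hR (le_of_eq ?_)
          rw [Nat.card_zpowers, Subgroup.orderOf_coe, hy]
          exact (Nat.card_congr (R.equiv P).toEquiv).trans S.card
        exact h2 ▸ Subgroup.zpowers_le.mpr y.2
      obtain ⟨g, hg⟩ := MulAction.exists_smul_eq G R P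
      intro z hz
      rw [← hg] at hz
      obtain ⟨w, hw, rfl⟩ := hz
      exact hK.conj_mem _ (hRK hw) g
    have htop := S.eq_top_of_sup (K := K) fun g => by
      have h := Subgroup.mem_top g
      rw [← Sylow.normalizer_sup_eq_top' P hle, sup_comm, ← SetLike.mem_coe, Subgroup.normal_mul] at h
      obtain ⟨a, ha, b, hb, hab⟩ := Set.mem_mul.mp h
      exact ⟨a, ha, b, hb, hab.symm⟩
    rwa [sup_eq_left.mpr hle] at htop
  · exact Or.inl (S.pprime_normal_eq_bot hd)

theorem eq_triv_of_deg {χ : IrrCharacter G} (h : deg (χ : G → ℂ) = 1) : χ = trivIrr G := by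
  refine Subtype.ext (funext fun g => ?_)
  have h1 : (χ : G → ℂ) 1 = 1 := by rw [deg_eq (isCharacter_of_isIrr χ.2), h, Nat.cast_one]
  exact (linear_trivial_on_commutator (isCharacter_of_isIrr χ.2) h1 g
    (S.perfect ▸ Subgroup.mem_top g)).trans h1

theorem faithful {χ : IrrCharacter G} (h : χ ≠ trivIrr G) {g : G}
    (hg : (χ : G → ℂ) g = (χ : G → ℂ) 1) : g = 1 := by
  haveI := S.isSimple
  have hc := isCharacter_of_isIrr χ.2
  have hn : (kerChar (χ : G → ℂ)).Normal := ⟨fun a ha x => by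
    rw [mem_kerChar_iff hc] at ha ⊢
    rw [isClassFunction_of_isIrr χ.2, ha]⟩
  rcases hn.eq_bot_or_eq_top with e | e
  · rw [← Subgroup.mem_bot, ← e, mem_kerChar_iff hc]; exact hg
  · exfalso
    have hall : ∀ x, (χ : G → ℂ) x = (χ : G → ℂ) 1 := fun x =>
      (mem_kerChar_iff hc).mp (e ▸ Subgroup.mem_top x)
    refine h (by_contra fun hne => ?_)
    have h0 := irr_inner_of_ne χ.2 (trivIrr G).2 (fun e => hne (Subtype.ext e))
    rw [classInner, Finset.sum_congr rfl (g := fun _ : G => (χ : G → ℂ) 1) fun x _ => by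
        rw [hall x]; simp [trivIrr], Finset.sum_const, Finset.card_univ, nsmul_eq_mul,
      ← Nat.card_eq_fintype_card, ← mul_assoc,
      inv_mul_cancel₀ (Nat.cast_ne_zero.mpr Nat.card_pos.ne'), one_mul] at h0
    exact irr_one_ne_zero χ.2 h0

end Setting

end Cfsg.Agent.Blocks.FewSylow
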