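import Cfsg.Agent.Lib.Blocks.FewSylow.Base
import Cfsg.Agent.Lib.CT.SmallFaithful.Main
import Mathlib.GroupTheory.Subgroup.Simple

/-!
# Simple groups whose order is less than the cube of one of its prime divisors
-/

set_option autoImplicit false
set_option linter.unusedSectionVars false

namespace Cfsg.Agent.Blocks.FewSylow

open scoped Cfsg.Agent.Blocks.D1 Classical ComplexConjugate commutatorElement
open CT MulAction

universe u

namespace Big

theorem plus_shape {p v e n u h : ℕ} (hp : 0 < p) (hlt : v * e * n < p)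
    (heq : (u * p + 1) * (h * p + v * e) = v * e * (1 + n * p)) : u = 0 ∨ h = 0 := by
  by_contra hne
  push Not at hne
  have h1 : u * (v * e) + h + u * h * p = v * e * n := by
    apply Nat.eq_of_mul_eq_mul_left hp
    linear_combination heq
  have : 1 * 1 * p ≤ u * h * p :=
    Nat.mul_le_mul_right p (Nat.mul_le_mul (Nat.pos_of_ne_zero hne.1) (Nat.pos_of_ne_zero hne.2))
  omega

theorem minus_shape {p v e n u k : ℕ} (hp : 2 ≤ p) (hlt : v * e * n < p) (hn : 2 ≤ n)
    (hu : 1 ≤ u) (hk : 1 ≤ k)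
    (heq : ((u : ℤ) * p - 1) * ((k : ℤ) * p - (v * e : ℕ)) = (v * e : ℕ) * (1 + n * p)) : u = 1 := by
  by_contra hne
  have h1 : ((u : ℤ) * k * p) = k + u * (v * e : ℕ) + (v * e : ℕ) * n := by
    apply mul_left_cancel₀ (show (p : ℤ) ≠ 0 by omega)
    linear_combination heq
  have h1' : u * k * p = k + u * (v * e) + v * e * n := by exact_mod_cast h1
  have hve : v * e * 2 ≤ v * e * n := Nat.mul_le_mul_left _ hn
  obtain ⟨u', rfl⟩ : ∃ u', u = u' + 2 := ⟨u - 2, by omega⟩
  obtain ⟨k', rfl⟩ : ∃ k', k = k' + 1 := ⟨k - 1, by omega⟩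
  obtain ⟨q, rfl⟩ : ∃ q, p = v * e * n + 1 + q := ⟨p - (v * e * n + 1), by omega⟩
  set a := v * e
  set b := a * n
  nlinarith only [h1', hve, Nat.zero_le (u' * k' * (b + 1 + q)), Nat.zero_le (u' * q),
    Nat.zero_le (k' * q), Nat.zero_le (k' * b), Nat.zero_le (u' * (b - 2 * a)), Nat.zero_le q,
    Nat.zero_le (u' * a), Nat.mul_le_mul_left u' hve, Nat.zero_le k', Nat.zero_le u']

theorem exc_plus {p v e n u h : ℕ} (hp : 0 < p) (hlt : v * e * n < p)
    (heq : (u * p + e) * (h * p + v) = v * e * (1 + n * p)) : u = 0 ∨ h = 0 := by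
  by_contra hne
  push Not at hne
  have h1 : u * v + h * e + u * h * p = v * e * n := by
    apply Nat.eq_of_mul_eq_mul_left hp
    linear_combination heq
  have : 1 * 1 * p ≤ u * h * p :=
    Nat.mul_le_mul_right p (Nat.mul_le_mul (Nat.pos_of_ne_zero hne.1) (Nat.pos_of_ne_zero hne.2))
  omega

theorem exc_minus {p v e n r k : ℕ} (hp : 0 < p) (hlt : v * e * n < p) (hn : 2 ≤ n) (hv : 2 ≤ v)
    (he : 2 ≤ e) (hr : 1 ≤ r) (hk : 1 ≤ k)
    (heq : ((r : ℤ) * p - e) * ((k : ℤ) * p - v) = (v * e : ℕ) * (1 + n * p)) : r = 1 ∧ k = 1 := by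
  have h1 : ((r : ℤ) * k * p) = r * v + k * e + (v * e : ℕ) * n := by
    apply mul_left_cancel₀ (show (p : ℤ) ≠ 0 by omega)
    push_cast
    push_cast at heq
    linear_combination heq
  have h1' : r * k * p = r * v + k * e + v * e * n := by exact_mod_cast h1
  have hve : v * e * 2 ≤ v * e * n := Nat.mul_le_mul_left _ hn
  have hsum : v + e ≤ v * e := Nat.add_le_mul hv he
  have h2 : r * k < 2 := by
    by_contra hge
    push Not at hge
    have h3 : r * v + k * e ≤ r * k * (v + e) := by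
      have := Nat.mul_le_mul_left (r * v) hk
      have := Nat.mul_le_mul_left (k * e) hr
      nlinarith
    have h4 : r * k * (2 * (v + e) + 1) ≤ r * k * p := Nat.mul_le_mul_left _ (by omega)
    have h5 : 2 * p ≤ r * k * p := Nat.mul_le_mul_right p hge
    nlinarith only [h1', h3, h4, h5, hlt, hge]
  constructor
  · have := Nat.le_mul_of_pos_right r (show 0 < k by omega); omega
  · have := Nat.le_mul_of_pos_left k (show 0 < r by omega); omega

theorem prod_false {p v e n : ℕ} (hv : 2 ≤ v) (he : 2 ≤ e) (hlt : v * e * n < p) (hn : 2 ≤ n)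
    (hprod : ((p : ℤ) - e) * ((p : ℤ) - v) = (v * e : ℕ) * (1 + n * p))
    (hdvd : ((p : ℤ) - 1) ∣ ((v * e : ℕ) : ℤ) * (1 + n * p)) : False := by
  rw [← hprod] at hdvd
  have h1 : ((p : ℤ) - 1) ∣ ((e : ℤ) - 1) * ((v : ℤ) - 1) := by
    have h2 : ((e : ℤ) - 1) * ((v : ℤ) - 1) =
        ((p : ℤ) - e) * ((p : ℤ) - v) - ((p : ℤ) - 1) * ((p : ℤ) - e - v + 1) := by ring
    rw [h2]
    exact dvd_sub hdvd (dvd_mul_right _ _)
  have he' : (2 : ℤ) ≤ e := by exact_mod_cast he
  have hv' : (2 : ℤ) ≤ v := by exact_mod_cast hv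
  have hpos : (0 : ℤ) < ((e : ℤ) - 1) * ((v : ℤ) - 1) := mul_pos (by linarith) (by linarith)
  have hle := Int.le_of_dvd hpos h1
  have hve : v * e * 2 ≤ v * e * n := Nat.mul_le_mul_left _ hn
  have hvz : ((v * e * 2 : ℕ) : ℤ) < p := by exact_mod_cast lt_of_le_of_lt hve hlt
  push_cast at hvz
  nlinarith

variable {p : ℕ} [hp : Fact p.Prime] {G : Type u} [Group G] [Fintype G] [IsSimpleGroup G]

theorem perfect (hnc : ¬ IsMulCommutative G) : commutator G = ⊤ := by
  rcases (inferInstance : (commutator G).Normal).eq_bot_or_eq_top with h | h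
  · refine absurd ⟨⟨fun a b => ?_⟩⟩ hnc
    have : ⁅a, b⁆ ∈ (⊥ : Subgroup G) :=
      h ▸ Subgroup.commutator_mem_commutator (Subgroup.mem_top a) (Subgroup.mem_top b)
    exact commutatorElement_eq_one_iff_mul_comm.mp (Subgroup.mem_bot.mp this)
  · exact h

theorem not_normal (hnc : ¬ IsMulCommutative G) (hdvd : p ∣ Nat.card G) (P : Sylow p G) :
    ¬ (P : Subgroup G).Normal := by
  intro hn
  haveI : Nontrivial ↥(P : Subgroup G) :=
    Finite.one_lt_card_iff_nontrivial.mp (hp.out.one_lt.trans_le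
      (Nat.le_of_dvd Nat.card_pos (P.dvd_card_of_dvd_card hdvd)))
  haveI := P.isPGroup'.center_nontrivial
  rcases hn.eq_bot_or_eq_top with h | h
  · obtain ⟨a, ha⟩ := exists_ne (1 : ↥(P : Subgroup G))
    have : (a : G) ∈ (⊥ : Subgroup G) := h ▸ a.2
    exact ha (Subtype.ext (Subgroup.mem_bot.mp this))
  · refine hnc ?_
    rcases (inferInstance : (Subgroup.center G).Normal).eq_bot_or_eq_top with hz | hz
    · exfalso
      obtain ⟨⟨a, ha⟩, ha1⟩ := exists_ne (1 : Subgroup.center ↥(P : Subgroup G))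
      have hmem : (a : G) ∈ Subgroup.center G := Subgroup.mem_center_iff.mpr fun g =>
        congrArg Subtype.val (Subgroup.mem_center_iff.mp ha ⟨g, h ▸ Subgroup.mem_top g⟩)
      rw [hz, Subgroup.mem_bot] at hmem
      exact ha1 (Subtype.ext (Subtype.ext hmem))
    · exact ⟨⟨fun a b => Subgroup.mem_center_iff.mp (hz ▸ Subgroup.mem_top b) a⟩⟩

theorem card_sylow (hnc : ¬ IsMulCommutative G) (hdvd : p ∣ Nat.card G)
    (hbig : Nat.card G < p ^ 3) (P : Sylow p G) : Nat.card P = p := by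
  have hP := P.card_eq_multiplicity
  set k := (Nat.card G).factorization p
  have hk1 : 1 ≤ k := (hp.out.dvd_iff_one_le_factorization Nat.card_pos.ne').mp hdvd
  have hk3 : k < 3 := by
    by_contra h
    have h1 : p ^ k ∣ Nat.card G := Nat.ordProj_dvd _ _
    have := Nat.le_of_dvd Nat.card_pos ((pow_dvd_pow p (show 3 ≤ k by omega)).trans h1)
    omega
  rcases Nat.lt_or_ge k 2 with h | h
  · rw [hP, show k = 1 by omega, pow_one]
  exfalso
  have hk2 : k = 2 := by omega
  have hidx : (P : Subgroup G).index < p := by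
    have h1 := Subgroup.card_mul_index (P : Subgroup G)
    rw [show Nat.card ↥(P : Subgroup G) = p ^ 2 from hk2 ▸ hP] at h1
    rw [← h1, pow_succ] at hbig
    exact Nat.lt_of_mul_lt_mul_left hbig
  have h2 : Nat.card (Sylow p G) = 1 := by
    have hle : Nat.card (Sylow p G) ≤ (P : Subgroup G).index :=
      Nat.le_of_dvd (Nat.pos_of_ne_zero Subgroup.index_ne_zero_of_finite) P.card_dvd_index
    have hm := card_sylow_modEq_one p G
    rw [Nat.ModEq, Nat.mod_eq_of_lt (hle.trans_lt hidx), Nat.mod_eq_of_lt hp.out.one_lt] at hm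
    exact hm
  haveI : Subsingleton (Sylow p G) := (Nat.card_eq_one_iff_unique.mp h2).1
  exact not_normal hnc hdvd P P.normal_of_subsingleton

theorem cC_eq (hnc : ¬ IsMulCommutative G) (hdvd : p ∣ Nat.card G) (hbig : Nat.card G < p ^ 3)
    (P : Sylow p G) :
    ∃ n, Setting P n := by
  have hP := card_sylow hnc hdvd hbig P
  have hperf := perfect hnc
  have hnn := not_normal hnc hdvd P
  have hle : (P : Subgroup G) ≤ D1.cC P := fun _ hz => D1.mem_cC_of_mem hP hz
  have hCN : D1.cC P ≤ D1.cN P := Subgroup.centralizer_le_normalizer _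
  obtain ⟨v, hv⟩ : p ∣ Nat.card (D1.cC P) := by
    have h := Subgroup.card_dvd_of_le hle
    rwa [show Nat.card ↥(P : Subgroup G) = p from hP] at h
  set e := (D1.cC P).relIndex (D1.cN P) with he
  have hN : Nat.card (D1.cN P) = p * v * e := by
    rw [← hv, ← Subgroup.card_mul_index ((D1.cC P).subgroupOf (D1.cN P)), card_subgroupOf hCN]
    rfl
  obtain ⟨n, hn⟩ : ∃ n, Nat.card (Sylow p G) = 1 + n * p :=
    ⟨Nat.card (Sylow p G) / p, by
      have h1 := card_sylow_modEq_one p G
      rw [Nat.ModEq, Nat.mod_eq_of_lt hp.out.one_lt] at h1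
      have := Nat.div_add_mod' (Nat.card (Sylow p G)) p
      omega⟩
  have hG : Nat.card G = p * (v * e * (1 + n * p)) := by
    have h : Nat.card (Sylow p G) = (D1.cN P).index := P.card_eq_index_normalizer
    rw [← Subgroup.card_mul_index (D1.cN P), ← h, hn, hN]
    ring
  have hv0 : v ≠ 0 := by rintro rfl; rw [mul_zero] at hv; exact Nat.card_pos.ne' hv
  have hn1 : 1 ≤ n := by
    by_contra h
    rw [show n = 0 by omega, zero_mul, add_zero] at hn
    haveI : Subsingleton (Sylow p G) := (Nat.card_eq_one_iff_unique.mp hn).1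
    exact hnn P.normal_of_subsingleton
  have he2 : 2 ≤ e := by
    by_contra hlt
    have he0 : e ≠ 0 := fun h => Nat.card_pos.ne' (hN.trans (by rw [h, mul_zero]))
    have h1 : D1.cN P ≤ D1.cC P := Subgroup.relIndex_eq_one.mp (show e = 1 by omega)
    haveI : IsCyclic P := isCyclic_of_prime_card hP
    letI := IsCyclic.commGroup (α := P)
    set f := MonoidHom.transferSylow P h1
    have htop : f.ker = ⊤ := top_le_iff.mp (hperf ▸ Abelianization.commutator_subset_ker f)
    have h2 := MonoidHom.not_dvd_card_ker_transferSylow P h1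
    rw [show (MonoidHom.transferSylow P h1).ker = ⊤ from htop, Subgroup.card_top] at h2
    exact h2 hdvd
  have hlt : v * e * n < p := by
    rw [hG, pow_succ' p 2] at hbig
    have h1 := Nat.lt_of_mul_lt_mul_left hbig
    rw [pow_two] at h1
    have h2 : v * e * n * p < p * p := lt_of_le_of_lt (by nlinarith) h1
    exact Nat.lt_of_mul_lt_mul_right h2
  suffices hC : D1.cC P = (P : Subgroup G) by
    refine ⟨n, hP, fun g hg => ?_, hperf, hn, nform_of_few ?_⟩
    · rw [← hC]
      exact Subgroup.mem_centralizer_iff.mpr fun y hy => (hg y hy).symm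
    · have : 1 * 2 * n ≤ v * e * n :=
        Nat.mul_le_mul_right n (Nat.mul_le_mul (Nat.pos_of_ne_zero hv0) he2)
      omega
  by_contra hne
  obtain ⟨c, hc, hcP⟩ : ∃ c ∈ D1.cC P, c ∉ (P : Subgroup G) := by
    by_contra hcon
    push Not at hcon
    exact hne (le_antisymm hcon hle)
  have hv2 : 2 ≤ v := by
    by_contra h
    refine hne (Subgroup.eq_of_le_of_card_ge hle (le_of_eq ?_)).symm
    rw [hv, show v = 1 by omega, mul_one]
    exact hP.symm
  -- two Sylow subgroups cannot be more than `p + 1` in number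
  have hn2 : 2 ≤ n := by
    by_contra h
    have hn' : n = 1 := by omega
    subst hn'
    obtain ⟨Q, hQ⟩ : ∃ Q : Sylow p G, Q ≠ P := by
      haveI : Nontrivial (Sylow p G) := Finite.one_lt_card_iff_nontrivial.mp (by
        rw [hn]; have := hp.out.pos; omega)
      exact exists_ne P
    have hfix : ∀ u ∈ (P : Subgroup G), u • P = P := fun u hu =>
      Sylow.smul_eq_iff_mem_normalizer.mpr (Subgroup.le_normalizer hu)
    have hinj : Function.Injective fun u : (P : Subgroup G) =>
        (⟨(u : G) • Q, fun h => hQ (smul_left_cancel _ (h.trans (hfix u u.2).symm))⟩ :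
          {R : Sylow p G // R ≠ P}) := by
      intro a b hab
      have h1 : (a : G) • Q = (b : G) • Q := congrArg Subtype.val hab
      by_contra hne'
      have hm : (b : G)⁻¹ * a ∈ (P : Subgroup G) := mul_mem (inv_mem b.2) a.2
      have hfixQ : ((b : G)⁻¹ * a) • Q = Q := by rw [mul_smul, h1, inv_smul_smul]
      have hzQ : (b : G)⁻¹ * a ∈ (Q : Subgroup G) :=
        ((P.isPGroup'.inf_normalizer_sylow Q).le
          ⟨hm, Sylow.smul_eq_iff_mem_normalizer.mp hfixQ⟩).2
      refine hQ (Sylow.ext (Subgroup.eq_of_le_of_card_ge (fun y hy => ?_)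
        (le_of_eq (Nat.card_congr (Q.equiv P).toEquiv))).symm)
      obtain ⟨i, hi⟩ := Subgroup.mem_zpowers_iff.mp
        (mem_zpowers_of_prime_card hP (g := (⟨_, hm⟩ : (P : Subgroup G)))
          (fun e' => hne' (Subtype.ext (inv_mul_eq_one.mp (congrArg Subtype.val e')).symm))
          (g' := ⟨y, hy⟩))
      have hi' : ((b : G)⁻¹ * a) ^ i = y := by simpa using congrArg Subtype.val hi
      rw [← hi']
      exact zpow_mem hzQ i
    have hbij := (Nat.bijective_iff_injective_and_card _).mpr ⟨hinj, by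
      rw [Nat.card_eq_fintype_card (α := {R : Sylow p G // R ≠ P}), Fintype.card_subtype_compl,
        Fintype.card_subtype_eq, ← Nat.card_eq_fintype_card, hn, one_mul, Nat.add_sub_cancel_left]
      exact hP⟩
    have hcPfix : c • P = P := Sylow.smul_eq_iff_mem_normalizer.mpr (hCN hc)
    obtain ⟨u, hu⟩ := hbij.2 ⟨c • Q, fun h => hQ (smul_left_cancel _ (h.trans hcPfix.symm))⟩
    have hu' : (u : G) • Q = c • Q := congrArg Subtype.val hu
    have hall : ∀ R : Sylow p G, ((u : G)⁻¹ * c) • R = R := by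
      intro R
      by_cases hR : R = P
      · rw [hR, mul_smul, hcPfix, hfix _ (inv_mem u.2)]
      · obtain ⟨w, hw⟩ := hbij.2 ⟨R, hR⟩
        have hw' : (w : G) • Q = R := congrArg Subtype.val hw
        have hcomm : (u : G)⁻¹ * c * w = w * ((u : G)⁻¹ * c) := by
          have e1 := Subgroup.mem_centralizer_iff.mp hc (w : G) w.2
          have e2 := Subgroup.mem_centralizer_iff.mp (hle (inv_mem u.2)) (w : G) w.2
          rw [mul_assoc, ← e1, ← mul_assoc, ← e2, mul_assoc]
        rw [← hw', smul_smul, hcomm, mul_smul, mul_smul (u : G)⁻¹, ← hu', inv_smul_smul]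
    rcases (MulAction.toPermHom G (Sylow p G)).normal_ker.eq_bot_or_eq_top with hk | hk
    · have hmem : (u : G)⁻¹ * c ∈ (MulAction.toPermHom G (Sylow p G)).ker :=
        MonoidHom.mem_ker.mpr (Equiv.ext hall)
      rw [hk, Subgroup.mem_bot, inv_mul_eq_one] at hmem
      exact hcP (hmem ▸ u.2)
    · refine hnn (Subgroup.normalizer_eq_top_iff.mp (top_le_iff.mp fun g _ => ?_))
      have hmem : g ∈ (MulAction.toPermHom G (Sylow p G)).ker := by rw [hk]; exact Subgroup.mem_top g
      exact Sylow.smul_eq_iff_mem_normalizer.mp (Equiv.congr_fun (MonoidHom.mem_ker.mp hmem) P)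
  obtain ⟨M, hM⟩ := exists_isPModular hp.out
  haveI := hM.2.1.isPrime
  obtain ⟨X₀, Y₀, εX, ε, hdvd', hXY, hdis, hXc, hYc, hX, hε, hY, hag, hrel⟩ :=
    D1.exists_principal_structure (M := M) hM P hP he.symm
  obtain ⟨T⟩ := D1.exists_setup P hP
  have hve : v * e * 2 ≤ v * e * n := Nat.mul_le_mul_left _ hn2
  have he_ve : 2 * e ≤ v * e := Nat.mul_le_mul_right e hv2
  have hv_ve : v * 2 ≤ v * e := Nat.mul_le_mul_left v he2
  have hprime : Prime (p : ℤ) := Nat.prime_iff_prime_int.mp hp.out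
  have hlin : ∀ χ : IrrCharacter G, deg (χ : G → ℂ) = 1 → χ = trivIrr G := by
    intro χ h
    refine Subtype.ext (funext fun g => ?_)
    have h1 : (χ : G → ℂ) 1 = 1 := by rw [deg_eq (isCharacter_of_isIrr χ.2), h, Nat.cast_one]
    exact (linear_trivial_on_commutator (isCharacter_of_isIrr χ.2) h1 g
      (hperf ▸ Subgroup.mem_top g)).trans h1
  have hdeg : ∀ (χ : IrrCharacter G), ¬ p ∣ deg (χ : G → ℂ) →
      ∃ w, deg (χ : G → ℂ) * w = v * e * (1 + n * p) := by
    intro χ hχ
    have h1 : deg (χ : G → ℂ) ∣ Nat.card G := charDegree_dvd_card χ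
    rw [hG] at h1
    obtain ⟨w, hw⟩ := ((hp.out.coprime_iff_not_dvd.mpr hχ).symm).dvd_of_dvd_mul_left h1
    exact ⟨w, hw.symm⟩
  have hclass : ∀ χ ∈ X₀, χ = trivIrr G ∨ (εX χ = 1 ∧ deg (χ : G → ℂ) = 1 + n * p) ∨
      (εX χ = -1 ∧ deg (χ : G → ℂ) = p - 1) := by
    intro χ hχ
    obtain ⟨hs, hmod, -⟩ := hX χ hχ
    have hmod' : (deg (χ : G → ℂ) : ℤ) ≡ εX χ [ZMOD p] := hmod
    obtain ⟨j, hj⟩ := Int.modEq_iff_dvd.mp hmod'
    have hpd : ¬ p ∣ deg (χ : G → ℂ) := by
      rintro ⟨d, hd⟩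
      rw [hd] at hj
      push_cast at hj
      have h1 : (p : ℤ) ∣ εX χ := ⟨j + d, by linarith⟩
      rcases hs with h | h <;> rw [h] at h1
      · exact hprime.not_dvd_one h1
      · exact hprime.not_dvd_one (Int.dvd_neg.mp h1)
    obtain ⟨w, hw⟩ := hdeg χ hpd
    have hwz : (deg (χ : G → ℂ) : ℤ) * w = ((v * e : ℕ) : ℤ) * (1 + n * p) := by exact_mod_cast hw
    rcases hs with h | h
    · rw [h] at hj
      obtain ⟨u, hu⟩ : p ∣ deg (χ : G → ℂ) - 1 := by
        rw [← Int.natCast_dvd_natCast, Nat.cast_sub (deg_pos χ.2), Nat.cast_one]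
        exact ⟨-j, by linarith⟩
      have hd : deg (χ : G → ℂ) = u * p + 1 := by
        have := deg_pos χ.2; rw [mul_comm, ← hu]; omega
      obtain ⟨i, hi⟩ : (p : ℤ) ∣ (w : ℤ) - (v * e : ℕ) := by
        rw [hd] at hwz
        push_cast at hwz ⊢
        exact ⟨(v : ℤ) * e * n - u * w, by linear_combination hwz⟩
      have hi0 : 0 ≤ i := by
        by_contra hi0
        have hneg : (p : ℤ) * i ≤ p * (-1) := mul_le_mul_of_nonneg_left (by omega) (by omega)
        omega
      obtain ⟨i', rfl⟩ := Int.eq_ofNat_of_zero_le hi0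
      have hw' : w = i' * p + v * e := by
        have : (w : ℤ) = ((i' * p + v * e : ℕ) : ℤ) := by push_cast at hi ⊢; linarith
        exact_mod_cast this
      rw [hd, hw'] at hw
      rcases plus_shape hp.out.pos hlt hw with h0 | h0
      · exact Or.inl (hlin χ (by rw [hd, h0]; simp))
      · refine Or.inr (Or.inl ⟨h, ?_⟩)
        rw [h0, zero_mul, zero_add, mul_comm (v * e) (1 + n * p)] at hw
        rw [hd]
        exact Nat.eq_of_mul_eq_mul_right (Nat.mul_pos (by omega) (by omega)) hw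
    · refine Or.inr (Or.inr ⟨h, ?_⟩)
      rw [h] at hj
      obtain ⟨u, hu⟩ : p ∣ deg (χ : G → ℂ) + 1 := by
        rw [← Int.natCast_dvd_natCast]
        push_cast
        exact ⟨-j, by linarith⟩
      have hd : (deg (χ : G → ℂ) : ℤ) = (u : ℤ) * p - 1 := by
        have : ((deg (χ : G → ℂ) + 1 : ℕ) : ℤ) = ((p * u : ℕ) : ℤ) := by rw [hu]
        push_cast at this
        linarith
      rw [hd] at hwz
      obtain ⟨k, hk⟩ : p ∣ w + v * e := by
        rw [← Int.natCast_dvd_natCast]
        push_cast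
        exact ⟨(u : ℤ) * w - v * e * n, by push_cast at hwz; linear_combination -hwz⟩
      have hwk : (w : ℤ) = (k : ℤ) * p - (v * e : ℕ) := by
        have : ((w + v * e : ℕ) : ℤ) = ((p * k : ℕ) : ℤ) := by rw [hk]
        push_cast at this ⊢
        linarith
      rw [hwk] at hwz
      have hu1 : 1 ≤ u := Nat.one_le_iff_ne_zero.mpr (by rintro rfl; omega)
      have hk1 : 1 ≤ k := Nat.one_le_iff_ne_zero.mpr (by
        rintro rfl
        rw [mul_zero] at hk
        have := Nat.mul_pos (show 0 < v by omega) (show 0 < e by omega)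
        omega)
      have := minus_shape hp.out.two_le hlt hn2 hu1 hk1 hwz
      subst this
      omega
  obtain ⟨ψ, hψ⟩ : Y₀.Nonempty := Set.nonempty_of_ncard_ne_zero (by
    rw [← Nat.card_coe_set_eq, hYc]
    exact (Nat.div_pos (Nat.le_of_dvd (Nat.sub_pos_of_lt hp.out.one_lt) hdvd') (by omega)).ne')
  set x := deg (ψ : G → ℂ) with hxdef
  have hxpos : 0 < x := deg_pos ψ.2
  have hxmod : (x : ℤ) ≡ ε * (e : ℤ) [ZMOD p] := hY ψ hψ
  obtain ⟨j, hj⟩ := Int.modEq_iff_dvd.mp hxmod
  have hx1 : x ≠ 1 := by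
    intro h
    rw [h] at hj
    have hd : (p : ℤ) ∣ ε * (e : ℤ) - 1 := ⟨j, by exact_mod_cast hj⟩
    rcases hε with h' | h' <;> rw [h'] at hd
    · rw [one_mul] at hd
      have := Int.le_of_dvd (by omega) hd
      omega
    · rw [neg_one_mul, ← dvd_neg, neg_sub, sub_neg_eq_add] at hd
      have := Int.le_of_dvd (by omega) hd
      omega
  have hψne : ψ ≠ trivIrr G := fun h => hx1 (by rw [hxdef, h]; simp [deg, trivIrr])
  have htriv : trivIrr G ∈ X₀ := by
    have h : trivIrr G ∈ principalBlock M G := trivIrr_mem_principalBlock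
    rw [hXY] at h
    refine h.resolve_right fun h' => hx1 ?_
    have e1 := hag ψ hψ _ h' 1 (by rw [orderOf_one]; exact hp.out.not_dvd_one)
    rw [deg_eq (isCharacter_of_isIrr ψ.2)] at e1
    simp only [trivIrr] at e1
    exact_mod_cast e1
  have hεtriv : εX (trivIrr G) = 1 := by
    obtain ⟨hs, hmod, -⟩ := hX _ htriv
    have h1 : charDegree ((trivIrr G : IrrCharacter G) : G → ℂ) = 1 := by simp [charDegree, trivIrr]
    rw [h1, Int.modEq_iff_dvd] at hmod
    rcases hs with h' | h'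
    · exact h'
    · exfalso
      rw [h'] at hmod
      have h2 : (p : ℤ) ∣ ((2 : ℕ) : ℤ) := by simpa using Int.dvd_neg.mpr hmod
      have := Nat.le_of_dvd two_pos (Int.natCast_dvd_natCast.mp h2)
      omega
  set R := X₀.toFinset.erase (trivIrr G) with hR
  have hRc : R.card + 1 = e := by
    rw [hR, Finset.card_erase_add_one (Set.mem_toFinset.mpr htriv), ← Nat.card_eq_card_toFinset]
    exact hXc
  have hrel1 : ε * (x : ℤ) = 1 + ∑ χ ∈ R, εX χ * (deg (χ : G → ℂ) : ℤ) := by
    have h := hrel ψ hψ 1 (by rw [orderOf_one]; exact hp.out.not_dvd_one)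
    rw [finsum_mem_eq_toFinset_sum, deg_eq (isCharacter_of_isIrr ψ.2), ← hxdef,
      ← Finset.add_sum_erase _ _ (Set.mem_toFinset.mpr htriv), ← hR, hεtriv,
      Finset.sum_congr rfl (g := fun χ : IrrCharacter G => ((εX χ * (deg (χ : G → ℂ) : ℤ) : ℤ) : ℂ))
        fun χ _ => by rw [deg_eq (isCharacter_of_isIrr χ.2)]; push_cast; ring] at h
    simp only [trivIrr, Int.cast_one, one_mul] at h
    exact_mod_cast h
  have hRcl : ∀ χ ∈ R, (εX χ = 1 ∧ deg (χ : G → ℂ) = 1 + n * p) ∨
      (εX χ = -1 ∧ deg (χ : G → ℂ) = p - 1) := fun χ hχ =>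
    (hclass χ (Set.mem_toFinset.mp (Finset.mem_of_mem_erase hχ))).resolve_left (Finset.ne_of_mem_erase hχ)
  have hpx : ¬ p ∣ x := by
    rintro ⟨d, hd⟩
    rw [hd] at hj
    push_cast at hj
    have h1 : (p : ℤ) ∣ ε * (e : ℤ) := ⟨j + d, by linarith⟩
    have h2 : (p : ℤ) ∣ (e : ℤ) := by rcases hε with h | h <;> rw [h] at h1 <;> simpa using h1
    have := Nat.le_of_dvd (by omega) (Int.natCast_dvd_natCast.mp h2)
    omega
  obtain ⟨w, hw⟩ := hdeg ψ hpx
  rw [← hxdef] at hw
  have hwz : (x : ℤ) * w = ((v * e : ℕ) : ℤ) * (1 + n * p) := by exact_mod_cast hw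
  push_cast at hwz
  rcases hε with h | h <;> subst h
  · -- degree `e`
    obtain ⟨i, hi⟩ : (p : ℤ) ∣ (w : ℤ) - v := by
      refine (hprime.dvd_mul.mp (show (p : ℤ) ∣ (e : ℤ) * ((w : ℤ) - v) from
        ⟨(v : ℤ) * e * n + j * w, by linear_combination hwz + (w : ℤ) * hj⟩)).resolve_left fun hd => ?_
      have := Nat.le_of_dvd (by omega) (Int.natCast_dvd_natCast.mp hd)
      omega
    have hi0 : 0 ≤ i := by
      by_contra hi0
      have hneg : (p : ℤ) * i ≤ p * (-1) := mul_le_mul_of_nonneg_left (by omega) (by omega)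
      omega
    obtain ⟨i', rfl⟩ := Int.eq_ofNat_of_zero_le hi0
    rw [one_mul] at hj
    have hj0 : j ≤ 0 := by
      by_contra hj0
      have hpos : (p : ℤ) * 1 ≤ p * j := mul_le_mul_of_nonneg_left (by omega) (by omega)
      omega
    obtain ⟨u, hu⟩ := Int.eq_ofNat_of_zero_le (neg_nonneg.mpr hj0)
    have hxu : x = u * p + e := by
      have : (x : ℤ) = ((u * p + e : ℕ) : ℤ) := by push_cast; rw [← hu]; linarith
      exact_mod_cast this
    have hwi : w = i' * p + v := by
      have : (w : ℤ) = ((i' * p + v : ℕ) : ℤ) := by push_cast; linarith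
      exact_mod_cast this
    rw [hxu, hwi] at hw
    have hsmall : x = e := by
      rcases exc_plus hp.out.pos hlt hw with h0 | h0
      · rw [hxu, h0, zero_mul, zero_add]
      exfalso
      rw [h0, zero_mul, zero_add, mul_comm, mul_assoc] at hw
      have hxv : x = e * (1 + n * p) := by
        rw [hxu]; exact Nat.eq_of_mul_eq_mul_left (show 0 < v by omega) hw
      have hb : (x : ℤ) ≤ 1 + (R.card : ℤ) * (1 + n * p) := by
        rw [one_mul] at hrel1
        rw [hrel1, ← nsmul_eq_mul, ← Finset.sum_const]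
        refine add_le_add le_rfl (Finset.sum_le_sum fun χ hχ => ?_)
        rcases hRcl χ hχ with ⟨h1, h2⟩ | ⟨h1, h2⟩ <;> rw [h1, h2]
        · push_cast; linarith
        · have : (0 : ℤ) ≤ (n : ℤ) * p := by positivity
          omega
      have hb' : x ≤ 1 + R.card * (1 + n * p) := by exact_mod_cast hb
      rw [hxv, ← hRc, Nat.add_mul, one_mul] at hb'
      have : 1 * p ≤ n * p := Nat.mul_le_mul_right p hn1
      have := hp.out.pos
      omega
    obtain ⟨z, hz⟩ := exists_prime_orderOf_dvd_card' (G := G) p hdvd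
    have hsq : ¬ p ^ 2 ∣ Nat.card G := by
      intro h
      rw [← Subgroup.card_mul_index (P : Subgroup G), show Nat.card ↥(P : Subgroup G) = p from hP,
        pow_two] at h
      exact P.not_dvd_index (Nat.dvd_of_mul_dvd_mul_left hp.out.pos h)
    have hker : ∀ g : G, (ψ : G → ℂ) g = (ψ : G → ℂ) 1 → g = 1 := by
      intro g hg
      have hc' := isCharacter_of_isIrr ψ.2
      have hn' : (kerChar (ψ : G → ℂ)).Normal := ⟨fun a ha y => by
        rw [mem_kerChar_iff hc'] at ha ⊢
        rw [isClassFunction_of_isIrr ψ.2, ha]⟩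
      rcases hn'.eq_bot_or_eq_top with e' | e'
      · rw [← Subgroup.mem_bot, ← e', mem_kerChar_iff hc']; exact hg
      · exfalso
        have hall : ∀ y, (ψ : G → ℂ) y = (ψ : G → ℂ) 1 := fun y =>
          (mem_kerChar_iff hc').mp (e' ▸ Subgroup.mem_top y)
        have h0 := irr_inner_of_ne ψ.2 (trivIrr G).2 (fun h' => hψne (Subtype.ext h'))
        rw [classInner, Finset.sum_congr rfl (g := fun _ : G => (ψ : G → ℂ) 1) fun y _ => by
            rw [hall y]; simp [trivIrr], Finset.sum_const, Finset.card_univ, nsmul_eq_mul,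
          ← Nat.card_eq_fintype_card, ← mul_assoc,
          inv_mul_cancel₀ (Nat.cast_ne_zero.mpr Nat.card_pos.ne'), one_mul] at h0
        exact irr_one_ne_zero ψ.2 h0
    have hnorm := CT.SmallFaithful.normal_zpowers (Nat.card G) G le_rfl hsq ψ
      (isCharacter_of_isIrr ψ.2) hker (by rw [← hxdef, hsmall]; omega) z hz
    rcases hnorm.eq_bot_or_eq_top with e' | e'
    · rw [Subgroup.zpowers_eq_bot] at e'
      rw [e', orderOf_one] at hz
      exact hp.out.one_lt.ne hz
    · refine hnc ⟨⟨fun a b => ?_⟩⟩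
      obtain ⟨r, rfl⟩ := Subgroup.mem_zpowers_iff.mp (e'.ge (Subgroup.mem_top a) : a ∈ Subgroup.zpowers z)
      obtain ⟨s, rfl⟩ := Subgroup.mem_zpowers_iff.mp (e'.ge (Subgroup.mem_top b) : b ∈ Subgroup.zpowers z)
      rw [← zpow_add, ← zpow_add, add_comm]
  · -- degree `p - e`
    obtain ⟨k, hk⟩ : (p : ℤ) ∣ (w : ℤ) + v := by
      refine (hprime.dvd_mul.mp (show (p : ℤ) ∣ (e : ℤ) * ((w : ℤ) + v) from
        ⟨-((v : ℤ) * e * n) - j * w, by linear_combination -hwz + (-(w : ℤ)) * hj⟩)).resolve_left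
          fun hd => ?_
      have := Nat.le_of_dvd (by omega) (Int.natCast_dvd_natCast.mp hd)
      omega
    have hk0 : 1 ≤ k := by
      by_contra hk0
      have hneg : (p : ℤ) * k ≤ p * 0 := mul_le_mul_of_nonneg_left (by omega) (by omega)
      omega
    have hj1 : j ≤ -1 := by
      by_contra hj1
      have hpos : (0 : ℤ) ≤ p * j := mul_nonneg (by omega) (by omega)
      omega
    obtain ⟨k', rfl⟩ := Int.eq_ofNat_of_zero_le (show 0 ≤ k by omega)
    obtain ⟨r, hr⟩ := Int.eq_ofNat_of_zero_le (show 0 ≤ -j by omega)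
    have hjr : j = -(r : ℤ) := by linarith
    subst hjr
    have hxz : (x : ℤ) = (r : ℤ) * p - e := by linarith
    have hwk : (w : ℤ) = (k' : ℤ) * p - v := by linarith
    obtain ⟨hr1, hk1⟩ := exc_minus hp.out.pos hlt hn2 hv2 he2 (show 1 ≤ r by omega)
      (show 1 ≤ k' by omega) (by rw [← hxz, ← hwk]; push_cast; exact hwz)
    subst hr1 hk1
    obtain ⟨θ, hθ, hθd⟩ : ∃ θ ∈ R, deg (θ : G → ℂ) = p - 1 := by
      by_contra hcon
      push Not at hcon
      have h0 : (0 : ℤ) ≤ ∑ χ ∈ R, εX χ * (deg (χ : G → ℂ) : ℤ) := by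
        refine Finset.sum_nonneg fun χ hχ => ?_
        rcases hRcl χ hχ with ⟨h1, -⟩ | ⟨-, h2⟩
        · rw [h1, one_mul]; exact Int.natCast_nonneg _
        · exact absurd h2 (hcon χ hχ)
      omega
    have hθp : ¬ p ∣ deg (θ : G → ℂ) := by
      rw [hθd]
      intro hd
      have := Nat.le_of_dvd (Nat.sub_pos_of_lt hp.out.one_lt) hd
      omega
    obtain ⟨w', hw'⟩ := hdeg θ hθp
    rw [hθd] at hw'
    refine prod_false (p := p) (n := n) hv2 he2 hlt hn2 ?_ ⟨(w' : ℤ), ?_⟩
    · push_cast at hxz hwk ⊢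
      rw [one_mul] at hxz hwk
      rw [← hxz, ← hwk]
      exact hwz
    · have : ((v * e * (1 + n * p) : ℕ) : ℤ) = (((p - 1) * w' : ℕ) : ℤ) := by rw [hw']
      push_cast [Nat.cast_sub (show 1 ≤ p from hp.out.pos)] at this ⊢
      exact this

end Big

end Cfsg.Agent.Blocks.FewSylow
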