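import Cfsg.Agent.Lib.Blocks.FewSylow.Base
import Cfsg.Agent.Lib.CT.SmallFaithful.Main

/-!
# The degrees in the principal block when there are few Sylow subgroups
-/

set_option autoImplicit false
set_option linter.unusedSectionVars false

namespace Cfsg.Agent.Blocks.FewSylow

open scoped Cfsg.Agent.Blocks.D1 Classical ComplexConjugate
open CT

universe u

variable {p : ℕ} [hp : Fact p.Prime] {G : Type u} [Group G] [Fintype G]

/-- The principal block outside the configuration with one exceptional degree `e`. -/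
structure CaseA (P : Sylow p G) (n : ℕ) where
  U : Finset (IrrCharacter G)
  XN : Finset (IrrCharacter G)
  Xθ : Finset (IrrCharacter G)
  c : ℕ
  c_pos : 0 < c
  deg_N : ∀ χ ∈ XN, deg (χ : G → ℂ) = 1 + n * p
  fix_N : ∀ χ ∈ XN, fix P (χ : G → ℂ) = n + 1
  deg_θ : ∀ χ ∈ Xθ, deg (χ : G → ℂ) = p - 1
  fix_θ : ∀ χ ∈ Xθ, fix P (χ : G → ℂ) = 0
  agree : ∀ ψ ∈ U, ∀ ψ' ∈ U, ∀ g : G, ¬ p ∣ orderOf g → (ψ : G → ℂ) g = (ψ' : G → ℂ) g
  rel : ∀ g : G, ¬ p ∣ orderOf g → ∑ ψ ∈ U, (ψ : G → ℂ) g +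
    (c : ℂ) * (1 + ∑ χ ∈ XN, (χ : G → ℂ) g - ∑ χ ∈ Xθ, (χ : G → ℂ) g) = 0
  fix_sum : ∑ ψ ∈ U, fix P (ψ : G → ℂ) + c * (1 + XN.card * (n + 1)) = c * einv P
  deg_U : U.Nonempty → ∑ ψ ∈ U, deg (ψ : G → ℂ) = 1 + n * p
  card_U : U.Nonempty → c = U.card ∧ ∑ ψ ∈ U, fix P (ψ : G → ℂ) = n + 1 ∧ c * einv P + 1 = p
  e_eq : U = ∅ → einv P + 1 = p

namespace Setting

variable {P : Sylow p G} {n : ℕ} (S : Setting P n)
include S

theorem deg_sq_le (χ : IrrCharacter G) : deg (χ : G → ℂ) ^ 2 ≤ Nat.card G := by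
  have h : ((∑ ψ : IrrCharacter G, deg (ψ : G → ℂ) ^ 2 : ℕ) : ℂ) = (Nat.card G : ℂ) := by
    push_cast
    rw [← sum_degree_sq]
    exact Finset.sum_congr rfl fun ψ _ => by rw [deg_eq (isCharacter_of_isIrr ψ.2)]
  rw [← Nat.cast_inj.mp h]
  exact Finset.single_le_sum (f := fun ψ : IrrCharacter G => deg (ψ : G → ℂ) ^ 2)
    (fun _ _ => Nat.zero_le _) (Finset.mem_univ χ)

theorem deg_mul {χ : IrrCharacter G} (h : ¬ p ∣ deg (χ : G → ℂ)) :
    ∃ w, deg (χ : G → ℂ) * w = einv P * (1 + n * p) := by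
  have h1 : deg (χ : G → ℂ) ∣ Nat.card G := charDegree_dvd_card χ
  rw [S.card_G] at h1
  obtain ⟨w, hw⟩ := ((hp.out.coprime_iff_not_dvd.mpr h).symm).dvd_of_dvd_mul_left h1
  exact ⟨w, hw.symm⟩

theorem deg_ne (χ : IrrCharacter G) : deg (χ : G → ℂ) ≠ einv P * (1 + n * p) := by
  intro h
  have h1 := S.deg_sq_le χ
  rw [h, S.card_G, pow_two] at h1
  have h2 := Nat.le_of_mul_le_mul_right h1 (Nat.mul_pos (by have := S.two_le_e; omega) (by omega))
  have h3 : 2 * (1 + 1 * p) ≤ einv P * (1 + n * p) :=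
    Nat.mul_le_mul S.two_le_e (Nat.add_le_add_left (Nat.mul_le_mul_right _ S.n_pos) _)
  omega

theorem minus_divisor {y w : ℕ} (hy : p ∣ y + 1) (hw : w ≠ 1)
    (heq : y * w = einv P * (1 + n * p)) : y = p - 1 := by
  obtain ⟨u, hu⟩ := hy
  have hpz : Prime (p : ℤ) := Nat.prime_iff_prime_int.mp hp.out
  have he := S.two_le_e
  have hte := S.t_spec
  set t := (p - 1) / einv P
  have hyu : (y : ℤ) = (u : ℤ) * p - 1 := by
    have : ((y + 1 : ℕ) : ℤ) = ((p * u : ℕ) : ℤ) := by rw [hu]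
    push_cast at this
    linarith
  have heqz : (y : ℤ) * w = einv P * (1 + n * p) := by exact_mod_cast heq
  have hdvd : (p : ℤ) ∣ w + einv P :=
    ⟨(u : ℤ) * w - einv P * n, by rw [hyu] at heqz; linear_combination -heqz⟩
  obtain ⟨k, hk⟩ := Int.natCast_dvd_natCast.mp (show ((p : ℕ) : ℤ) ∣ ((w + einv P : ℕ) : ℤ) by
    push_cast; exact hdvd)
  have hwk : (w : ℤ) = (k : ℤ) * p - einv P := by
    have : ((w + einv P : ℕ) : ℤ) = ((p * k : ℕ) : ℤ) := by rw [hk]
    push_cast at this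
    linarith
  have hw0 : 0 < (k : ℤ) * p - einv P := by
    rw [← hwk]
    have : w ≠ 0 := by
      rintro rfl
      rw [mul_zero] at heq
      exact absurd heq.symm (Nat.mul_ne_zero (by omega) (by omega))
    omega
  rw [hyu, hwk] at heqz
  rcases no_minus (u := u) (k := k) hp.out.two_le hte S.nform hw0 heqz with rfl | ⟨ht1, hk1⟩
  · have := hp.out.pos
    omega
  · exfalso
    rw [ht1, one_mul] at hte
    subst hk1
    omega

theorem deg_small {χ : IrrCharacter G} (h : χ ≠ trivIrr G) : p ≤ 2 * deg (χ : G → ℂ) + 1 := by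
  by_contra hlt
  push Not at hlt
  haveI := S.isSimple
  obtain ⟨x, hx⟩ := exists_prime_orderOf_dvd_card' (G := G) p (S.card_G ▸ dvd_mul_right p _)
  have hn := CT.SmallFaithful.normal_zpowers (Nat.card G) G le_rfl S.sq χ
    (isCharacter_of_isIrr χ.2) (fun g hg => S.faithful h hg) hlt x hx
  rcases hn.eq_bot_or_eq_top with e | e
  · rw [Subgroup.zpowers_eq_bot] at e
    rw [e, orderOf_one] at hx
    exact hp.out.one_lt.ne hx
  · have h1 := congrArg (fun L : Subgroup G => Nat.card L) e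
    simp only [Nat.card_zpowers, hx, Subgroup.card_top, S.card_G] at h1
    have h3 : einv P * (1 + n * p) = 1 :=
      Nat.eq_of_mul_eq_mul_left hp.out.pos (by rw [mul_one]; exact h1.symm)
    have := S.two_le_e
    have := Nat.eq_one_of_mul_eq_one_right h3
    omega

/-- The inequality forcing `n = 1` when some character has degree `e = (p - 1)/2`. -/
theorem n_eq_one {ψ : IrrCharacter G} (hd : deg (ψ : G → ℂ) = einv P) (hp2 : 2 * einv P + 1 = p)
    {XN : Finset (IrrCharacter G)} (htriv : trivIrr G ∉ XN)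
    (hN : ∀ χ ∈ XN, deg (χ : G → ℂ) = 1 + n * p)
    (hle : ∀ χ : IrrCharacter G,
      p * fix P (χ : G → ℂ) ≤ deg (χ : G → ℂ) + if χ = trivIrr G ∨ χ ∈ XN then p - 1 else 0) :
    n = 1 := by
  set π : G → ℂ := (ψ : G → ℂ) * fun g => conj ((ψ : G → ℂ) g) with hπdef
  have hψ := isCharacter_of_isIrr ψ.2
  have hπ : IsCharacter G π := isCharacter_mul hψ (isCharacter_conj hψ)
  have hdπ : deg π = einv P * einv P := by
    have h := deg_eq hπ
    rw [hπdef, Pi.mul_apply, deg_eq hψ, hd, map_natCast] at h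
    exact_mod_cast h.symm
  have hm1 : mult π (trivIrr G : G → ℂ) = 1 := by
    have h := mult_spec hπ (isCharacter_of_isIrr (trivIrr G).2)
    rw [show classInner π (trivIrr G : G → ℂ) = classInner (ψ : G → ℂ) (ψ : G → ℂ) by
      simp [classInner, hπdef, trivIrr], irr_inner_self ψ.2] at h
    exact_mod_cast h.symm
  have hP : ∀ a b : (P : Subgroup G), a * b = b * a := fun a b => Subtype.ext
    (Subgroup.mem_centralizer_iff.mp (D1.mem_cC_of_mem S.card b.2) _ a.2)
  -- the fixed space of `ψ ψ̄`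
  have hfix : einv P ≤ fix P π := by
    have hres := isCharacter_restrict (P : Subgroup G) hψ
    have hsum : einv P = ∑ c : IrrCharacter (P : Subgroup G),
        mult (fun y : (P : Subgroup G) => (ψ : G → ℂ) y) c := by
      have h := congrFun (character_eq_sum hres) 1
      simp only [Finset.sum_apply, Pi.smul_apply, smul_eq_mul, OneMemClass.coe_one, deg_eq hψ, hd,
        irr_degree_one_of_comm hP (Subtype.prop _), mul_one] at h
      exact_mod_cast h
    have hsq : fix P π = ∑ c : IrrCharacter (P : Subgroup G),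
        mult (fun y : (P : Subgroup G) => (ψ : G → ℂ) y) c ^ 2 := by
      have h := classInner_eq_sum (f := fun y : (P : Subgroup G) => (ψ : G → ℂ) y)
        (isClassFunction_of_isCharacter hres)
      rw [Finset.sum_congr rfl fun c _ => by
        rw [mult_spec hres (isCharacter_of_isIrr c.2), Complex.conj_natCast, ← pow_two]] at h
      have h2 : classInner (fun y : (P : Subgroup G) => π y) (fun _ => 1) = (fix P π : ℂ) :=
        mult_spec (isCharacter_restrict _ hπ) isCharacter_one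
      rw [show classInner (fun y : (P : Subgroup G) => π y) (fun _ => 1) =
        classInner (fun y : (P : Subgroup G) => (ψ : G → ℂ) y) (fun y => (ψ : G → ℂ) y) by
          simp [classInner, hπdef], h] at h2
      exact_mod_cast h2.symm
    rw [hsum, hsq]
    exact Finset.sum_le_sum fun c _ => Nat.le_self_pow two_ne_zero _
  have hlin : p * fix P π = ∑ χ : IrrCharacter G, mult π χ * (p * fix P (χ : G → ℂ)) := by
    have h := fix_spec P hπ
    rw [Finset.sum_congr rfl fun (y : (P : Subgroup G)) _ => congrFun (character_eq_sum hπ) (y : G)] at h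
    simp only [Finset.sum_apply, Pi.smul_apply, smul_eq_mul] at h
    rw [Finset.sum_comm] at h
    simp only [← Finset.mul_sum] at h
    simp only [← fix_spec P (isCharacter_of_isIrr (Subtype.prop _)),
      show Nat.card (P : Subgroup G) = p from S.card] at h
    exact_mod_cast h
  have hdeg : deg π = ∑ χ : IrrCharacter G, mult π χ * deg (χ : G → ℂ) := by
    have h := congrFun (character_eq_sum hπ) 1
    simp only [Finset.sum_apply, Pi.smul_apply, smul_eq_mul, deg_eq hπ,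
      deg_eq (isCharacter_of_isIrr (Subtype.prop _))] at h
    exact_mod_cast h
  set M := ∑ χ ∈ XN, mult π χ with hM
  have hset : (Finset.univ.filter fun χ : IrrCharacter G => χ = trivIrr G ∨ χ ∈ XN) =
      insert (trivIrr G) XN := by ext; simp
  have hub : p * fix P π ≤ deg π + (p - 1) * (1 + M) := by
    rw [hlin, hdeg, show (p - 1) * (1 + M) = ∑ χ : IrrCharacter G,
        mult π χ * (if χ = trivIrr G ∨ χ ∈ XN then p - 1 else 0) by
      rw [Finset.sum_congr rfl fun χ _ => mul_ite _ _ _ _]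
      simp only [mul_zero]
      rw [← Finset.sum_filter, hset, Finset.sum_insert htriv, hm1, hM, mul_add, Finset.mul_sum,
        mul_one, one_mul]
      exact congrArg _ (Finset.sum_congr rfl fun χ _ => mul_comm _ _), ← Finset.sum_add_distrib]
    exact Finset.sum_le_sum fun χ _ => by
      rw [← Nat.mul_add]; exact Nat.mul_le_mul_left _ (hle χ)
  have hlb : 1 + M * (1 + n * p) ≤ deg π := by
    rw [hdeg, hM, Finset.sum_mul]
    refine le_trans (le_of_eq ?_)
      (Finset.sum_le_sum_of_subset (Finset.subset_univ (insert (trivIrr G) XN)))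
    have h1 : deg ((trivIrr G : IrrCharacter G) : G → ℂ) = 1 := by simp [deg, trivIrr]
    rw [Finset.sum_insert htriv, hm1, h1, one_mul]
    exact congrArg _ (Finset.sum_congr rfl fun χ hχ => by rw [hN χ hχ])
  have he := S.two_le_e
  have hn0 := S.n_pos
  have h3 : p * einv P ≤ einv P * einv P + (p - 1) * (1 + M) :=
    hdπ ▸ (Nat.mul_le_mul_left p hfix).trans hub
  rw [hdπ] at hlb
  obtain ⟨k, hk⟩ : ∃ k, einv P = k + 2 := ⟨einv P - 2, by omega⟩
  rw [show p - 1 = 2 * einv P by omega, hk] at h3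
  rw [hk] at hlb
  have hp' : p = 2 * (k + 2) + 1 := by rw [← hk]; exact hp2.symm
  have hkM : k + 1 ≤ 2 * M := by
    have : (k + 2) * (k + 3) ≤ (k + 2) * (2 * (1 + M)) := by nlinarith only [h3, hp']
    have := Nat.le_of_mul_le_mul_left this (by omega)
    omega
  by_contra hne
  have hn2 : 2 ≤ n := by omega
  have : (k + 1) * (1 + 2 * p) ≤ 2 * M * (1 + n * p) :=
    Nat.mul_le_mul hkM (Nat.add_le_add_left (Nat.mul_le_mul_right _ hn2) _)
  nlinarith only [this, hlb, hp']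

/-- The dichotomy for the principal block. -/
theorem dichotomy : (n = 1 ∧ 2 * einv P + 1 = p) ∨ Nonempty (CaseA P n) := by
  obtain ⟨M, hM⟩ := exists_isPModular hp.out
  haveI := hM.2.1.isPrime
  obtain ⟨X₀, Y₀, εX, ε, hdvd, hXY, hdis, hXc, hYc, hX, hε, hY, hag, hrel⟩ :=
    D1.exists_principal_structure (M := M) hM P S.card S.relIndex_eq
  obtain ⟨T⟩ := D1.exists_setup P S.card
  set X : Finset (IrrCharacter G) := X₀.toFinset with hXdef
  set Y : Finset (IrrCharacter G) := Y₀.toFinset with hYdef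
  have hXc' : X.card = einv P := by
    rw [hXdef, ← Nat.card_eq_card_toFinset]; exact hXc
  have hYc' : Y.card = (p - 1) / einv P := by
    rw [hYdef, ← Nat.card_eq_card_toFinset]; exact hYc
  have hp2 := hp.out.two_le
  have he := S.two_le_e
  have hte := S.t_spec
  set t := (p - 1) / einv P with htdef
  have hmem : ∀ χ : IrrCharacter G, ¬ p ∣ deg (χ : G → ℂ) → χ ∈ X ∪ Y := by
    intro χ hχ
    obtain ⟨θ, hθ, hblk⟩ := D1.exists_blk_eq T hM (χ := χ) hχ
    have hθ1 : θ = trivIrr (D1.cC P) := by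
      have hc : ∀ a b : D1.cC P, a * b = b * a := fun a b => Subtype.ext
        (Subgroup.mem_centralizer_iff.mp b.2 _ (S.cC_eq ▸ a.2))
      refine Subtype.ext (funext fun c => ?_)
      rw [hθ c (S.cC_eq ▸ c.2), irr_degree_one_of_comm hc θ.2]
      rfl
    have hdef : InducedBlockDefined M (D1.cC P) (principalBlock M (D1.cC P)) :=
      exists_inducedBlock hM P.2 T.P_le_cC le_rfl (Subgroup.centralizer_le_normalizer _)
        isPBlock_principalBlock
    have hind := (third_main hM hdef).mpr rfl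
    obtain ⟨hb, -⟩ := D1.blk_spec T hM θ
    have he2 : blockOf M (θ : D1.cC P → ℂ) = principalBlock M (D1.cC P) := by
      rw [hθ1]
      exact block_eq_of_mem (isPBlock_blockOf _) isPBlock_principalBlock (self_mem_blockOf _)
        trivIrr_mem_principalBlock
    rw [he2] at hb
    have h := self_mem_blockOf (M := M) χ
    rw [← hblk, inducedBlock_unique hb hind, hXY] at h
    simpa [hXdef, hYdef] using h
  have hdisj : Disjoint X Y := by
    rw [hXdef, hYdef, Set.disjoint_toFinset]; exact hdis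
  have hout : ∀ χ : IrrCharacter G, χ ∉ X ∪ Y → ∀ z ∈ (P : Subgroup G), z ≠ 1 →
      (χ : G → ℂ) z = 0 := by
    intro χ hχ z hz hz1
    have hd : p ∣ deg (χ : G → ℂ) := by_contra fun h => hχ (hmem χ h)
    refine ClassSum.char_eq_zero_of_defZero hp.out χ (by rw [S.factorization, pow_one]; exact hd) ?_
    have h1 := Subgroup.orderOf_dvd_natCard (P : Subgroup G) hz
    rw [show Nat.card ↥(P : Subgroup G) = p from S.card] at h1
    rcases (Nat.dvd_prime hp.out).mp h1 with h2 | h2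
    · exact absurd (orderOf_eq_one_iff.mp h2) hz1
    · exact dvd_of_eq h2.symm
  have hXv : ∀ χ ∈ X, ∀ z ∈ (P : Subgroup G), z ≠ 1 → (χ : G → ℂ) z = (εX χ : ℂ) := by
    intro χ hχ z hz hz1
    have h := (hX χ (Set.mem_toFinset.mp hχ)).2.2 z hz hz1 1 (one_mem _)
      (by rw [orderOf_one]; exact hp.out.not_dvd_one)
    rwa [mul_one] at h
  have hreg1 : ¬ p ∣ orderOf (1 : G) := by rw [orderOf_one]; exact hp.out.not_dvd_one
  have hrel' : ∀ ψ ∈ Y, ∀ g : G, ¬ p ∣ orderOf g →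
      (ε : ℂ) * (ψ : G → ℂ) g = ∑ χ ∈ X, (εX χ : ℂ) * (χ : G → ℂ) g := by
    intro ψ hψ g hg
    rw [hrel ψ (Set.mem_toFinset.mp hψ) g hg, finsum_mem_eq_toFinset_sum]
  have hεε : (ε : ℂ) * ε = 1 := by rcases hε with h | h <;> simp [h]
  have hψY : ∀ ψ ∈ Y, ∀ ψ' ∈ Y, ∀ g : G, ¬ p ∣ orderOf g → (ψ : G → ℂ) g = (ψ' : G → ℂ) g :=
    fun ψ h ψ' h' => hag ψ (Set.mem_toFinset.mp h) ψ' (Set.mem_toFinset.mp h')
  have hYne : Y.Nonempty := by
    rw [← Finset.card_pos, hYc']
    rcases Nat.eq_zero_or_pos t with h | h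
    · rw [h] at hte; omega
    · exact h
  obtain ⟨ψ₀, hψ₀⟩ := hYne
  set x := deg (ψ₀ : G → ℂ) with hxdef
  have hxpos : 0 < x := deg_pos ψ₀.2
  have hYx : ∀ ψ ∈ Y, deg (ψ : G → ℂ) = x := fun ψ hψ => by
    have h := hψY ψ hψ ψ₀ hψ₀ 1 hreg1
    rw [deg_eq (isCharacter_of_isIrr ψ.2), deg_eq (isCharacter_of_isIrr ψ₀.2)] at h
    exact_mod_cast h
  have hX1 : ∑ χ ∈ X, (εX χ : ℂ) * (deg (χ : G → ℂ) : ℂ) = (ε : ℂ) * x := by
    have h := hrel' ψ₀ hψ₀ 1 hreg1
    rw [deg_eq (isCharacter_of_isIrr ψ₀.2)] at h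
    rw [hxdef, h]
    exact Finset.sum_congr rfl fun χ _ => by rw [deg_eq (isCharacter_of_isIrr χ.2)]
  -- the sum of the exceptional values
  have hYsum : ∀ z ∈ (P : Subgroup G), z ≠ 1 → ∑ ψ ∈ Y, (ψ : G → ℂ) z = -(ε : ℂ) := by
    intro z hz hz1
    have h := regular_eq_sum (G := G) z
    rw [if_neg hz1, ← Finset.sum_subset (Finset.subset_univ (X ∪ Y)) (fun χ _ hχ => by
        rw [hout χ hχ z hz hz1, mul_zero]), Finset.sum_union hdisj,
      Finset.sum_congr rfl fun χ hχ => by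
        rw [deg_eq (isCharacter_of_isIrr χ.2), hXv χ hχ z hz hz1, mul_comm],
      hX1, Finset.sum_congr rfl fun ψ hψ => by rw [deg_eq (isCharacter_of_isIrr ψ.2), hYx ψ hψ],
      ← Finset.mul_sum] at h
    refine mul_left_cancel₀ (show (x : ℂ) ≠ 0 from Nat.cast_ne_zero.mpr hxpos.ne') ?_
    linear_combination h
  have hPcard : (Finset.univ : Finset (P : Subgroup G)).card = p ∧
      ∀ f : ↥(P : Subgroup G) → ℂ, ∑ y, f y = f 1 + ∑ y ∈ Finset.univ.erase 1, f y := by
    refine ⟨?_, fun f => (Finset.add_sum_erase _ f (Finset.mem_univ 1)).symm⟩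
    rw [Finset.card_univ, ← Nat.card_eq_fintype_card]; exact S.card
  have hPne : ∀ y ∈ (Finset.univ : Finset (P : Subgroup G)).erase 1, (y : G) ≠ 1 := fun y hy e =>
    (Finset.mem_erase.mp hy).1 (Subtype.ext e)
  have hfixv : ∀ (χ : IrrCharacter G) (s : ℤ),
      (∀ z ∈ (P : Subgroup G), z ≠ 1 → (χ : G → ℂ) z = (s : ℂ)) →
      (p : ℤ) * fix P (χ : G → ℂ) = deg (χ : G → ℂ) + ((p : ℤ) - 1) * s := by
    intro χ s hs
    have h := fix_spec P (isCharacter_of_isIrr χ.2)
    rw [hPcard.2, Finset.sum_congr rfl fun (y : ↥(P : Subgroup G)) hy => hs y y.2 (hPne y hy), Finset.sum_const,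
      Finset.card_erase_of_mem (Finset.mem_univ _), hPcard.1, OneMemClass.coe_one,
      deg_eq (isCharacter_of_isIrr χ.2), nsmul_eq_mul, Nat.cast_sub (by omega), Nat.cast_one,
      show Nat.card P = p from S.card] at h
    exact_mod_cast h
  have hfixY : (p : ℤ) * ∑ ψ ∈ Y, (fix P (ψ : G → ℂ) : ℤ) = t * x - ((p : ℤ) - 1) * ε := by
    have h : (p : ℂ) * ∑ ψ ∈ Y, (fix P (ψ : G → ℂ) : ℂ) =
        ∑ ψ ∈ Y, ∑ y : (P : Subgroup G), (ψ : G → ℂ) y := by
      rw [Finset.mul_sum]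
      exact Finset.sum_congr rfl fun ψ _ => by
        rw [← fix_spec P (isCharacter_of_isIrr ψ.2), show Nat.card P = p from S.card]
    rw [Finset.sum_comm, hPcard.2, OneMemClass.coe_one,
      Finset.sum_congr rfl fun (y : ↥(P : Subgroup G)) hy => hYsum y y.2 (hPne y hy),
      show ∑ ψ ∈ Y, (ψ : G → ℂ) 1 = (t : ℂ) * x by
        rw [← hYc', ← nsmul_eq_mul, ← Finset.sum_const]
        exact Finset.sum_congr rfl fun ψ hψ => by rw [deg_eq (isCharacter_of_isIrr ψ.2), hYx ψ hψ],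
      Finset.sum_const, Finset.card_erase_of_mem (Finset.mem_univ _), hPcard.1,
      nsmul_eq_mul, Nat.cast_sub (by omega), Nat.cast_one, mul_neg, ← sub_eq_add_neg] at h
    exact_mod_cast h
  -- degrees by sign
  have hclass : ∀ (χ : IrrCharacter G) (s : ℤ), (s = 1 ∨ s = -1) →
      (deg (χ : G → ℂ) : ℤ) ≡ s [ZMOD p] →
      (s = 1 ∧ (χ = trivIrr G ∨ deg (χ : G → ℂ) = 1 + n * p)) ∨
        (s = -1 ∧ deg (χ : G → ℂ) = p - 1) := by
    intro χ s hs hmod
    have hpd : ¬ p ∣ deg (χ : G → ℂ) := by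
      intro hd
      have h1 : (p : ℤ) ∣ s := (Int.ModEq.dvd_iff hmod).mp (Int.natCast_dvd_natCast.mpr hd)
      rcases hs with rfl | rfl
      · exact hp.out.not_dvd_one (by exact_mod_cast h1)
      · exact hp.out.not_dvd_one (by exact_mod_cast Int.dvd_neg.mp h1)
    obtain ⟨w, hw⟩ := S.deg_mul hpd
    have hd0 := deg_pos χ.2
    rcases hs with rfl | rfl
    · left
      refine ⟨rfl, ?_⟩
      have hd : p ∣ deg (χ : G → ℂ) - 1 := by
        rw [← Int.natCast_dvd_natCast, Nat.cast_sub hd0, Nat.cast_one]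
        exact Int.modEq_iff_dvd.mp hmod.symm
      rcases S.not_divisor hd hd0 hw with h | h
      · exact Or.inl (S.eq_triv_of_deg h)
      · exact Or.inr h
    · right
      refine ⟨rfl, S.minus_divisor (w := w) ?_ (fun h => S.deg_ne χ (by rw [h, mul_one] at hw; exact hw)) hw⟩
      rw [← Int.natCast_dvd_natCast, Nat.cast_add, Nat.cast_one]
      have := Int.modEq_iff_dvd.mp hmod.symm
      simpa [sub_neg_eq_add] using this
  have htriv1 : deg ((trivIrr G : IrrCharacter G) : G → ℂ) = 1 := by simp [deg, trivIrr]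
  obtain ⟨z₀, hz₀, hz₁⟩ : ∃ z ∈ (P : Subgroup G), z ≠ 1 :=
    ⟨T.x, T.x_mem_P, fun e => hp.out.one_lt.ne (by rw [← T.hx, e, orderOf_one])⟩
  -- splitting a signed set
  have hsplit : ∀ (X' : Finset (IrrCharacter G)) (s : IrrCharacter G → ℤ), trivIrr G ∈ X' →
      (∀ χ ∈ X', (s χ = 1 ∨ s χ = -1) ∧ (deg (χ : G → ℂ) : ℤ) ≡ s χ [ZMOD p] ∧
        ∀ z ∈ (P : Subgroup G), z ≠ 1 → (χ : G → ℂ) z = (s χ : ℂ)) →
      ∃ XN Xθ : Finset (IrrCharacter G), trivIrr G ∉ XN ∧
        (∀ χ ∈ XN, deg (χ : G → ℂ) = 1 + n * p ∧ fix P (χ : G → ℂ) = n + 1) ∧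
        (∀ χ ∈ Xθ, deg (χ : G → ℂ) = p - 1 ∧ fix P (χ : G → ℂ) = 0) ∧
        1 + XN.card + Xθ.card = X'.card ∧
        (∀ χ ∈ X', χ = trivIrr G ∨ χ ∈ XN ∨ χ ∈ Xθ) ∧
        ∀ g, ∑ χ ∈ X', (s χ : ℂ) * (χ : G → ℂ) g =
          1 + ∑ χ ∈ XN, (χ : G → ℂ) g - ∑ χ ∈ Xθ, (χ : G → ℂ) g := by
    intro X' s h1 hall
    have hs1 : s (trivIrr G) = 1 := by
      have h := (hall _ h1).2.2 z₀ hz₀ hz₁
      have h' : ((1 : ℤ) : ℂ) = (s (trivIrr G) : ℂ) := by rw [← h]; simp [trivIrr]
      exact_mod_cast h'.symm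
    set R := X'.erase (trivIrr G) with hR
    refine ⟨R.filter fun χ => s χ = 1, R.filter fun χ => ¬ s χ = 1, by simp [hR], fun χ hχ => ?_,
      fun χ hχ => ?_, ?_, fun χ hχ => ?_, fun g => ?_⟩
    · obtain ⟨hχR, hsχ⟩ := Finset.mem_filter.mp hχ
      obtain ⟨hne, hχX⟩ := Finset.mem_erase.mp hχR
      obtain ⟨hs, hmod, hv⟩ := hall χ hχX
      rcases hclass χ _ hs hmod with ⟨-, h | h⟩ | ⟨h, -⟩
      · exact absurd h hne
      · refine ⟨h, ?_⟩
        have e := hfixv χ _ hv
        rw [h, hsχ] at e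
        push_cast at e
        have e' : (p : ℤ) * fix P (χ : G → ℂ) = (p : ℤ) * (n + 1 : ℕ) := by
          rw [e]; push_cast; ring
        exact_mod_cast mul_left_cancel₀ (Nat.cast_ne_zero.mpr hp.out.ne_zero) e'
      · rw [hsχ] at h; exact absurd h (by norm_num)
    · obtain ⟨hχR, hsχ⟩ := Finset.mem_filter.mp hχ
      obtain ⟨hne, hχX⟩ := Finset.mem_erase.mp hχR
      obtain ⟨hs, hmod, hv⟩ := hall χ hχX
      rcases hclass χ _ hs hmod with ⟨h, -⟩ | ⟨h, h'⟩
      · exact absurd h hsχ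
      · refine ⟨h', ?_⟩
        have e := hfixv χ _ hv
        rw [h', h, Nat.cast_sub (by omega), Nat.cast_one] at e
        have e' : (p : ℤ) * fix P (χ : G → ℂ) = 0 := by rw [e]; ring
        have := (mul_eq_zero.mp e').resolve_left (Nat.cast_ne_zero.mpr hp.out.ne_zero)
        exact_mod_cast this
    · rw [add_assoc, Finset.card_filter_add_card_filter_not, hR, Finset.card_erase_of_mem h1]
      have := Finset.card_pos.mpr ⟨_, h1⟩
      omega
    · by_cases h : χ = trivIrr G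
      · exact Or.inl h
      · right
        simp only [Finset.mem_filter, hR, Finset.mem_erase]
        by_cases h' : s χ = 1
        · exact Or.inl ⟨⟨h, hχ⟩, h'⟩
        · exact Or.inr ⟨⟨h, hχ⟩, h'⟩
    · rw [← Finset.add_sum_erase _ _ h1, hs1, ← hR,
        ← Finset.sum_filter_add_sum_filter_not R (fun χ => s χ = 1),
        Finset.sum_congr rfl (g := fun χ : IrrCharacter G => (χ : G → ℂ) g) fun χ hχ => by
          rw [(Finset.mem_filter.mp hχ).2, Int.cast_one, one_mul],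
        Finset.sum_congr rfl (s₁ := R.filter fun χ => ¬ s χ = 1)
          (g := fun χ : IrrCharacter G => -(χ : G → ℂ) g) fun χ hχ => by
          obtain ⟨hχR, hsχ⟩ := Finset.mem_filter.mp hχ
          rw [(hall χ (Finset.mem_of_mem_erase hχR)).1.resolve_left hsχ, Int.cast_neg, Int.cast_one,
            neg_one_mul],
        Finset.sum_neg_distrib]
      simp [trivIrr]
      ring
  have hsumdeg : ∀ (XN Xθ : Finset (IrrCharacter G)),
      (∀ χ ∈ XN, deg (χ : G → ℂ) = 1 + n * p ∧ fix P (χ : G → ℂ) = n + 1) →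
      (∀ χ ∈ Xθ, deg (χ : G → ℂ) = p - 1 ∧ fix P (χ : G → ℂ) = 0) →
      (1 : ℂ) + ∑ χ ∈ XN, (χ : G → ℂ) 1 - ∑ χ ∈ Xθ, (χ : G → ℂ) 1 =
        ((1 + XN.card * (1 + n * p) - Xθ.card * ((p : ℤ) - 1) : ℤ) : ℂ) := by
    intro XN Xθ h1 h2
    have e1 : ∑ χ ∈ XN, (χ : G → ℂ) 1 = (XN.card : ℂ) * ((1 + n * p : ℕ) : ℂ) := by
      rw [← nsmul_eq_mul, ← Finset.sum_const]
      exact Finset.sum_congr rfl fun χ hχ => by rw [deg_eq (isCharacter_of_isIrr χ.2), (h1 χ hχ).1]
    have e2 : ∑ χ ∈ Xθ, (χ : G → ℂ) 1 = (Xθ.card : ℂ) * ((p - 1 : ℕ) : ℂ) := by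
      rw [← nsmul_eq_mul, ← Finset.sum_const]
      exact Finset.sum_congr rfl fun χ hχ => by rw [deg_eq (isCharacter_of_isIrr χ.2), (h2 χ hχ).1]
    rw [e1, e2, Nat.cast_sub (by omega)]
    push_cast
    ring
  rcases Nat.lt_or_ge t 2 with ht | ht
  · -- one exceptional character: it joins the others
    right
    have ht1 : t = 1 := by
      rcases Nat.eq_zero_or_pos t with h0 | h0
      · rw [h0] at hte; omega
      · omega
    rw [ht1, one_mul] at hte
    have hY1 : Y = {ψ₀} := (Finset.eq_singleton_iff_unique_mem.mpr ⟨hψ₀, fun y hy =>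
      Finset.card_le_one.mp (by omega) y hy ψ₀ hψ₀⟩)
    set s : IrrCharacter G → ℤ := fun χ => if χ ∈ Y then -ε else εX χ with hs
    have hall : ∀ χ ∈ X ∪ Y, (s χ = 1 ∨ s χ = -1) ∧ (deg (χ : G → ℂ) : ℤ) ≡ s χ [ZMOD p] ∧
        ∀ z ∈ (P : Subgroup G), z ≠ 1 → (χ : G → ℂ) z = (s χ : ℂ) := by
      intro χ hχ
      simp only [hs]
      by_cases hy : χ ∈ Y
      · rw [if_pos hy]
        refine ⟨by omega, (hY χ (Set.mem_toFinset.mp hy)).trans ?_, fun z hz hz1 => ?_⟩
        · refine Int.modEq_iff_dvd.mpr ⟨-ε, ?_⟩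
          have : (p : ℤ) = einv P + 1 := by exact_mod_cast hte.symm
          linear_combination (ε : ℤ) * this
        · rw [hY1, Finset.mem_singleton] at hy
          have h := hYsum z hz hz1
          rw [hY1, Finset.sum_singleton] at h
          rw [hy, h, Int.cast_neg]
      · rw [if_neg hy]
        have hχX : χ ∈ X := (Finset.mem_union.mp hχ).resolve_right hy
        obtain ⟨a, b, -⟩ := hX χ (Set.mem_toFinset.mp hχX)
        exact ⟨a, b, hXv χ hχX⟩
    obtain ⟨XN, Xθ, hnot, hN, hθ, hcard, -, hsum⟩ :=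
      hsplit (X ∪ Y) s (hmem _ (by rw [htriv1]; exact hp.out.not_dvd_one)) hall
    have hrel0 : ∀ g : G, ¬ p ∣ orderOf g →
        (1 : ℂ) + ∑ χ ∈ XN, (χ : G → ℂ) g - ∑ χ ∈ Xθ, (χ : G → ℂ) g = 0 := by
      intro g hg
      rw [← hsum g, Finset.sum_union hdisj, Finset.sum_congr rfl (g := fun χ : IrrCharacter G =>
          (εX χ : ℂ) * (χ : G → ℂ) g) fun χ hχ => by
            simp [hs, Finset.disjoint_left.mp hdisj hχ],
        ← hrel' ψ₀ hψ₀ g hg, hY1, Finset.sum_singleton]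
      simp [hs, hψ₀]
    have hd0 := (hsumdeg XN Xθ hN hθ).symm.trans (hrel0 1 hreg1)
    rw [Finset.card_union_of_disjoint hdisj, hXc', hYc', ht1] at hcard
    have hd1 : (1 : ℤ) + XN.card * (1 + n * p) - Xθ.card * ((p : ℤ) - 1) = 0 := by exact_mod_cast hd0
    have hc' : (1 : ℤ) + XN.card + Xθ.card = einv P + 1 := by exact_mod_cast hcard
    have hte' : (einv P : ℤ) + 1 = p := by exact_mod_cast hte
    have hkey : (1 : ℤ) + XN.card * (n + 1) = einv P := by
      apply mul_left_cancel₀ (show (p : ℤ) ≠ 0 from Nat.cast_ne_zero.mpr hp.out.ne_zero)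
      linear_combination hd1 + ((p : ℤ) - 1) * hc' + (-1 : ℤ) * hte'
    exact ⟨{
      U := ∅, XN := XN, Xθ := Xθ, c := 1, c_pos := one_pos
      deg_N := fun χ hχ => (hN χ hχ).1, fix_N := fun χ hχ => (hN χ hχ).2
      deg_θ := fun χ hχ => (hθ χ hχ).1, fix_θ := fun χ hχ => (hθ χ hχ).2
      agree := by simp
      rel := fun g hg => by simp [hrel0 g hg]
      fix_sum := by
        simp only [Finset.sum_empty, zero_add, one_mul]
        exact_mod_cast hkey
      deg_U := fun h => absurd h Finset.not_nonempty_empty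
      card_U := fun h => absurd h Finset.not_nonempty_empty
      e_eq := fun _ => hte }⟩
  have h2e : 2 * einv P + 1 ≤ p := by
    have : 2 * einv P ≤ t * einv P := Nat.mul_le_mul_right _ ht
    omega
  have hxmod : (x : ℤ) ≡ ε * (einv P : ℤ) [ZMOD p] := hY ψ₀ (Set.mem_toFinset.mp hψ₀)
  have hpx : ¬ p ∣ x := by
    intro hd
    have h1 : (p : ℤ) ∣ ε * (einv P : ℤ) := (Int.ModEq.dvd_iff hxmod).mp (Int.natCast_dvd_natCast.mpr hd)
    have h2 : (p : ℤ) ∣ (einv P : ℤ) := by
      rcases hε with h | h <;> rw [h] at h1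
      · simpa using h1
      · simpa using h1
    have := Nat.le_of_dvd (by omega) (Int.natCast_dvd_natCast.mp h2)
    omega
  obtain ⟨w, hw⟩ := S.deg_mul (χ := ψ₀) hpx
  rw [← hxdef] at hw
  have hwz : (x : ℤ) * w = einv P * (1 + n * p) := by exact_mod_cast hw
  have hwmod : (p : ℤ) ∣ (einv P : ℤ) * ((w : ℤ) * ε - 1) := by
    obtain ⟨k, hk⟩ := Int.modEq_iff_dvd.mp hxmod
    exact ⟨(einv P : ℤ) * n + k * w, by linear_combination hwz + (w : ℤ) * hk⟩
  have hwd : (p : ℤ) ∣ (w : ℤ) * ε - 1 := by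
    refine ((Nat.prime_iff_prime_int.mp hp.out).dvd_mul.mp hwmod).resolve_left fun h => ?_
    have := Nat.le_of_dvd (by omega) (Int.natCast_dvd_natCast.mp h)
    omega
  have hw0 : 0 < w := Nat.pos_of_ne_zero fun h => by
    rw [h, mul_zero] at hw
    exact absurd hw.symm (Nat.mul_ne_zero (by omega) (by omega))
  have htX : trivIrr G ∈ X := by
    refine (Finset.mem_union.mp (hmem _ (by rw [htriv1]; exact hp.out.not_dvd_one))).resolve_right fun h => ?_
    have hx1 : x = 1 := (hYx _ h).symm.trans htriv1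
    have h1 := hxmod
    rw [hx1] at h1
    obtain ⟨k, hk⟩ := Int.modEq_iff_dvd.mp h1
    push_cast at hk
    rcases hε with h' | h' <;> rw [h'] at hk
    · have : (p : ℤ) ∣ ((einv P : ℤ) - 1) := ⟨k, by linarith⟩
      have := Int.le_of_dvd (by omega) this
      omega
    · have : (p : ℤ) ∣ ((einv P : ℤ) + 1) := ⟨-k, by linarith⟩
      have := Int.le_of_dvd (by omega) this
      omega
  obtain ⟨XN, Xθ, hnot, hN, hθ, hcard, hXall, hsum⟩ := hsplit X εX htX fun χ hχ => by
    obtain ⟨a, b, -⟩ := hX χ (Set.mem_toFinset.mp hχ)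
    exact ⟨a, b, hXv χ hχ⟩
  rw [hXc'] at hcard
  rcases hε with hε1 | hε1
  · left
    subst hε1
    have hdw : p ∣ w - 1 := by
      rw [← Int.natCast_dvd_natCast, Nat.cast_sub hw0]
      simpa using hwd
    have hxe : x = einv P := by
      rcases S.not_divisor hdw hw0 (by rw [mul_comm]; exact hw) with h | h
      · rw [h, mul_one] at hw
        exact absurd hw (S.deg_ne ψ₀)
      · rw [h] at hw
        exact Nat.eq_of_mul_eq_mul_right (by omega) hw
    have hne : ψ₀ ≠ trivIrr G := fun e => Finset.disjoint_left.mp hdisj htX (e ▸ hψ₀)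
    have hhalf : 2 * einv P + 1 = p := by
      have := S.deg_small hne
      rw [← hxdef, hxe] at this
      omega
    have ht2 : t = 2 := Nat.eq_of_mul_eq_mul_right (show 0 < einv P by omega) (by omega)
    have hfix0 : ∀ ψ ∈ Y, fix P (ψ : G → ℂ) = 0 := by
      have h := hfixY
      rw [hxe, ht2] at h
      have hz : (p : ℤ) * ∑ ψ ∈ Y, (fix P (ψ : G → ℂ) : ℤ) = 0 := by
        rw [h]; push_cast; omega
      have h0 := (mul_eq_zero.mp hz).resolve_left (Nat.cast_ne_zero.mpr hp.out.ne_zero)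
      have h0' : ∑ ψ ∈ Y, fix P (ψ : G → ℂ) = 0 := by exact_mod_cast h0
      exact fun ψ hψ => Finset.sum_eq_zero_iff.mp h0' ψ hψ
    refine ⟨S.n_eq_one (hxdef ▸ hxe) hhalf hnot (fun χ hχ => (hN χ hχ).1) fun χ => ?_, hhalf⟩
    by_cases hsp : χ = trivIrr G ∨ χ ∈ XN
    · rw [if_pos hsp]
      rcases hsp with rfl | hN'
      · have e := hfixv (trivIrr G) 1 (fun z _ _ => by simp [trivIrr])
        rw [htriv1] at e ⊢
        omega
      · rw [(hN χ hN').1, (hN χ hN').2]
        refine le_of_eq ?_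
        rw [Nat.mul_succ, mul_comm n p]
        omega
    · rw [if_neg hsp, add_zero]
      by_cases hb : χ ∈ X ∪ Y
      · rcases Finset.mem_union.mp hb with hX' | hY'
        · rcases hXall χ hX' with h | h | h
          · exact absurd (Or.inl h) hsp
          · exact absurd (Or.inr h) hsp
          · rw [(hθ χ h).2, mul_zero]; exact Nat.zero_le _
        · rw [hfix0 χ hY', mul_zero]; exact Nat.zero_le _
      · have e := hfixv χ 0 (fun z hz hz1 => by rw [hout χ hb z hz hz1, Int.cast_zero])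
        omega
  · right
    subst hε1
    have hdw : p ∣ w + 1 := by
      rw [← Int.natCast_dvd_natCast]
      push_cast
      rw [show (w : ℤ) + 1 = -((w : ℤ) * (-1) - 1) by ring]
      exact Int.dvd_neg.mpr hwd
    have hx1 : x ≠ 1 := fun h => by
      have := S.eq_triv_of_deg (χ := ψ₀) h
      exact Finset.disjoint_left.mp hdisj htX (this ▸ hψ₀)
    have hwp : w = p - 1 := S.minus_divisor hdw hx1 (by rw [mul_comm]; exact hw)
    have htx : t * x = 1 + n * p := by
      apply Nat.eq_of_mul_eq_mul_left (show 0 < einv P by omega)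
      rw [hwp, show p - 1 = t * einv P by omega] at hw
      linear_combination hw
    have hfixsum : ∑ ψ ∈ Y, fix P (ψ : G → ℂ) = n + 1 := by
      have h := hfixY
      have hz : (p : ℤ) * ∑ ψ ∈ Y, (fix P (ψ : G → ℂ) : ℤ) = (p : ℤ) * (n + 1 : ℕ) := by
        rw [h, show (t : ℤ) * x = ((t * x : ℕ) : ℤ) by push_cast; rfl, htx]
        push_cast; ring
      exact_mod_cast mul_left_cancel₀ (Nat.cast_ne_zero.mpr hp.out.ne_zero) hz
    have hrel1 : ∀ g : G, ¬ p ∣ orderOf g → ∀ ψ ∈ Y, (ψ : G → ℂ) g +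
        (1 + ∑ χ ∈ XN, (χ : G → ℂ) g - ∑ χ ∈ Xθ, (χ : G → ℂ) g) = 0 := by
      intro g hg ψ hψ
      rw [← hsum g, ← hrel' ψ hψ g hg]
      push_cast; ring
    have hd0 := hrel1 1 hreg1 ψ₀ hψ₀
    rw [hsumdeg XN Xθ hN hθ, deg_eq (isCharacter_of_isIrr ψ₀.2), ← hxdef] at hd0
    have hd1 : (x : ℤ) + (1 + XN.card * (1 + n * p) - Xθ.card * ((p : ℤ) - 1)) = 0 := by
      exact_mod_cast hd0
    have hc' : (1 : ℤ) + XN.card + Xθ.card = einv P := by exact_mod_cast hcard
    have hte' : (t : ℤ) * einv P + 1 = p := by exact_mod_cast hte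
    have htx' : (t : ℤ) * x = 1 + n * p := by exact_mod_cast htx
    have hkey : ((n : ℤ) + 1) + t * (1 + XN.card * (n + 1)) = t * einv P := by
      apply mul_left_cancel₀ (show (p : ℤ) ≠ 0 from Nat.cast_ne_zero.mpr hp.out.ne_zero)
      linear_combination (t : ℤ) * hd1 + (t : ℤ) * ((p : ℤ) - 1) * hc' - htx' + (-1 : ℤ) * hte'
    exact ⟨{
      U := Y, XN := XN, Xθ := Xθ, c := t, c_pos := by omega
      deg_N := fun χ hχ => (hN χ hχ).1, fix_N := fun χ hχ => (hN χ hχ).2
      deg_θ := fun χ hχ => (hθ χ hχ).1, fix_θ := fun χ hχ => (hθ χ hχ).2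
      agree := hψY
      rel := fun g hg => by
        rw [← hYc', ← nsmul_eq_mul, ← Finset.sum_const, ← Finset.sum_add_distrib]
        exact Finset.sum_eq_zero fun ψ hψ => hrel1 g hg ψ hψ
      fix_sum := by
        rw [hfixsum]
        exact_mod_cast hkey
      deg_U := fun _ => by
        rw [Finset.sum_congr rfl fun ψ hψ => hYx ψ hψ, Finset.sum_const, hYc', smul_eq_mul, htx]
      card_U := fun _ => ⟨hYc'.symm, hfixsum, hte⟩
      e_eq := fun h => absurd (h ▸ hψ₀) (Finset.notMem_empty _) }⟩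

end Setting

end Cfsg.Agent.Blocks.FewSylow
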