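import Cfsg.Agent.Lib.Blocks.FewSylow.Structure
import Cfsg.Agent.S0731
import Cfsg.Agent.S1229
import Cfsg.Agent.S4702
import Cfsg.Agent.Lib.SmallSimple.RecognizePrime
import Cfsg.Agent.Lib.SL2.Psl
import Cfsg.Agent.Lib.SL2.Elements

/-!
# Recognition of `PSL(2, p)` and `SL(2, 2 ^ m)`
-/

set_option autoImplicit false
set_option linter.unusedSectionVars false

namespace Cfsg.Agent.Blocks.FewSylow

open scoped Cfsg.Agent.Blocks.D1 Classical Pointwise
open MulAction

universe u

theorem sl_equiv_psl {F : Type} [Field F] [Fintype F] {a : ℕ} (ha : 1 ≤ a)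
    (hF : Fintype.card F = 2 ^ a) :
    Nonempty (Matrix.SpecialLinearGroup (Fin 2) F ≃* Matrix.ProjectiveSpecialLinearGroup (Fin 2) F) := by
  haveI : CharP F 2 := by
    obtain ⟨n, hpr, hn⟩ := FiniteField.card F (ringChar F)
    have : ringChar F = 2 := (Nat.prime_dvd_prime_iff_eq hpr Nat.prime_two).1
      (hpr.dvd_of_dvd_pow (n := a) (hF ▸ hn ▸ dvd_pow_self _ n.ne_zero))
    exact this ▸ ringChar.charP F
  refine ⟨MulEquiv.ofBijective (SL2.π : Matrix.SpecialLinearGroup (Fin 2) F →* _)
    ⟨(injective_iff_map_eq_one _).2 fun s hs => ?_, SL2.π_surjective⟩⟩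
  obtain ⟨h01, h10, h00⟩ := SL2.π_eq_one.1 hs
  have hdet := s.det_coe
  rw [Matrix.det_fin_two, h01, h10, h00] at hdet
  have h1 : (s : Matrix (Fin 2) (Fin 2) F) 1 1 = 1 := by
    have h2 : (2 : F) = 0 := by exact_mod_cast CharP.cast_eq_zero F 2
    have : ((s : Matrix (Fin 2) (Fin 2) F) 1 1 - 1) * ((s : Matrix (Fin 2) (Fin 2) F) 1 1 - 1) = 0 := by
      linear_combination hdet - ((s : Matrix (Fin 2) (Fin 2) F) 1 1 - 1) * h2
    exact sub_eq_zero.1 (mul_self_eq_zero.1 this)
  apply SL2.ext4 <;> simp [h01, h10, h00, h1]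

variable {p : ℕ} [hp : Fact p.Prime] {G : Type u} [Group G] [Fintype G]

namespace Setting

variable {P : Sylow p G} {n : ℕ} (S : Setting P n)
include S

theorem psl_case (hn : n = 1) (he : 2 * einv P + 1 = p) :
    ∃ (F : Type) (_ : Field F) (_ : Fintype F), Fintype.card F = p ∧ 3 < p ∧
      Nonempty (G ≃* Matrix.ProjectiveSpecialLinearGroup (Fin 2) F) := by
  subst hn
  haveI := S.isSimple
  have h2e := S.two_le_e
  have hΩ : Nat.card (Sylow p G) = p + 1 := by rw [S.sylows, one_mul, add_comm]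
  -- `P` permutes the other Sylow subgroups regularly
  have hreg : ∀ Q R : Sylow p G, Q ≠ P → R ≠ P → ∃! u : (P : Subgroup G), (u : G) • Q = R := by
    intro Q R hQ hR
    have hinj : Function.Injective fun u : (P : Subgroup G) =>
        (⟨(u : G) • Q, fun h => hQ
          (smul_left_cancel _ (h.trans (smul_P_iff.mpr (S.P_le u.2)).symm))⟩ :
            {R : Sylow p G // R ≠ P}) := by
      intro a b hab
      have h1 : (a : G) • Q = (b : G) • Q := congrArg Subtype.val hab
      refine Subtype.ext (inv_mul_eq_one.mp (S.semiregular hQ (mul_mem (inv_mem b.2) a.2) ?_)).symm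
      rw [mul_smul, h1, inv_smul_smul]
    have hbij := (Nat.bijective_iff_injective_and_card _).mpr ⟨hinj, by
      rw [Nat.card_eq_fintype_card (α := {R : Sylow p G // R ≠ P}), Fintype.card_subtype_compl,
        Fintype.card_subtype_eq, ← Nat.card_eq_fintype_card, hΩ]
      exact S.card.trans (Nat.add_sub_cancel _ _).symm⟩
    obtain ⟨u, hu⟩ := hbij.2 ⟨R, hR⟩
    exact ⟨u, congrArg Subtype.val hu, fun v hv => hbij.1 (Subtype.ext (hv.trans
      (congrArg Subtype.val hu).symm))⟩
  have htwo : IsMultiplyPretransitive G (Sylow p G) 2 := by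
    rw [is_two_pretransitive_iff]
    have base : ∀ a b : Sylow p G, a ≠ b → ∀ Q, Q ≠ P → ∃ g : G, g • a = P ∧ g • b = Q := by
      intro a b hab Q hQ
      obtain ⟨g, hg⟩ := exists_smul_eq G a P
      have hb : g • b ≠ P := fun h => hab (smul_left_cancel g (hg.trans h.symm))
      obtain ⟨u, hu, -⟩ := hreg _ Q hb hQ
      exact ⟨(u : G) * g, by rw [mul_smul, hg, smul_P_iff.mpr (S.P_le u.2)], by rw [mul_smul, hu]⟩
    intro a b c d hab hcd
    obtain ⟨Q, hQ⟩ : ∃ Q : Sylow p G, Q ≠ P := by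
      haveI : Nontrivial (Sylow p G) := Finite.one_lt_card_iff_nontrivial.mp (by
        rw [hΩ]; have := hp.out.two_le; omega)
      exact exists_ne P
    obtain ⟨g, hga, hgb⟩ := base a b hab Q hQ
    obtain ⟨h, hhc, hhd⟩ := base c d hcd Q hQ
    exact ⟨h⁻¹ * g, by rw [mul_smul, hga, ← hhc, inv_smul_smul],
      by rw [mul_smul, hgb, ← hhd, inv_smul_smul]⟩
  have hthree : ∀ g : G, ∀ a b c : Sylow p G, a ≠ b → b ≠ c → a ≠ c →
      g • a = a → g • b = b → g • c = c → g = 1 := by
    intro g a b c hab hbc hac ha hb hc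
    obtain ⟨x, hx⟩ := exists_smul_eq G a P
    set h := x * g * x⁻¹ with hh
    have hfix : ∀ R : Sylow p G, g • R = R → h • (x • R) = x • R := fun R hR => by
      rw [hh, mul_smul, mul_smul, inv_smul_smul, hR]
    have hN : h ∈ D1.cN P := smul_P_iff.mp (hx ▸ hfix a ha)
    have hb' : x • b ≠ P := fun e => hab (smul_left_cancel x (hx.trans e.symm))
    have hc' : x • c ≠ P := fun e => hac (smul_left_cancel x (hx.trans e.symm))
    suffices h1 : h = 1 by
      rw [hh, conj_eq_one_iff] at h1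
      exact h1
    obtain ⟨u, hu, -⟩ := hreg _ _ hb' hc'
    have hu1 : (u : G) ≠ 1 := fun e => by
      rw [e, one_smul] at hu
      exact hbc (smul_left_cancel x hu)
    have hm : (u : G)⁻¹ * (h * u * h⁻¹) ∈ (P : Subgroup G) :=
      mul_mem (inv_mem u.2) ((Subgroup.mem_normalizer_iff.mp hN u).mp u.2)
    have hcomm := S.semiregular hb' hm (by
      rw [mul_smul, mul_smul, mul_smul, inv_smul_eq_iff.mpr (hfix b hb).symm, hu, hfix c hc,
        inv_smul_eq_iff.mpr hu.symm])
    have hP : h ∈ (P : Subgroup G) :=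
      S.cent_of_mem u.2 hu1 (mul_inv_eq_iff_eq_mul.mp (inv_mul_eq_one.mp hcomm).symm)
    exact S.semiregular hb' hP (hfix b hb)
  have hexists : ∃ g : G, g ≠ 1 ∧ ∃ a b : Sylow p G, a ≠ b ∧ g • a = a ∧ g • b = b := by
    obtain ⟨h, hh, hhP⟩ : ∃ h ∈ D1.cN P, h ∉ (P : Subgroup G) := by
      by_contra hcon
      push Not at hcon
      have h1 := Subgroup.card_le_card_group ((P : Subgroup G).subgroupOf (D1.cN P))
      have h2 : D1.cN P = (P : Subgroup G) := le_antisymm hcon S.P_le
      have h3 := S.card_N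
      rw [h2, show Nat.card (P : Subgroup G) = p from S.card] at h3
      have : 1 * p < einv P * p := Nat.mul_lt_mul_of_pos_right h2e hp.out.pos
      omega
    obtain ⟨Q, hQ⟩ : ∃ Q : Sylow p G, Q ≠ P := by
      haveI : Nontrivial (Sylow p G) := Finite.one_lt_card_iff_nontrivial.mp (by
        rw [hΩ]; have := hp.out.two_le; omega)
      exact exists_ne P
    have hhQ : h • Q ≠ P := fun e => hQ (smul_left_cancel _ (e.trans (smul_P_iff.mpr hh).symm))
    obtain ⟨u, hu, -⟩ := hreg Q (h • Q) hQ hhQ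
    refine ⟨(u : G)⁻¹ * h, fun e => hhP (inv_mul_eq_one.mp e ▸ u.2), P, Q, hQ.symm, ?_, ?_⟩
    · rw [mul_smul, smul_P_iff.mpr hh, inv_smul_eq_iff, smul_P_iff.mpr (S.P_le u.2)]
    · rw [mul_smul, ← hu, inv_smul_smul]
  have hstab : stabilizer G P = D1.cN P := by ext g; rw [mem_stabilizer_iff]; exact smul_P_iff
  have hNne : D1.cN P ≠ ⊤ := fun h => by
    have h1 : Nat.card (Sylow p G) = (D1.cN P).index := P.card_eq_index_normalizer
    rw [h, Subgroup.index_top, hΩ] at h1
    have := hp.out.pos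
    omega
  have hfaith : FaithfulSMul G (Sylow p G) := by
    refine ⟨fun {a b} hab => ?_⟩
    rcases (MulAction.toPermHom G (Sylow p G)).normal_ker.eq_bot_or_eq_top with hk | hk
    · exact (MonoidHom.ker_eq_bot_iff _).mp hk (Equiv.ext hab)
    · exfalso
      refine hNne (top_le_iff.mp fun g _ => smul_P_iff.mp ?_)
      have hmem : g ∈ (MulAction.toPermHom G (Sylow p G)).ker := by rw [hk]; exact Subgroup.mem_top g
      exact Equiv.congr_fun (MonoidHom.mem_ker.mp hmem) P
  have hnoreg : ∀ N : Subgroup G, N.Normal → IsPretransitive N (Sylow p G) →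
      ∃ a : Sylow p G, stabilizer N a ≠ ⊥ := by
    intro N hN htr
    rcases hN.eq_bot_or_eq_top with rfl | rfl
    · obtain ⟨g, -, a, b, hab, -⟩ := hexists
      obtain ⟨⟨x, hx⟩, hxab⟩ := htr.exists_smul_eq a b
      rw [Subgroup.mem_bot] at hx
      subst hx
      exact absurd ((one_smul G a).symm.trans hxab) hab
    · obtain ⟨g, hg, a, b, hab, hga, -⟩ := hexists
      refine ⟨a, fun hbot => hg ?_⟩
      have : (⟨g, Subgroup.mem_top g⟩ : (⊤ : Subgroup G)) ∈ stabilizer (⊤ : Subgroup G) a := hga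
      rw [hbot, Subgroup.mem_bot] at this
      exact congrArg Subtype.val this
  have hab : IsMulCommutative (P : Subgroup G) := ⟨⟨fun a b => Subtype.ext
    (Subgroup.mem_centralizer_iff.mp (D1.mem_cC_of_mem S.card b.2) _ a.2)⟩⟩
  have hle : (P : Subgroup G) ≤ stabilizer G P := hstab ▸ S.P_le
  rcases S0731.result ⟨hfaith, htwo, hthree, hexists, hnoreg⟩ P (P : Subgroup G) hle
    (by rw [hstab]; exact Subgroup.normal_in_normalizer) hab hreg with ⟨h3, -⟩ | ⟨K, iK, tK, hK, ⟨e⟩⟩
  · exfalso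
    haveI : IsPretransitive G (Fin 3 ↪ Sylow p G) := h3
    obtain ⟨x⟩ : Nonempty (Fin 3 ↪ Sylow p G) := Function.Embedding.nonempty_of_card_le (by
      rw [Fintype.card_fin, ← Nat.card_eq_fintype_card, hΩ]; have := hp.out.two_le; omega)
    have h4 := Nat.card_le_card_of_surjective (fun g : G => g • x) (exists_smul_eq G x)
    rw [Nat.card_eq_fintype_card (α := Fin 3 ↪ Sylow p G), Fintype.card_embedding_eq,
      Fintype.card_fin, ← Nat.card_eq_fintype_card, hΩ, S.card_G, one_mul] at h4
    simp only [Nat.descFactorial_succ, Nat.descFactorial_zero, mul_one, Nat.sub_zero,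
      Nat.add_sub_cancel] at h4
    rw [show p + 1 - 2 = p - 1 by omega] at h4
    have h5 : (p * (p + 1)) * (p - 1) ≤ (p * (p + 1)) * einv P := by
      calc (p * (p + 1)) * (p - 1) = (p - 1) * (p * (p + 1)) := by ring
        _ ≤ p * (einv P * (1 + p)) := h4
        _ = (p * (p + 1)) * einv P := by ring
    have := Nat.le_of_mul_le_mul_left h5 (Nat.mul_pos hp.out.pos (Nat.succ_pos _))
    omega
  · refine ⟨K, iK, tK, ?_, by omega, ⟨e⟩⟩
    have hodd : Fintype.card K % 2 = 1 := by
      haveI := ringChar.charP K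
      obtain ⟨m, hpr, hm⟩ := FiniteField.card K (ringChar K)
      rw [hm, Nat.pow_mod, Nat.odd_iff.mp (hpr.odd_of_ne_two hK), one_pow]; rfl
    have h1 := RecognizePSL.natCard_PSL2 (F := K) hodd
    rw [← Nat.card_congr e.toEquiv, S.card_G, one_mul] at h1
    obtain ⟨q, hq⟩ : ∃ q, Fintype.card K = q + 1 :=
      ⟨_, (Nat.sub_add_cancel Fintype.card_pos).symm⟩
    rw [hq, Nat.add_sub_cancel] at h1
    rw [hq]
    rcases lt_trichotomy (q + 1) p with h | h | h
    · exfalso
      have : (q + 1) * q * (q + 1 + 1) < p * (2 * einv P) * (p + 1) :=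
        Nat.mul_lt_mul_of_le_of_lt (Nat.mul_le_mul h.le (by omega)) (by omega)
          (Nat.mul_pos hp.out.pos (by omega))
      nlinarith
    · exact h
    · exfalso
      have : p * (2 * einv P) * (p + 1) < (q + 1) * q * (q + 1 + 1) :=
        Nat.mul_lt_mul_of_le_of_lt (Nat.mul_le_mul h.le (by omega)) (by omega)
          (Nat.mul_pos (Nat.succ_pos _) (by omega))
      nlinarith

theorem sl_case {T : Sylow 2 G} (hnc : ¬ IsCyclic (T : Subgroup G))
    (hT : Nat.card (T : Subgroup G) + 1 = p)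
    (hC : ∀ t : G, orderOf t = 2 → IsMulCommutative (Subgroup.centralizer ({t} : Set G)) ∧
        ∀ c ∈ Subgroup.centralizer ({t} : Set G), c ^ 2 = 1) :
    ∃ (m : ℕ) (F : Type) (_ : Field F) (_ : Fintype F), Fintype.card F = 2 ^ m ∧ p = 2 ^ m + 1 ∧
      3 < p ∧ Nonempty (G ≃* Matrix.SpecialLinearGroup (Fin 2) F) := by
  haveI := S.isSimple
  have hnn : ¬ (T : Subgroup G).Normal := by
    intro hn
    rcases hn.eq_bot_or_eq_top with h | h
    · rw [h, Subgroup.card_bot] at hT
      have := S.three_le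
      omega
    · rw [h, Subgroup.card_top, S.card_G] at hT
      have h1 : p * 1 ≤ p * (einv P * (1 + n * p)) :=
        Nat.mul_le_mul_left _ (Nat.mul_pos (by have := S.two_le_e; omega) (by omega))
      omega
  obtain ⟨h3, hfix, hreg⟩ := S1229.result T hnc hnn hC
  set X := G ⧸ Subgroup.normalizer ((T : Subgroup G) : Set G)
  letI : Fintype X := Fintype.ofFinite _
  set x₀ : X := QuotientGroup.mk 1
  have hX : Fintype.card X = p := by
    obtain ⟨y, hy⟩ : ∃ y : X, y ≠ x₀ := by
      by_contra hcon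
      push Not at hcon
      refine hnn ⟨fun a ha g => ?_⟩
      have h1 : g⁻¹ ∈ Subgroup.normalizer ((T : Subgroup G) : Set G) := by
        have := QuotientGroup.eq.mp (hcon (g : X))
        simpa [x₀] using this
      exact (Subgroup.mem_normalizer_iff.mp (inv_inv g ▸ inv_mem h1) a).mp ha
    have hbij : Function.Bijective fun t : (T : Subgroup G) =>
        (⟨(t : G) • y, fun h => hy (by
          have hs : (t : G) • x₀ = x₀ := by
            show ((((t : G) * 1 : G)) : X) = x₀
            exact QuotientGroup.eq.mpr (by simpa using inv_mem (Subgroup.le_normalizer t.2))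
          exact smul_left_cancel _ (h.trans hs.symm))⟩ : {x : X // x ≠ x₀}) := by
      refine ⟨fun a b hab => ?_, fun z => ?_⟩
      · have hz : (b : G) • y ≠ x₀ := by
          intro h
          apply hy
          have hs : (b : G) • x₀ = x₀ := by
            show ((((b : G) * 1 : G)) : X) = x₀
            exact QuotientGroup.eq.mpr (by simpa using inv_mem (Subgroup.le_normalizer b.2))
          exact smul_left_cancel _ (h.trans hs.symm)
        obtain ⟨t, -, huniq⟩ := hreg y _ hy hz
        exact Subtype.ext ((huniq _ ⟨a.2, congrArg Subtype.val hab⟩).trans (huniq _ ⟨b.2, rfl⟩).symm)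
      · obtain ⟨t, ⟨ht, htz⟩, -⟩ := hreg y z.1 hy z.2
        exact ⟨⟨t, ht⟩, Subtype.ext htz⟩
    have h1 := Nat.card_congr (Equiv.ofBijective _ hbij)
    rw [Nat.card_eq_fintype_card (α := {x : X // x ≠ x₀}), Fintype.card_subtype_compl,
      Fintype.card_subtype_eq] at h1
    have := Fintype.card_pos (α := X)
    omega
  have h3le : 3 ≤ Fintype.card X := hX ▸ S.three_le
  set f := MulAction.toPermHom G X
  have hinj : Function.Injective f := by
    refine (injective_iff_map_eq_one f).mpr fun g hg => ?_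
    obtain ⟨a, b, c, hab, hac, hbc⟩ := Fintype.two_lt_card_iff.mp (show 2 < Fintype.card X by omega)
    exact hfix g a b c hab hac hbc (Equiv.congr_fun hg a) (Equiv.congr_fun hg b)
      (Equiv.congr_fun hg c)
  have ht3 : IsMultiplyPretransitive f.range X 3 := by
    rw [isMultiplyPretransitive_iff]
    intro a b
    obtain ⟨g, h0, h1, h2⟩ := h3 (a 0) (a 1) (a 2) (b 0) (b 1) (b 2) (a.injective.ne (by decide))
      (a.injective.ne (by decide)) (a.injective.ne (by decide)) (b.injective.ne (by decide))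
      (b.injective.ne (by decide)) (b.injective.ne (by decide))
    refine ⟨⟨f g, g, rfl⟩, ?_⟩
    ext i
    fin_cases i <;> assumption
  have hfix' : ∀ g : f.range, 3 ≤ Nat.card (MulAction.fixedBy X g) → g = 1 := by
    rintro ⟨_, g, rfl⟩ hg
    rw [Nat.card_eq_fintype_card] at hg
    obtain ⟨a, b, c, hab, hac, hbc⟩ :=
      Fintype.two_lt_card_iff.mp (show 2 < Fintype.card (MulAction.fixedBy X _) from hg)
    have h1 := hfix g a b c (fun h => hab (Subtype.ext h)) (fun h => hac (Subtype.ext h))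
      (fun h => hbc (Subtype.ext h)) a.2 b.2 c.2
    subst h1
    exact Subtype.ext (map_one f)
  obtain ⟨m, hm, hmX, F, iF, tF, hF, ⟨e⟩⟩ :=
    S4702.result h3le (hX ▸ S.odd) f.range ht3 hfix'
  have he5 : 3 < p := by
    have h1 := Nat.le_of_dvd (by have := S.three_le; omega) S.e_dvd
    have h2 := S.two_le_e
    rcases Nat.lt_or_ge 3 p with h | h
    · exact h
    exfalso
    obtain rfl : m = 1 := by
      by_contra hne
      have : 2 ^ 2 ≤ 2 ^ m := Nat.pow_le_pow_right two_pos (by omega)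
      omega
    have hne : Nat.card (T : Subgroup G) = 2 := by omega
    haveI : Fact (Nat.Prime 2) := ⟨Nat.prime_two⟩
    exact hnc (isCyclic_of_prime_card hne)
  exact ⟨m, F, iF, tF, hF, by omega, he5, ⟨(MonoidHom.ofInjective hinj).trans e⟩⟩

/-- The classification under the hypotheses. -/
theorem classify :
    (∃ (F : Type) (_ : Field F) (_ : Fintype F), Fintype.card F = p ∧ 3 < p ∧
      Nonempty (G ≃* Matrix.ProjectiveSpecialLinearGroup (Fin 2) F)) ∨
    (∃ (m : ℕ) (F : Type) (_ : Field F) (_ : Fintype F), Fintype.card F = 2 ^ m ∧ p = 2 ^ m + 1 ∧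
      3 < p ∧ Nonempty (G ≃* Matrix.SpecialLinearGroup (Fin 2) F)) := by
  rcases S.cases with ⟨hn, he⟩ | ⟨T, hnc, hT, hC⟩
  · exact Or.inl (S.psl_case hn he)
  · exact Or.inr (S.sl_case hnc hT hC)

/-- The classification with projective groups on both sides. -/
theorem classify_psl :
    (∃ (F : Type) (_ : Field F) (_ : Fintype F), Fintype.card F = p ∧ 3 < p ∧
      Nonempty (G ≃* Matrix.ProjectiveSpecialLinearGroup (Fin 2) F)) ∨
    (∃ (m : ℕ) (F : Type) (_ : Field F) (_ : Fintype F), Fintype.card F = 2 ^ m ∧ p = 2 ^ m + 1 ∧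
      3 < p ∧ Nonempty (G ≃* Matrix.ProjectiveSpecialLinearGroup (Fin 2) F)) := by
  rcases S.classify with h | ⟨m, F, iF, tF, hF, hp', h3, ⟨e⟩⟩
  · exact Or.inl h
  · have hm : 1 ≤ m := by
      rcases Nat.eq_zero_or_pos m with rfl | h
      · simp at hp'; omega
      · exact h
    obtain ⟨f⟩ := sl_equiv_psl hm hF
    exact Or.inr ⟨m, F, iF, tF, hF, hp', h3, ⟨e.trans f⟩⟩

end Setting

end Cfsg.Agent.Blocks.FewSylow
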