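import Cfsg.Agent.Lib.Blocks.FewSylow.Degrees

/-!
# The fixed-point characters of the normalizer
-/

set_option autoImplicit false
set_option linter.unusedSectionVars false

namespace Cfsg.Agent.Blocks.FewSylow

open scoped Cfsg.Agent.Blocks.D1 Classical ComplexConjugate
open CT

universe u

variable {p : ℕ} [hp : Fact p.Prime] {G : Type u} [Group G] [Fintype G]

/-- `P` inside its normalizer. -/
abbrev Pn (P : Sylow p G) : Subgroup (D1.cN P) := (P : Subgroup G).subgroupOf (D1.cN P)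

instance normal_Pn (P : Sylow p G) : (Pn P).Normal := Subgroup.normal_in_normalizer

/-- A character of `N(P)/P` as a function on `N(P)`. -/
def tl (P : Sylow p G) (l : IrrCharacter (D1.cN P ⧸ Pn P)) : D1.cN P → ℂ :=
  fun h => (l : D1.cN P ⧸ Pn P → ℂ) h

/-- The multiplicity of a character of `N(P)/P` in the fixed space of `P`. -/
noncomputable def Mm (P : Sylow p G) (χ : G → ℂ) (l : IrrCharacter (D1.cN P ⧸ Pn P)) : ℕ :=
  mult (fun h : D1.cN P => χ h) (tl P l)

/-- The average over a coset of `P`. -/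
noncomputable def avg (P : Sylow p G) (χ : G → ℂ) : D1.cN P ⧸ Pn P → ℂ :=
  fun q => (p : ℂ)⁻¹ * ∑ u : Pn P, χ ((q.out * (u : D1.cN P) : D1.cN P) : G)

theorem isCharacter_tl (P : Sylow p G) (l : IrrCharacter (D1.cN P ⧸ Pn P)) :
    IsCharacter (D1.cN P) (tl P l) :=
  isCharacter_comp (QuotientGroup.mk' (Pn P)) (isCharacter_of_isIrr l.2)

theorem mm_spec {P : Sylow p G} {χ : G → ℂ} (hχ : IsCharacter G χ)
    (l : IrrCharacter (D1.cN P ⧸ Pn P)) :
    classInner (fun h : D1.cN P => χ h) (tl P l) = (Mm P χ l : ℂ) :=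
  mult_spec (isCharacter_restrict _ hχ) (isCharacter_tl P l)

theorem classInner_indFun_tl {P : Sylow p G} {χ : G → ℂ} (hχ : IsCharacter G χ)
    (l : IrrCharacter (D1.cN P ⧸ Pn P)) :
    classInner (indFun (D1.cN P) (tl P l)) χ = (Mm P χ l : ℂ) := by
  rw [frobenius_reciprocity _ _ (isClassFunction_of_isCharacter hχ), ← classInner_conj_symm,
    mm_spec hχ, Complex.conj_natCast]

theorem card_Pn {P : Sylow p G} {n : ℕ} (S : Setting P n) : Nat.card (Pn P) = p := by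
  rw [card_subgroupOf S.P_le]; exact S.card

theorem card_Q {P : Sylow p G} {n : ℕ} (S : Setting P n) :
    Nat.card (D1.cN P ⧸ Pn P) = einv P := by
  rw [← S.relIndex_eq, S.cC_eq]; rfl

theorem mm_eq_inner {P : Sylow p G} {n : ℕ} (S : Setting P n) {χ : G → ℂ} (hχ : IsCharacter G χ)
    (l : IrrCharacter (D1.cN P ⧸ Pn P)) :
    (Mm P χ l : ℂ) = classInner (avg P χ) (l : D1.cN P ⧸ Pn P → ℂ) := by
  rw [← mm_spec hχ, classInner, classInner, card_Q S, S.card_N]
  have hbij : Function.Bijective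
      fun x : (D1.cN P ⧸ Pn P) × Pn P => x.1.out * (x.2 : D1.cN P) := by
    refine ⟨fun x y hxy => ?_, fun h => ?_⟩
    · have h1 : x.1 = y.1 := by
        have := congrArg (fun z : D1.cN P => (z : D1.cN P ⧸ Pn P)) hxy
        simpa [QuotientGroup.mk_mul_of_mem _ x.2.2, QuotientGroup.mk_mul_of_mem _ y.2.2] using this
      refine Prod.ext h1 (Subtype.ext ?_)
      simp only [h1] at hxy
      exact mul_left_cancel hxy
    · obtain ⟨v, hv⟩ := QuotientGroup.mk_out_eq_mul (Pn P) h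
      exact ⟨((h : D1.cN P ⧸ Pn P), v⁻¹), by simp [hv, mul_assoc]⟩
  rw [← (Equiv.ofBijective _ hbij).sum_comp, Fintype.sum_prod_type]
  simp only [Equiv.ofBijective_apply, tl, avg]
  have hmk : ∀ (q : D1.cN P ⧸ Pn P) (u : Pn P),
      ((q.out * (u : D1.cN P) : D1.cN P) : D1.cN P ⧸ Pn P) = q := by
    intro q u
    rw [QuotientGroup.mk_mul_of_mem _ u.2, QuotientGroup.out_eq']
  simp only [hmk, ← Finset.sum_mul]
  push_cast
  rw [mul_inv, mul_assoc, Finset.mul_sum, Finset.mul_sum, Finset.mul_sum]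
  exact Finset.sum_congr rfl fun q _ => by ring

theorem avg_one {P : Sylow p G} {n : ℕ} (S : Setting P n) {χ : G → ℂ} (hχ : IsCharacter G χ) :
    avg P χ 1 = (fix P χ : ℂ) := by
  have hp0 : (p : ℂ) ≠ 0 := Nat.cast_ne_zero.mpr hp.out.ne_zero
  have h := fix_spec P hχ
  rw [show Nat.card P = p from S.card] at h
  have h1 : (1 : D1.cN P ⧸ Pn P).out ∈ Pn P :=
    (QuotientGroup.eq_one_iff _).mp (QuotientGroup.out_eq' _)
  rw [avg, show (fix P χ : ℂ) = (p : ℂ)⁻¹ * ((p : ℂ) * fix P χ) by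
    rw [← mul_assoc, inv_mul_cancel₀ hp0, one_mul], h]
  congr 1
  exact Fintype.sum_equiv ((Equiv.mulLeft (⟨_, h1⟩ : Pn P)).trans
    (Subgroup.subgroupOfEquivOfLe S.P_le).toEquiv) _ _ fun u => rfl

theorem avg_mk {P : Sylow p G} {n : ℕ} (S : Setting P n) {χ : G → ℂ} (hχ : IsClassFunction G χ)
    {h : D1.cN P} (hh : (h : G) ∉ (P : Subgroup G)) : avg P χ (h : D1.cN P ⧸ Pn P) = χ h := by
  have hp0 : (p : ℂ) ≠ 0 := Nat.cast_ne_zero.mpr hp.out.ne_zero
  have hval : ∀ u : Pn P,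
      χ (((h : D1.cN P ⧸ Pn P).out * (u : D1.cN P) : D1.cN P) : G) = χ (h : G) := by
    intro u
    obtain ⟨v, hv⟩ := QuotientGroup.mk_out_eq_mul (Pn P) h
    rw [hv, mul_assoc]
    refine isClassFunction_isConj hχ ?_
    exact S.conj_of_mul h.2 hh (u := (((v : D1.cN P) * u : D1.cN P) : G))
      ((Pn P).mul_mem v.2 u.2)
  rw [avg, Finset.sum_congr rfl fun u _ => hval u, Finset.sum_const, Finset.card_univ,
    ← Nat.card_eq_fintype_card, card_Pn S, nsmul_eq_mul, ← mul_assoc, inv_mul_cancel₀ hp0, one_mul]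

theorem comm_Q {P : Sylow p G} {n : ℕ} (S : Setting P n) (a b : D1.cN P ⧸ Pn P) : a * b = b * a := by
  obtain ⟨x, rfl⟩ := QuotientGroup.mk_surjective a
  obtain ⟨y, rfl⟩ := QuotientGroup.mk_surjective b
  rw [← mul_inv_eq_iff_eq_mul, ← mul_inv_eq_one, ← QuotientGroup.mk_inv, ← QuotientGroup.mk_inv,
    ← QuotientGroup.mk_mul, ← QuotientGroup.mk_mul, ← QuotientGroup.mk_mul, QuotientGroup.eq_one_iff]
  exact S.comm_mem x.2 y.2

theorem avg_eq_sum {P : Sylow p G} {n : ℕ} (S : Setting P n) {χ : G → ℂ} (hχ : IsCharacter G χ)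
    (q : D1.cN P ⧸ Pn P) :
    avg P χ q = ∑ l : IrrCharacter (D1.cN P ⧸ Pn P),
      (Mm P χ l : ℂ) * (l : D1.cN P ⧸ Pn P → ℂ) q := by
  have hcl : IsClassFunction (D1.cN P ⧸ Pn P) (avg P χ) := fun g x => by
    rw [comm_Q S x g, mul_inv_cancel_right]
  conv_lhs => rw [classFunction_eq_sum hcl]
  simp only [Finset.sum_apply, Pi.smul_apply, smul_eq_mul, ← mm_eq_inner S hχ]

theorem sum_mm {P : Sylow p G} {n : ℕ} (S : Setting P n) {χ : G → ℂ} (hχ : IsCharacter G χ) :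
    ∑ l : IrrCharacter (D1.cN P ⧸ Pn P), Mm P χ l = fix P χ := by
  have h := avg_eq_sum S hχ 1
  rw [avg_one S hχ, Finset.sum_congr rfl fun l _ => by
    rw [irr_degree_one_of_comm (comm_Q S) l.2, mul_one]] at h
  exact_mod_cast h.symm

namespace CaseA

variable {P : Sylow p G} {n : ℕ} (D : CaseA P n)

theorem reg_mul {h : D1.cN P} (S : Setting P n) (hh : (h : G) ∉ (P : Subgroup G)) :
    ¬ p ∣ orderOf (h : G) := S.regular_of_mem h.2 hh

variable (S : Setting P n)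
include S

theorem mm_theta {χ : IrrCharacter G} (hχ : χ ∈ D.Xθ) (l : IrrCharacter (D1.cN P ⧸ Pn P)) :
    Mm P (χ : G → ℂ) l = 0 := by
  have h := sum_mm S (isCharacter_of_isIrr χ.2)
  rw [D.fix_θ χ hχ] at h
  exact Finset.sum_eq_zero_iff.mp h l (Finset.mem_univ l)

/-- The distribution of the linear characters of `N(P)/P`. -/
theorem T_eq (l : IrrCharacter (D1.cN P ⧸ Pn P)) :
    ∑ ψ ∈ D.U, Mm P (ψ : G → ℂ) l + D.c * ((if l = trivIrr _ then 1 else 0) +
      ∑ χ ∈ D.XN, Mm P (χ : G → ℂ) l) = D.c := by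
  set C : D1.cN P ⧸ Pn P → ℂ := ∑ ψ ∈ D.U, avg P (ψ : G → ℂ) + (D.c : ℂ) •
    ((fun _ => 1) + ∑ χ ∈ D.XN, avg P (χ : G → ℂ) - ∑ χ ∈ D.Xθ, avg P (χ : G → ℂ)) with hC
  have h1 : classInner C (l : D1.cN P ⧸ Pn P → ℂ) =
      ((∑ ψ ∈ D.U, Mm P (ψ : G → ℂ) l + D.c * ((if l = trivIrr _ then 1 else 0) +
        ∑ χ ∈ D.XN, Mm P (χ : G → ℂ) l) : ℕ) : ℂ) := by
    rw [hC, classInner_add_left, classInner_smul_left, classInner_sub_left, classInner_add_left,
      classInner_sum_left, classInner_sum_left, classInner_sum_left]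
    simp only [← mm_eq_inner S (isCharacter_of_isIrr (Subtype.prop _))]
    rw [show classInner (fun _ : D1.cN P ⧸ Pn P => (1 : ℂ)) (l : D1.cN P ⧸ Pn P → ℂ) =
        classInner ((trivIrr (D1.cN P ⧸ Pn P) : IrrCharacter _) : D1.cN P ⧸ Pn P → ℂ)
          (l : D1.cN P ⧸ Pn P → ℂ) from rfl, irr_inner_subtype,
      Finset.sum_eq_zero (s := D.Xθ) (fun χ hχ => by rw [D.mm_theta S hχ, Nat.cast_zero]), sub_zero]
    push_cast
    simp [eq_comm]
  have hC0 : ∀ q, q ≠ 1 → C q = 0 := by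
    intro q hq
    obtain ⟨h, rfl⟩ := QuotientGroup.mk_surjective q
    have hh : (h : G) ∉ (P : Subgroup G) := fun e =>
      hq ((QuotientGroup.eq_one_iff h).mpr (Subgroup.mem_subgroupOf.mpr e))
    simp only [hC, Pi.add_apply, Pi.smul_apply, Pi.sub_apply, Finset.sum_apply, smul_eq_mul,
      avg_mk S (isClassFunction_of_isIrr (Subtype.prop _)) hh]
    exact D.rel _ (reg_mul S hh)
  have hC1 : C 1 = ((D.c * einv P : ℕ) : ℂ) := by
    simp only [hC, Pi.add_apply, Pi.smul_apply, Pi.sub_apply, Finset.sum_apply, smul_eq_mul,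
      avg_one S (isCharacter_of_isIrr (Subtype.prop _))]
    rw [← D.fix_sum, Finset.sum_congr rfl (s₁ := D.XN) fun χ hχ => by rw [D.fix_N χ hχ],
      Finset.sum_eq_zero (s := D.Xθ) (fun χ hχ => by rw [D.fix_θ χ hχ, Nat.cast_zero]),
      Finset.sum_const, nsmul_eq_mul]
    push_cast
    ring
  have h2 : classInner C (l : D1.cN P ⧸ Pn P → ℂ) = (D.c : ℂ) := by
    rw [classInner, card_Q S, Finset.sum_eq_single 1 (fun q _ hq => by rw [hC0 q hq, zero_mul])
      (fun h => absurd (Finset.mem_univ _) h), hC1, irr_degree_one_of_comm (comm_Q S) l.2, map_one,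
      mul_one, Nat.cast_mul, mul_comm (D.c : ℂ), ← mul_assoc, inv_mul_cancel₀, one_mul]
    exact Nat.cast_ne_zero.mpr (by have := S.two_le_e; omega)
  rw [h1] at h2
  exact_mod_cast h2

theorem mm_triv : (∀ ψ ∈ D.U, Mm P (ψ : G → ℂ) (trivIrr _) = 0) ∧
    ∀ χ ∈ D.XN, Mm P (χ : G → ℂ) (trivIrr _) = 0 := by
  have h := D.T_eq S (trivIrr _)
  rw [if_pos rfl, Nat.mul_add, mul_one] at h
  have h1 : ∑ ψ ∈ D.U, Mm P (ψ : G → ℂ) (trivIrr _) = 0 := by omega
  have h2 : D.c * ∑ χ ∈ D.XN, Mm P (χ : G → ℂ) (trivIrr _) = 0 := by omega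
  exact ⟨fun ψ hψ => Finset.sum_eq_zero_iff.mp h1 ψ hψ,
    fun χ hχ => Finset.sum_eq_zero_iff.mp ((mul_eq_zero.mp h2).resolve_left D.c_pos.ne') χ hχ⟩

theorem mm_U_eq {ψ ψ' : IrrCharacter G} (hψ : ψ ∈ D.U) (hψ' : ψ' ∈ D.U)
    (l : IrrCharacter (D1.cN P ⧸ Pn P)) :
    Mm P (ψ : G → ℂ) l = Mm P (ψ' : G → ℂ) l ∧ fix P (ψ : G → ℂ) = fix P (ψ' : G → ℂ) := by
  have hd : ∀ m : IrrCharacter (D1.cN P ⧸ Pn P), (Mm P (ψ : G → ℂ) m : ℂ) - Mm P (ψ' : G → ℂ) m =
      (einv P : ℂ)⁻¹ * ((fix P (ψ : G → ℂ) : ℂ) - fix P (ψ' : G → ℂ)) := by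
    intro m
    rw [mm_eq_inner S (isCharacter_of_isIrr ψ.2), mm_eq_inner S (isCharacter_of_isIrr ψ'.2),
      ← classInner_sub_left, classInner, card_Q S,
      Finset.sum_eq_single 1 (fun q _ hq => ?_) (fun h => absurd (Finset.mem_univ _) h),
      Pi.sub_apply, avg_one S (isCharacter_of_isIrr ψ.2), avg_one S (isCharacter_of_isIrr ψ'.2),
      irr_degree_one_of_comm (comm_Q S) m.2, map_one, mul_one]
    obtain ⟨h, rfl⟩ := QuotientGroup.mk_surjective q
    have hh : (h : G) ∉ (P : Subgroup G) := fun e =>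
      hq ((QuotientGroup.eq_one_iff h).mpr (Subgroup.mem_subgroupOf.mpr e))
    rw [Pi.sub_apply, avg_mk S (isClassFunction_of_isIrr ψ.2) hh,
      avg_mk S (isClassFunction_of_isIrr ψ'.2) hh, D.agree ψ hψ ψ' hψ' _ (reg_mul S hh), sub_self,
      zero_mul]
  have h0 := hd (trivIrr _)
  rw [(D.mm_triv S).1 ψ hψ, (D.mm_triv S).1 ψ' hψ', sub_self] at h0
  have h1 := hd l
  rw [← h0, sub_eq_zero] at h1
  refine ⟨Nat.cast_inj.mp h1, ?_⟩
  have := (mul_eq_zero.mp h0.symm).resolve_left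
    (inv_ne_zero (Nat.cast_ne_zero.mpr (by have := S.two_le_e; omega)))
  exact Nat.cast_inj.mp (sub_eq_zero.mp this)

theorem deg_ind (l : IrrCharacter (D1.cN P ⧸ Pn P)) :
    deg (indFun (D1.cN P) (tl P l)) = 1 + n * p := by
  have h := indFun_one_eval (H := D1.cN P) (tl P l)
  rw [deg_eq (isCharacter_indFun _ (isCharacter_tl P l)), tl, QuotientGroup.mk_one,
    irr_degree_one_of_comm (comm_Q S) l.2, mul_one] at h
  have hidx : (D1.cN P).index = 1 + n * p := by rw [← S.sylows]; exact P.card_eq_index_normalizer.symm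
  rw [hidx] at h
  exact_mod_cast h

theorem eq_of_constituents {θ : G → ℂ} (hθ : IsCharacter G θ) (s : Finset (IrrCharacter G))
    (h1 : ∀ χ ∈ s, mult θ χ ≠ 0) (h2 : ∑ χ ∈ s, deg (χ : G → ℂ) = deg θ) :
    θ = ∑ χ ∈ s, (χ : G → ℂ) := by
  have hd : deg θ = ∑ χ : IrrCharacter G, mult θ χ * deg (χ : G → ℂ) := by
    have h := congrFun (character_eq_sum hθ) 1
    simp only [Finset.sum_apply, Pi.smul_apply, smul_eq_mul, deg_eq hθ,
      deg_eq (isCharacter_of_isIrr (Subtype.prop _))] at h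
    exact_mod_cast h
  rw [← Finset.sum_add_sum_compl s] at hd
  have hle : ∀ χ ∈ s, deg (χ : G → ℂ) ≤ mult θ χ * deg (χ : G → ℂ) := fun χ hχ =>
    Nat.le_mul_of_pos_left _ (Nat.pos_of_ne_zero (h1 χ hχ))
  have h3 := Finset.sum_le_sum hle
  have h4 : ∑ χ ∈ sᶜ, mult θ χ * deg (χ : G → ℂ) = 0 := by omega
  have h5 : ∑ χ ∈ s, deg (χ : G → ℂ) = ∑ χ ∈ s, mult θ χ * deg (χ : G → ℂ) := by omega
  have h6 := (Finset.sum_eq_sum_iff_of_le hle).mp h5
  conv_lhs => rw [character_eq_sum hθ, ← Finset.sum_add_sum_compl s]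
  rw [Finset.sum_eq_zero (s := sᶜ) fun χ hχ => ?_, add_zero]
  · refine Finset.sum_congr rfl fun χ hχ => ?_
    have : 1 * deg (χ : G → ℂ) = mult θ χ * deg (χ : G → ℂ) := by rw [one_mul]; exact h6 χ hχ
    rw [← Nat.eq_of_mul_eq_mul_right (deg_pos χ.2) this, Nat.cast_one, one_smul]
  · have := (mul_eq_zero.mp (Finset.sum_eq_zero_iff.mp h4 χ hχ)).resolve_right (deg_pos χ.2).ne'
    rw [this, Nat.cast_zero, zero_smul]

theorem mult_ind {χ : IrrCharacter G} (l : IrrCharacter (D1.cN P ⧸ Pn P)) :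
    mult (indFun (D1.cN P) (tl P l)) χ = Mm P (χ : G → ℂ) l := by
  have h := mult_spec (isCharacter_indFun _ (isCharacter_tl P l)) (isCharacter_of_isIrr χ.2)
  rw [classInner_indFun_tl (isCharacter_of_isIrr χ.2)] at h
  exact_mod_cast h.symm

/-- A non-trivial linear character induces to an irreducible of degree `N` or to the exceptional sum. -/
theorem ind_cases {l : IrrCharacter (D1.cN P ⧸ Pn P)} (hl : l ≠ trivIrr _) :
    (∃ χ ∈ D.XN, indFun (D1.cN P) (tl P l) = (χ : G → ℂ) ∧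
      ∑ ψ ∈ D.U, Mm P (ψ : G → ℂ) l = 0) ∨
    (D.U.Nonempty ∧ indFun (D1.cN P) (tl P l) = ∑ ψ ∈ D.U, (ψ : G → ℂ) ∧
      ∑ χ ∈ D.XN, Mm P (χ : G → ℂ) l = 0) := by
  have h := D.T_eq S l
  rw [if_neg hl, zero_add] at h
  rcases Nat.eq_zero_or_pos (∑ χ ∈ D.XN, Mm P (χ : G → ℂ) l) with h0 | h0
  · right
    rw [h0, mul_zero, add_zero] at h
    have hne : D.U.Nonempty := by
      rw [Finset.nonempty_iff_ne_empty]
      intro he
      rw [he, Finset.sum_empty] at h
      exact D.c_pos.ne h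
    refine ⟨hne, eq_of_constituents S (isCharacter_indFun _ (isCharacter_tl P l)) D.U (fun ψ hψ => ?_)
      (by rw [deg_ind S l, D.deg_U hne]), h0⟩
    rw [mult_ind S l]
    intro hz
    obtain ⟨ψ', hψ', hψ'0⟩ := Finset.exists_ne_zero_of_sum_ne_zero (h.trans_ne D.c_pos.ne')
    exact hψ'0 ((D.mm_U_eq S hψ' hψ l).1.trans hz)
  · left
    obtain ⟨χ, hχ, hχ0⟩ := Finset.exists_ne_zero_of_sum_ne_zero h0.ne'
    have h1 : D.c * 1 ≤ D.c * ∑ χ ∈ D.XN, Mm P (χ : G → ℂ) l := Nat.mul_le_mul_left _ h0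
    refine ⟨χ, hχ, ?_, by omega⟩
    rw [eq_of_constituents S (isCharacter_indFun _ (isCharacter_tl P l)) {χ}
      (fun ξ hξ => by rw [Finset.mem_singleton.mp hξ, mult_ind S l]; exact hχ0)
      (by rw [deg_ind S l, Finset.sum_singleton, D.deg_N χ hχ]), Finset.sum_singleton]

theorem pi_eq_fixed (g : G) :
    indFun (D1.cN P) (fun _ => (1 : ℂ)) g = Nat.card (MulAction.fixedBy (Sylow p G) g) := by
  have key : ∀ K : Subgroup G, K = MulAction.stabilizer G P →
      indFun K (fun _ => (1 : ℂ)) g = Nat.card (MulAction.fixedBy (Sylow p G) g) := by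
    rintro K rfl
    exact indFun_one_eq_fixedBy (Sylow p G) P g
  exact key _ (Sylow.stabilizer_eq_normalizer P).symm

theorem fixedBy_of_mem {z : G} (hz : z ∈ (P : Subgroup G)) (hz1 : z ≠ 1) :
    MulAction.fixedBy (Sylow p G) z = {P} := by
  ext Q
  rw [MulAction.mem_fixedBy, Set.mem_singleton_iff]
  constructor
  · intro h
    have hzQ : z ∈ (Q : Subgroup G) := by
      have h1 : z ∈ (P : Subgroup G) ⊓ Subgroup.normalizer ((Q : Subgroup G) : Set G) :=
        ⟨hz, Sylow.smul_eq_iff_mem_normalizer.mp h⟩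
      exact ((P.isPGroup'.inf_normalizer_sylow Q).le h1).2
    refine Sylow.ext (Subgroup.eq_of_le_of_card_ge (fun y hy => ?_)
      (le_of_eq (Nat.card_congr (Q.equiv P).toEquiv))).symm
    obtain ⟨i, hi⟩ := Subgroup.mem_zpowers_iff.mp
      (mem_zpowers_of_prime_card S.card (g := (⟨z, hz⟩ : (P : Subgroup G)))
        (fun e => hz1 (congrArg Subtype.val e)) (g' := ⟨y, hy⟩))
    have hi' : z ^ i = y := by simpa using congrArg Subtype.val hi
    rw [← hi']
    exact zpow_mem hzQ i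
  · rintro rfl
    exact Sylow.smul_eq_iff_mem_normalizer.mpr (Subgroup.le_normalizer hz)

include D in
/-- Each element of `N(P) ∖ P` fixes exactly `n + 1` Sylow subgroups. -/
theorem card_fixedBy {h : G} (hh : h ∈ D1.cN P) (hhP : h ∉ (P : Subgroup G)) :
    Nat.card (MulAction.fixedBy (Sylow p G) h) = n + 1 := by
  set π : G → ℂ := indFun (D1.cN P) (fun _ => (1 : ℂ)) with hπdef
  have hπ : IsCharacter G π := isCharacter_indFun_one _
  have hfix : fix P π = n + 1 := by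
    have h1 := fix_spec P hπ
    rw [← Finset.add_sum_erase _ _ (Finset.mem_univ (1 : (P : Subgroup G))),
      Finset.sum_congr rfl (g := fun _ => (1 : ℂ)) fun y hy => ?_, OneMemClass.coe_one,
      show π 1 = ((1 + n * p : ℕ) : ℂ) by
        rw [hπdef, indFun_one_eval, mul_one, ← S.sylows, P.card_eq_index_normalizer]; rfl,
      Finset.sum_const, Finset.card_erase_of_mem (Finset.mem_univ _), Finset.card_univ,
      ← Nat.card_eq_fintype_card, show Nat.card (P : Subgroup G) = p from S.card, nsmul_eq_mul,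
      mul_one, ← Nat.cast_add, ← Nat.cast_mul] at h1
    · have h2 : p * fix P π = p * (n + 1) := by
        rw [Nat.cast_inj.mp h1, Nat.mul_add, mul_one, mul_comm p n]
        have := hp.out.pos
        omega
      exact Nat.eq_of_mul_eq_mul_left hp.out.pos h2
    · show π (y : G) = 1
      rw [hπdef, pi_eq_fixed S, fixedBy_of_mem S y.2 fun e => (Finset.mem_erase.mp hy).1 (Subtype.ext e)]
      simp
  have hM : ∀ l : IrrCharacter (D1.cN P ⧸ Pn P), l ≠ trivIrr _ → Mm P π l = 0 := by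
    intro l hl
    have hz : classInner π (indFun (D1.cN P) (tl P l)) = 0 := by
      have hone : ∀ χ : IrrCharacter G, Mm P (χ : G → ℂ) (trivIrr _) = 0 →
          classInner π (χ : G → ℂ) = 0 := by
        intro χ hχ
        rw [hπdef, show (fun _ : D1.cN P => (1 : ℂ)) = tl P (trivIrr _) from rfl,
          classInner_indFun_tl (isCharacter_of_isIrr χ.2), hχ, Nat.cast_zero]
      rcases D.ind_cases S hl with ⟨χ, hχ, he, -⟩ | ⟨-, he, -⟩
      · rw [he]; exact hone χ ((D.mm_triv S).2 χ hχ)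
      · rw [he, classInner_sum_right]
        exact Finset.sum_eq_zero fun ψ hψ => hone ψ ((D.mm_triv S).1 ψ hψ)
    have h1 := classInner_indFun_tl (P := P) hπ l
    rw [← classInner_conj_symm, hz, map_zero] at h1
    exact_mod_cast h1.symm
  have hval : ∀ q, avg P π q = (Mm P π (trivIrr _) : ℂ) := by
    intro q
    rw [avg_eq_sum S hπ, Finset.sum_eq_single (trivIrr _) (fun l _ hl => by
      rw [hM l hl, Nat.cast_zero, zero_mul]) (fun h => absurd (Finset.mem_univ _) h)]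
    exact mul_one _
  have h1 := hval 1
  rw [avg_one S hπ, hfix] at h1
  have h2 := hval ((⟨h, hh⟩ : D1.cN P) : D1.cN P ⧸ Pn P)
  rw [avg_mk S (isClassFunction_of_isCharacter hπ) (h := ⟨h, hh⟩) hhP, ← h1, hπdef,
    pi_eq_fixed S] at h2
  exact_mod_cast h2

include D in
/-- An `l`-element fixes a Sylow subgroup when `l` divides `p - 1`. -/
theorem exists_fixed {l : ℕ} [Fact l.Prime] (hl : l ∣ p - 1) {g : G} (hg : ∃ k : ℕ, g ^ l ^ k = 1) :
    ∃ Q : Sylow p G, g • Q = Q := by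
  by_contra hno
  push Not at hno
  have hout : ∀ x : G, x⁻¹ * g * x ∉ D1.cN P := by
    intro x hx
    refine hno (x • P) ?_
    have h := Sylow.smul_eq_iff_mem_normalizer.mpr hx
    rw [mul_smul, mul_smul, inv_smul_eq_iff] at h
    exact h
  have hind : ∀ m : IrrCharacter (D1.cN P ⧸ Pn P), indFun (D1.cN P) (tl P m) g = 0 := fun m =>
    indFun_eq_zero_of_not_conj_mem _ _ hout
  have hlp : l ≠ p := by
    rintro rfl
    have := Nat.le_of_dvd (Nat.sub_pos_of_lt hp.out.one_lt) hl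
    have := hp.out.pos
    omega
  have hreg : ¬ p ∣ orderOf g := by
    obtain ⟨k, hk⟩ := hg
    intro hd
    exact hlp ((Nat.prime_dvd_prime_iff_eq hp.out Fact.out).mp
      (hp.out.dvd_of_dvd_pow (hd.trans (orderOf_dvd_of_pow_eq_one hk)))).symm
  have hsumm : ∀ χ : IrrCharacter G, fix P (χ : G → ℂ) ≠ 0 →
      ∃ m, Mm P (χ : G → ℂ) m ≠ 0 := by
    intro χ hχ
    rw [← sum_mm S (isCharacter_of_isIrr χ.2)] at hχ
    obtain ⟨m, -, hm⟩ := Finset.exists_ne_zero_of_sum_ne_zero hχ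
    exact ⟨m, hm⟩
  have hN : ∀ χ ∈ D.XN, (χ : G → ℂ) g = 0 := by
    intro χ hχ
    obtain ⟨m, hm⟩ := hsumm χ (by rw [D.fix_N χ hχ]; exact Nat.succ_ne_zero n)
    have hmt : m ≠ trivIrr _ := fun e => hm (e ▸ (D.mm_triv S).2 χ hχ)
    rw [← hind m]
    refine (congrFun ?_ g).symm
    rw [eq_of_constituents S (isCharacter_indFun _ (isCharacter_tl P m)) {χ}
      (fun ξ hξ => by rw [Finset.mem_singleton.mp hξ, mult_ind S m]; exact hm)
      (by rw [deg_ind S m, Finset.sum_singleton, D.deg_N χ hχ]), Finset.sum_singleton]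
  have hU : ∑ ψ ∈ D.U, (ψ : G → ℂ) g = 0 := by
    rcases D.U.eq_empty_or_nonempty with he | hne
    · rw [he, Finset.sum_empty]
    obtain ⟨-, hf, -⟩ := D.card_U hne
    obtain ⟨ψ, hψ, hψ0⟩ := Finset.exists_ne_zero_of_sum_ne_zero (hf.trans_ne (Nat.succ_ne_zero n))
    obtain ⟨m, hm⟩ := hsumm ψ hψ0
    have hmt : m ≠ trivIrr _ := fun e => hm (e ▸ (D.mm_triv S).1 ψ hψ)
    rw [← hind m, ← Finset.sum_apply]
    refine (congrFun ?_ g).symm
    exact eq_of_constituents S (isCharacter_indFun _ (isCharacter_tl P m)) D.U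
      (fun ξ hξ => by
        rw [mult_ind S m, (D.mm_U_eq S hξ hψ m).1]; exact hm)
      (by rw [deg_ind S m, D.deg_U hne])
  have h := D.rel g hreg
  rw [hU, zero_add, Finset.sum_eq_zero hN, add_zero, mul_eq_zero] at h
  have hθ : ∑ χ ∈ D.Xθ, (χ : G → ℂ) g = 1 :=
    (sub_eq_zero.mp (h.resolve_left (Nat.cast_ne_zero.mpr D.c_pos.ne'))).symm
  obtain ⟨M, hM⟩ := exists_isPModular (Fact.out : l.Prime)
  haveI := hM.2.1.isPrime
  haveI := charP_res hM
  have hL : (∑ χ ∈ D.Xθ, charL M χ g : Loc M) = 1 := Subtype.ext (by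
    rw [AddSubmonoidClass.coe_finset_sum, OneMemClass.coe_one, ← hθ]
    exact Finset.sum_congr rfl fun χ _ => coe_charL χ g)
  have h0 : ∀ χ ∈ D.Xθ, red M (charL M χ g) = 0 := by
    intro χ hχ
    have h1 := red_charL_mul (M := M) χ (Commute.one_right g) hg
      (by rw [orderOf_one]; exact (Fact.out : l.Prime).not_dvd_one)
    rw [mul_one] at h1
    have hd : charDegree (χ : G → ℂ) = p - 1 := D.deg_θ χ hχ
    rw [h1, show charL M χ 1 = ((charDegree (χ : G → ℂ) : ℕ) : Loc M) from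
      Subtype.ext (by rw [coe_charL, charDegree_cast]; simp), map_natCast, hd,
      (CharP.cast_eq_zero_iff (Res M) l _).mpr hl]
  have := congrArg (red M) hL
  rw [map_sum, map_one, Finset.sum_eq_zero h0] at this
  exact zero_ne_one this

end CaseA

end Cfsg.Agent.Blocks.FewSylow
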