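import Cfsg.Agent.Lib.Blocks.FewSylow.Fixed
import Mathlib.RingTheory.IntegralDomain
import Mathlib.GroupTheory.GroupAction.Quotient

/-!
# The two-point stabilizers when there are few Sylow subgroups
-/

set_option autoImplicit false
set_option linter.unusedSectionVars false

namespace Cfsg.Agent.Blocks.FewSylow

open scoped Cfsg.Agent.Blocks.D1 Classical Pointwise
open MulAction

universe u

variable {p : ℕ} [hp : Fact p.Prime] {G : Type u} [Group G] [Fintype G]

/-- The stabilizer of `P` and of another Sylow subgroup. -/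
def Kq (P Q : Sylow p G) : Subgroup G := D1.cN P ⊓ stabilizer G Q

theorem smul_P_iff {P : Sylow p G} {g : G} : g • P = P ↔ g ∈ D1.cN P :=
  Sylow.smul_eq_iff_mem_normalizer

namespace Setting

variable {P : Sylow p G} {n : ℕ} (S : Setting P n)
include S

theorem semiregular {Q : Sylow p G} (hQ : Q ≠ P) {u : G} (hu : u ∈ (P : Subgroup G))
    (h : u • Q = Q) : u = 1 := by
  by_contra h1
  have hmem : Q ∈ fixedBy (Sylow p G) u := mem_fixedBy.mpr h
  rw [CaseA.fixedBy_of_mem S hu h1] at hmem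
  exact hQ hmem

theorem eq_one_of_mem_Kq {Q : Sylow p G} (hQ : Q ≠ P) {h : G} (hh : h ∈ Kq P Q)
    (hP : h ∈ (P : Subgroup G)) : h = 1 := S.semiregular hQ hP hh.2

theorem Kq_inj {Q : Sylow p G} (hQ : Q ≠ P) : Function.Injective
    (fun h : Kq P Q => ((⟨(h : G), h.2.1⟩ : D1.cN P) : D1.cN P ⧸ Pn P)) := by
  intro a b hab
  have h1 : (a : G)⁻¹ * b ∈ (P : Subgroup G) := Subgroup.mem_subgroupOf.mp (QuotientGroup.eq.mp hab)
  exact Subtype.ext (inv_mul_eq_one.mp
    (S.eq_one_of_mem_Kq hQ (mul_mem (inv_mem a.2) b.2) h1))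

theorem card_Kq_le {Q : Sylow p G} (hQ : Q ≠ P) : Nat.card (Kq P Q) ≤ einv P :=
  card_Q S ▸ Nat.card_le_card_of_injective _ (S.Kq_inj hQ)

theorem isCyclic_Kq {Q : Sylow p G} (hQ : Q ≠ P) : IsCyclic (Kq P Q) := by
  obtain ⟨T⟩ := D1.exists_setup P S.card
  let f : Kq P Q →* ZMod p :=
    { toFun := fun h => T.u ⟨(h : G), h.2.1⟩
      map_one' := T.u_one
      map_mul' := fun a b => T.u_mul ⟨(a : G), a.2.1⟩ ⟨(b : G), b.2.1⟩ }
  refine isCyclic_of_subgroup_isDomain f fun a b hab => ?_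
  have h1 : f (a⁻¹ * b) = 1 := by
    rw [map_mul, ← hab, ← map_mul, inv_mul_cancel, map_one]
  have h2 : ((a⁻¹ * b : Kq P Q) : G) ∈ (P : Subgroup G) := by
    rw [← S.cC_eq]
    exact (T.u_eq_one_iff _).mp h1
  exact inv_mul_eq_one.mp (Subtype.ext (S.eq_one_of_mem_Kq hQ (a⁻¹ * b).2 h2))

theorem conj_Kq {Q R : Sylow p G} (hQ : Q ≠ P) (hR : R ≠ P) (hcQ : Nat.card (Kq P Q) = einv P)
    (hcR : Nat.card (Kq P R) = einv P) :
    ∃ v ∈ (P : Subgroup G), Kq P R = (Kq P Q).map (MulAut.conj v).toMonoidHom := by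
  haveI := S.isCyclic_Kq hQ
  obtain ⟨w, hw⟩ := IsCyclic.exists_generator (α := Kq P Q)
  have hbij := (Nat.bijective_iff_injective_and_card (fun h : Kq P R =>
    ((⟨(h : G), h.2.1⟩ : D1.cN P) : D1.cN P ⧸ Pn P))).mpr ⟨S.Kq_inj hR, hcR.trans (card_Q S).symm⟩
  obtain ⟨w', hw'⟩ := hbij.2 ((⟨(w : G), w.2.1⟩ : D1.cN P) : D1.cN P ⧸ Pn P)
  have hu : (w : G)⁻¹ * w' ∈ (P : Subgroup G) :=
    Subgroup.mem_subgroupOf.mp (QuotientGroup.eq.mp hw'.symm)
  have hwP : (w : G) ∉ (P : Subgroup G) := by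
    intro h
    have h1 : w = 1 := Subtype.ext (S.eq_one_of_mem_Kq hQ w.2 h)
    have : Nat.card (Kq P Q) = 1 := Nat.card_eq_one_iff_unique.mpr ⟨⟨fun a b => by
      obtain ⟨i, rfl⟩ := Subgroup.mem_zpowers_iff.mp (hw a)
      obtain ⟨j, rfl⟩ := Subgroup.mem_zpowers_iff.mp (hw b)
      rw [h1, one_zpow, one_zpow]⟩, ⟨1⟩⟩
    have := S.two_le_e
    omega
  obtain ⟨v, hv, hvw⟩ := S.exists_conj w.2.1 hwP hu
  rw [mul_inv_cancel_left] at hvw
  refine ⟨v, hv, (Subgroup.eq_of_le_of_card_ge ?_ (le_of_eq (by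
    rw [card_map_conj, hcR, hcQ]))).symm⟩
  rintro _ ⟨x, hx, rfl⟩
  obtain ⟨i, hi⟩ := Subgroup.mem_zpowers_iff.mp (hw ⟨x, hx⟩)
  have hi' : (w : G) ^ i = x := by simpa using congrArg Subtype.val hi
  show v * x * v⁻¹ ∈ Kq P R
  rw [← hi', ← conj_zpow, hvw]
  exact zpow_mem w'.2 i

end Setting

namespace CaseA

variable {P : Sylow p G} {n : ℕ} (D : CaseA P n) (S : Setting P n)
include D S

theorem card_Kq {Q : Sylow p G} (hQ : Q ≠ P) : Nat.card (Kq P Q) = einv P := by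
  set Hs : Finset G := Finset.univ.filter fun h => h ∈ D1.cN P ∧ h ∉ (P : Subgroup G) with hHs
  set Os : Finset (Sylow p G) := Finset.univ.filter fun R => R ≠ P with hOs
  have hHc : Hs.card = einv P * p - p := by
    have h1 : (Finset.univ.filter fun h => h ∈ D1.cN P).card = einv P * p := by
      rw [← S.card_N, Nat.card_eq_fintype_card, Fintype.card_subtype]
    have h2 : (Finset.univ.filter fun h => h ∈ (P : Subgroup G)).card = p := by
      rw [← Fintype.card_subtype, ← Nat.card_eq_fintype_card]; exact S.card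
    have h3 := Finset.card_sdiff_of_subset (s := Finset.univ.filter fun h => h ∈ (P : Subgroup G))
      (t := Finset.univ.filter fun h => h ∈ D1.cN P)
      (Finset.monotone_filter_right _ fun h _ hh => S.P_le hh)
    rw [h1, h2] at h3
    rw [← h3]
    congr 1
    ext h; simp [hHs]
  have hOc : Os.card = n * p := by
    rw [hOs, Finset.filter_ne', Finset.card_erase_of_mem (Finset.mem_univ _), Finset.card_univ,
      ← Nat.card_eq_fintype_card, S.sylows, Nat.add_sub_cancel_left]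
  have hrow : ∀ h ∈ Hs, (Os.filter fun R => h • R = R).card = n := by
    intro h hh
    obtain ⟨hN, hP⟩ := (Finset.mem_filter.mp hh).2
    have h1 := D.card_fixedBy S hN hP
    rw [Nat.card_eq_fintype_card, ← Set.toFinset_card] at h1
    have h2 : Os.filter (fun R => h • R = R) = (fixedBy (Sylow p G) h).toFinset.erase P := by
      ext R; simp [hOs, mem_fixedBy, and_comm]
    rw [h2, Finset.card_erase_of_mem (by simp [mem_fixedBy, smul_P_iff, hN]), h1]
    omega
  have hcol : ∀ R ∈ Os, (Hs.filter fun h => h • R = R).card + 1 = Nat.card (Kq P R) := by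
    intro R hR
    have hRP := (Finset.mem_filter.mp hR).2
    have h1 : Hs.filter (fun h => h • R = R) =
        (Finset.univ.filter fun h : G => h ∈ Kq P R).erase 1 := by
      ext h
      simp only [hHs, Finset.mem_filter, Finset.mem_univ, true_and, Finset.mem_erase]
      constructor
      · rintro ⟨⟨hN, hP⟩, hf⟩
        exact ⟨fun e => hP (e ▸ one_mem _), hN, hf⟩
      · rintro ⟨hne, hK⟩
        exact ⟨⟨hK.1, fun hP => hne (S.eq_one_of_mem_Kq hRP hK hP)⟩, hK.2⟩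
    rw [h1, Finset.card_erase_of_mem (by simp), Nat.card_eq_fintype_card, Fintype.card_subtype]
    exact Nat.sub_add_cancel (Finset.card_pos.mpr ⟨1, by simp⟩)
  have hdouble : ∑ R ∈ Os, (Hs.filter fun h => h • R = R).card = Hs.card * n := by
    rw [← smul_eq_mul, ← Finset.sum_const, ← Finset.sum_congr rfl hrow]
    simp only [Finset.card_filter]
    exact Finset.sum_comm
  have hle : ∀ R ∈ Os, Nat.card (Kq P R) ≤ einv P := fun R hR =>
    S.card_Kq_le (Finset.mem_filter.mp hR).2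
  have hsum : ∑ R ∈ Os, Nat.card (Kq P R) = ∑ R ∈ Os, einv P := by
    rw [← Finset.sum_congr rfl hcol, Finset.sum_add_distrib, hdouble, Finset.sum_const,
      Finset.sum_const, hHc, hOc, smul_eq_mul, smul_eq_mul, mul_one]
    obtain ⟨k, hk⟩ : ∃ k, einv P = k + 1 := ⟨einv P - 1, by have := S.two_le_e; omega⟩
    rw [hk, Nat.add_mul, one_mul, Nat.add_sub_cancel]
    ring
  exact (Finset.sum_eq_sum_iff_of_le hle).mp hsum Q (by simp [hOs, hQ])

theorem exists_other {h : G} (hh : h ∈ D1.cN P) (hhP : h ∉ (P : Subgroup G)) :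
    ∃ Q : Sylow p G, Q ≠ P ∧ h ∈ Kq P Q := by
  have h1 := D.card_fixedBy S hh hhP
  have hn := S.n_pos
  haveI : Nontrivial (fixedBy (Sylow p G) h) :=
    Finite.one_lt_card_iff_nontrivial.mp (by omega)
  obtain ⟨⟨Q, hQ⟩, hne⟩ := exists_ne (⟨P, smul_P_iff.mpr hh⟩ : fixedBy (Sylow p G) h)
  exact ⟨Q, fun e => hne (Subtype.ext e), hh, hQ⟩

/-- An element of prime-power order dividing into `p - 1` has order dividing `e`. -/
theorem orderOf_dvd {l : ℕ} [Fact l.Prime] (hl : l ∣ p - 1) {g : G}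
    (hg : ∃ k : ℕ, g ^ l ^ k = 1) : orderOf g ∣ einv P := by
  obtain ⟨R, hR⟩ := D.exists_fixed S hl hg
  obtain ⟨x, rfl⟩ := exists_smul_eq G P R
  set h := x⁻¹ * g * x with hh
  have hN : h ∈ D1.cN P := smul_P_iff.mp (by rw [hh, mul_smul, mul_smul, hR, inv_smul_smul])
  have ho : orderOf g = orderOf h := by
    have := orderOf_injective (MulAut.conj x⁻¹).toMonoidHom (MulAut.conj x⁻¹).injective g
    simpa [hh] using this.symm
  rw [ho]
  by_cases hP : h ∈ (P : Subgroup G)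
  · obtain ⟨k, hk⟩ := hg
    have h1 := Subgroup.orderOf_dvd_natCard (P : Subgroup G) hP
    rw [show Nat.card (P : Subgroup G) = p from S.card] at h1
    rcases (Nat.dvd_prime hp.out).mp h1 with h2 | h2
    · rw [h2]; exact one_dvd _
    · exfalso
      have hd : p ∣ l ^ k := h2 ▸ ho ▸ orderOf_dvd_of_pow_eq_one hk
      have := (Nat.prime_dvd_prime_iff_eq hp.out Fact.out).mp (hp.out.dvd_of_dvd_pow hd)
      subst this
      have := Nat.le_of_dvd (Nat.sub_pos_of_lt hp.out.one_lt) hl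
      have := hp.out.pos
      omega
  · obtain ⟨Q, hQ, hmem⟩ := D.exists_other S hN hP
    exact D.card_Kq S hQ ▸ Subgroup.orderOf_dvd_natCard (Kq P Q) hmem

end CaseA

/-- A fixed two-point stabilizer together with its fixed set. -/
structure Frame {P : Sylow p G} {n : ℕ} (D : CaseA P n) (Q : Sylow p G) where
  ne : Q ≠ P
  L : Set (Sylow p G)
  card_L : Nat.card L = n + 1
  P_mem : P ∈ L
  Q_mem : Q ∈ L
  fixed : ∀ y ∈ Kq P Q, y ≠ 1 → fixedBy (Sylow p G) y = L

namespace CaseA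

variable {P : Sylow p G} {n : ℕ} (D : CaseA P n) (S : Setting P n)
include D S

theorem exists_frame : ∃ Q : Sylow p G, Nonempty (Frame D Q) := by
  have hn := S.n_pos
  haveI : Nontrivial (Sylow p G) := Finite.one_lt_card_iff_nontrivial.mp (by
    rw [S.sylows]; have := Nat.mul_pos hn hp.out.pos; omega)
  obtain ⟨Q, hQ⟩ := exists_ne P
  haveI := S.isCyclic_Kq hQ
  obtain ⟨w, hw⟩ := IsCyclic.exists_generator (α := Kq P Q)
  have hne : ∀ y : Kq P Q, y ≠ 1 → (y : G) ∉ (P : Subgroup G) := fun y hy hP =>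
    hy (Subtype.ext (S.eq_one_of_mem_Kq hQ y.2 hP))
  have hw1 : w ≠ 1 := by
    rintro rfl
    have : Nat.card (Kq P Q) = 1 := Nat.card_eq_one_iff_unique.mpr ⟨⟨fun a b => by
      obtain ⟨i, rfl⟩ := Subgroup.mem_zpowers_iff.mp (hw a)
      obtain ⟨j, rfl⟩ := Subgroup.mem_zpowers_iff.mp (hw b)
      rw [one_zpow, one_zpow]⟩, ⟨1⟩⟩
    have := S.two_le_e
    have := D.card_Kq S hQ
    omega
  refine ⟨Q, ⟨hQ, fixedBy (Sylow p G) (w : G), D.card_fixedBy S w.2.1 (hne w hw1),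
    smul_P_iff.mpr w.2.1, w.2.2, fun y hy hy1 => ?_⟩⟩
  have hsub : fixedBy (Sylow p G) (w : G) ⊆ fixedBy (Sylow p G) y := by
    obtain ⟨i, hi⟩ := Subgroup.mem_zpowers_iff.mp (hw ⟨y, hy⟩)
    intro R hR
    rw [mem_fixedBy] at hR ⊢
    have hz : (w : G) ^ i ∈ stabilizer G R := zpow_mem (mem_stabilizer_iff.mpr hR) i
    have hi' : (w : G) ^ i = y := by simpa using congrArg Subtype.val hi
    exact mem_stabilizer_iff.mp (hi' ▸ hz)
  refine (Set.eq_of_subset_of_ncard_le hsub ?_ (Set.toFinite _)).symm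
  rw [← Nat.card_coe_set_eq, ← Nat.card_coe_set_eq, D.card_fixedBy S w.2.1 (hne w hw1),
    D.card_fixedBy S hy.1 (hne ⟨y, hy⟩ fun e => hy1 (congrArg Subtype.val e))]

end CaseA

namespace Frame

variable {P Q : Sylow p G} {n : ℕ} {D : CaseA P n} (F : Frame D Q) (S : Setting P n)
include F S

theorem exists_ne_one : ∃ y ∈ Kq P Q, y ≠ 1 := by
  by_contra h
  push Not at h
  have : Nat.card (Kq P Q) = 1 := Nat.card_eq_one_iff_unique.mpr
    ⟨⟨fun a b => Subtype.ext ((h _ a.2).trans (h _ b.2).symm)⟩, ⟨1⟩⟩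
  have := S.two_le_e
  have := D.card_Kq S F.ne
  omega

theorem mem_iff {g : G} : g ∈ Kq P Q ↔ ∀ R ∈ F.L, g • R = R := by
  constructor
  · intro hg R hR
    by_cases h1 : g = 1
    · rw [h1, one_smul]
    · exact mem_fixedBy.mp ((F.fixed g hg h1).ge hR)
  · exact fun h => ⟨smul_P_iff.mp (h P F.P_mem), h Q F.Q_mem⟩

theorem normalizer_iff {g : G} :
    g ∈ Subgroup.normalizer (Kq P Q : Set G) ↔ g • F.L = F.L := by
  obtain ⟨y, hy, hy1⟩ := F.exists_ne_one S
  constructor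
  · intro hg
    have hy' : g * y * g⁻¹ ∈ Kq P Q := (Subgroup.mem_normalizer_iff.mp hg y).mp hy
    have hy'1 : g * y * g⁻¹ ≠ 1 := fun e => hy1 (conj_eq_one_iff.mp e)
    conv_lhs => rw [← F.fixed y hy hy1]
    rw [smul_fixedBy, F.fixed _ hy' hy'1]
  · intro hg
    refine Subgroup.mem_normalizer_iff.mpr fun z => ?_
    rw [F.mem_iff S, F.mem_iff S]
    constructor
    · intro h R hR
      have hR' : g⁻¹ • R ∈ F.L := Set.mem_smul_set_iff_inv_smul_mem.mp (hg.symm ▸ hR)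
      rw [mul_smul, mul_smul, h _ hR', smul_inv_smul]
    · intro h R hR
      have hR' : g • R ∈ F.L := hg ▸ Set.smul_mem_smul_set hR
      have := h _ hR'
      rw [mul_smul, mul_smul, inv_smul_smul] at this
      exact smul_left_cancel g this

theorem transitive {R : Sylow p G} (hR : R ∈ F.L) :
    ∃ g ∈ Subgroup.normalizer (Kq P Q : Set G), g • P = R := by
  obtain ⟨x, hx⟩ := exists_smul_eq G P R
  by_cases hR' : x⁻¹ • P = P
  · refine ⟨1, one_mem _, ?_⟩
    rw [inv_smul_eq_iff.mp hR', ← hx]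
    simp [eq_inv_smul_iff.mp hR'.symm]
  · have hKc := D.card_Kq S F.ne
    have hx' : Kq P (x⁻¹ • P) = (Kq P Q).map (MulAut.conj x⁻¹).toMonoidHom := by
      refine (Subgroup.eq_of_le_of_card_ge ?_ (le_of_eq (by
        rw [card_map_conj, hKc, D.card_Kq S hR']))).symm
      rintro _ ⟨z, hz, rfl⟩
      show x⁻¹ * z * x⁻¹⁻¹ ∈ _
      rw [inv_inv]
      refine ⟨smul_P_iff.mp ?_, mem_stabilizer_iff.mpr ?_⟩
      · rw [mul_smul, mul_smul, hx, (F.mem_iff S).mp hz R hR, ← hx, inv_smul_smul]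
      · rw [mul_smul, mul_smul, smul_inv_smul, (F.mem_iff S).mp hz P F.P_mem]
    obtain ⟨v, hv, hvK⟩ := S.conj_Kq F.ne hR' hKc (D.card_Kq S hR')
    refine ⟨x * v, ?_, by rw [mul_smul, smul_P_iff.mpr (S.P_le hv), hx]⟩
    have h1 : (Kq P Q).map (MulAut.conj (x * v)).toMonoidHom = Kq P Q := by
      rw [← map_conj_map_conj, ← hvK, hx', map_conj_map_conj, mul_inv_cancel, map_conj_one]
    refine Subgroup.mem_normalizer_iff.mpr fun z => ⟨fun hz => h1.le ⟨z, hz, rfl⟩, fun hz => ?_⟩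
    obtain ⟨y, hy, e⟩ := h1.ge hz
    rwa [← (MulAut.conj (x * v)).injective e]

theorem stab_eq {R : Sylow p G} (hR : R ∈ F.L) {g : G}
    (hg : g ∈ Subgroup.normalizer (Kq P Q : Set G)) (h : g • R = R) : g ∈ Kq P Q := by
  obtain ⟨x, hx, rfl⟩ := F.transitive S hR
  set a := x⁻¹ * g * x with ha
  have haN : a ∈ Subgroup.normalizer (Kq P Q : Set G) := mul_mem (mul_mem (inv_mem hx) hg) hx
  have haP : a ∈ D1.cN P := smul_P_iff.mp (by rw [ha, mul_smul, mul_smul, h, inv_smul_smul])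
  suffices ha' : a ∈ Kq P Q by
    have h2 := (Subgroup.mem_normalizer_iff.mp hx a).mp ha'
    rwa [ha, show x * (x⁻¹ * g * x) * x⁻¹ = g by group] at h2
  have hbij := (Nat.bijective_iff_injective_and_card (fun h : Kq P Q =>
    ((⟨(h : G), h.2.1⟩ : D1.cN P) : D1.cN P ⧸ Pn P))).mpr
    ⟨S.Kq_inj F.ne, (D.card_Kq S F.ne).trans (card_Q S).symm⟩
  obtain ⟨z, hz⟩ := hbij.2 ((⟨a, haP⟩ : D1.cN P) : D1.cN P ⧸ Pn P)
  have hu : (z : G)⁻¹ * a ∈ (P : Subgroup G) :=
    Subgroup.mem_subgroupOf.mp (QuotientGroup.eq.mp hz)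
  have huN : (z : G)⁻¹ * a ∈ Subgroup.normalizer (Kq P Q : Set G) :=
    mul_mem (inv_mem (Subgroup.le_normalizer z.2)) haN
  suffices hu1 : (z : G)⁻¹ * a = 1 by rw [← inv_mul_eq_one.mp hu1]; exact z.2
  obtain ⟨y, hy, hy1⟩ := F.exists_ne_one S
  by_contra hu1
  set u := (z : G)⁻¹ * a
  have h1 : u * y * u⁻¹ * y⁻¹ ∈ Kq P Q :=
    mul_mem ((Subgroup.mem_normalizer_iff.mp huN y).mp hy) (inv_mem hy)
  have h2 : u * y * u⁻¹ * y⁻¹ ∈ (P : Subgroup G) := S.comm_mem (S.P_le hu) hy.1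
  have h3 := S.eq_one_of_mem_Kq F.ne h1 h2
  exact hy1 (S.eq_one_of_mem_Kq F.ne hy
    (S.cent_of_mem hu hu1 (mul_inv_eq_iff_eq_mul.mp (mul_inv_eq_one.mp h3)).symm))

theorem card_normalizer :
    Nat.card (Subgroup.normalizer (Kq P Q : Set G)) = (n + 1) * einv P := by
  set NE := Subgroup.normalizer (Kq P Q : Set G)
  have ho : MulAction.orbit NE P = F.L := by
    ext R
    constructor
    · rintro ⟨⟨g, hg⟩, rfl⟩
      exact (F.normalizer_iff S).mp hg ▸ Set.smul_mem_smul_set F.P_mem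
    · intro hR
      obtain ⟨g, hg, e⟩ := F.transitive S hR
      exact ⟨⟨g, hg⟩, e⟩
  have hs : stabilizer NE P = (Kq P Q).subgroupOf NE := by
    ext ⟨g, hg⟩
    rw [mem_stabilizer_iff, Subgroup.mem_subgroupOf]
    exact ⟨fun h => F.stab_eq S F.P_mem hg h, fun h => (F.mem_iff S).mp h P F.P_mem⟩
  have h1 := Nat.card_congr (orbitProdStabilizerEquivGroup NE P)
  rw [Nat.card_prod, ho, hs, card_subgroupOf Subgroup.le_normalizer, D.card_Kq S F.ne,
    F.card_L] at h1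
  exact h1.symm

end Frame

end Cfsg.Agent.Blocks.FewSylow
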