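import Cfsg.Agent.Lib.Blocks.FewSylow.BigPrime
import Cfsg.Agent.Lib.Blocks.FewSylow.Final
import Cfsg.Agent.Lib.Components.PPrimeCore

/-!
# Perfect groups whose order is less than the cube of one of its prime divisors
-/

set_option autoImplicit false
set_option linter.unusedSectionVars false

namespace Cfsg.Agent.Blocks.FewSylow

open scoped Cfsg.Agent.Blocks.D1 Classical commutatorElement

universe u

variable {p : ℕ} [hp : Fact p.Prime]

theorem simple_classify {G : Type u} [Group G] [Fintype G] [IsSimpleGroup G]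
    (hnc : ¬ IsMulCommutative G) (hdvd : p ∣ Nat.card G) (hbig : Nat.card G < p ^ 3) :
    (∃ (F : Type) (_ : Field F) (_ : Fintype F), Fintype.card F = p ∧ 3 < p ∧
      Nonempty (G ≃* Matrix.ProjectiveSpecialLinearGroup (Fin 2) F)) ∨
    (∃ (m : ℕ) (F : Type) (_ : Field F) (_ : Fintype F), Fintype.card F = 2 ^ m ∧ p = 2 ^ m + 1 ∧
      3 < p ∧ Nonempty (G ≃* Matrix.SpecialLinearGroup (Fin 2) F)) := by
  obtain ⟨n, S⟩ := Big.cC_eq hnc hdvd hbig (default : Sylow p G)
  exact S.classify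

theorem card_lower {G : Type u} [Group G] [Fintype G] [IsSimpleGroup G]
    (hnc : ¬ IsMulCommutative G) (hdvd : p ∣ Nat.card G) (hbig : Nat.card G < p ^ 3) :
    p ^ 3 < 3 * Nat.card G := by
  rcases simple_classify hnc hdvd hbig with ⟨F, iF, tF, hF, h3, ⟨e⟩⟩ |
    ⟨m, F, iF, tF, hF, hm, h3, ⟨e⟩⟩
  · have hodd : Fintype.card F % 2 = 1 := by
      rw [hF]; exact Nat.odd_iff.mp (hp.out.odd_of_ne_two (by omega))
    have h1 := RecognizePSL.natCard_PSL2 (F := F) hodd
    rw [← Nat.card_congr e.toEquiv, hF] at h1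
    obtain ⟨q, rfl⟩ : ∃ q, p = q + 4 := ⟨p - 4, by omega⟩
    rw [show q + 4 - 1 = q + 3 by omega] at h1
    nlinarith only [h1, Nat.zero_le (q * q * q), Nat.zero_le (q * q), Nat.zero_le q]
  · rw [Nat.card_congr e.toEquiv, SL2.card_G, hF]
    obtain ⟨q, hq⟩ : ∃ q, 2 ^ m = q + 3 := ⟨2 ^ m - 3, by omega⟩
    have hq1 : 1 ≤ q := by
      by_contra hq0
      have hm3 : 2 ^ m = 3 := by omega
      rcases m with _ | _ | m
      · norm_num at hm3
      · norm_num at hm3
      · rw [pow_succ, pow_succ] at hm3; omega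
    rw [hm, hq, show q + 3 - 1 = q + 2 by omega]
    nlinarith only [Nat.zero_le (q * q * q), Nat.zero_le (q * q), Nat.zero_le q, hq1]

theorem mem_of_pow_eq_one {G : Type u} [Group G] [Finite G] (hsq : ¬ p ^ 2 ∣ Nat.card G)
    (M : Subgroup G) [M.Normal] (hd : p ∣ Nat.card M) {x : G} (hx : x ^ p = 1) : x ∈ M := by
  rw [← QuotientGroup.eq_one_iff]
  have h1 : orderOf (x : G ⧸ M) ∣ p :=
    orderOf_dvd_of_pow_eq_one (by rw [← QuotientGroup.mk_pow, hx, QuotientGroup.mk_one])
  rcases (Nat.dvd_prime hp.out).mp h1 with h | h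
  · exact orderOf_eq_one_iff.mp h
  · refine absurd ?_ hsq
    have h2 : p ∣ M.index := h ▸ orderOf_dvd_natCard (x : G ⧸ M)
    rw [← M.card_mul_index, pow_two]
    exact Nat.mul_dvd_mul hd h2

theorem card_of_not_normal {G : Type u} [Group G] [Fintype G] (hdvd : p ∣ Nat.card G)
    (hbig : Nat.card G < p ^ 3) (P : Sylow p G) (hP : ¬ (P : Subgroup G).Normal) :
    Nat.card P = p ∧ ¬ p ^ 2 ∣ Nat.card G := by
  have hPc := P.card_eq_multiplicity
  set k := (Nat.card G).factorization p with hk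
  have hk1 : 1 ≤ k := (hp.out.dvd_iff_one_le_factorization Nat.card_pos.ne').mp hdvd
  have hk3 : k < 3 := by
    by_contra h
    have h1 : p ^ k ∣ Nat.card G := Nat.ordProj_dvd _ _
    have := Nat.le_of_dvd Nat.card_pos ((pow_dvd_pow p (show 3 ≤ k by omega)).trans h1)
    omega
  rcases Nat.lt_or_ge k 2 with h | h
  · refine ⟨by rw [hPc, show k = 1 by omega, pow_one], fun hd => ?_⟩
    have := (hp.out.pow_dvd_iff_le_factorization Nat.card_pos.ne').mp hd
    omega
  exfalso
  have hk2 : k = 2 := by omega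
  have hidx : (P : Subgroup G).index < p := by
    have h1 := Subgroup.card_mul_index (P : Subgroup G)
    rw [show Nat.card ↥(P : Subgroup G) = p ^ 2 from hk2 ▸ hPc] at h1
    rw [← h1, pow_succ] at hbig
    exact Nat.lt_of_mul_lt_mul_left hbig
  have h2 : Nat.card (Sylow p G) = 1 := by
    have hle : Nat.card (Sylow p G) ≤ (P : Subgroup G).index :=
      Nat.le_of_dvd (Nat.pos_of_ne_zero Subgroup.index_ne_zero_of_finite) P.card_dvd_index
    have hm := card_sylow_modEq_one p G
    rw [Nat.ModEq, Nat.mod_eq_of_lt (hle.trans_lt hidx), Nat.mod_eq_of_lt hp.out.one_lt] at hm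
    exact hm
  haveI : Subsingleton (Sylow p G) := (Nat.card_eq_one_iff_unique.mp h2).1
  exact hP P.normal_of_subsingleton

theorem not_normal_of_perfect {G : Type u} [Group G] [Fintype G] (hperf : commutator G = ⊤)
    (hdvd : p ∣ Nat.card G) (R : Sylow p G) (hR : Nat.card R = p) : ¬ (R : Subgroup G).Normal := by
  intro hn
  haveI : IsCyclic R := isCyclic_of_prime_card hR
  obtain ⟨T⟩ := D1.exists_setup R hR
  have hle : Subgroup.normalizer ((R : Subgroup G) : Set G) ≤
      Subgroup.centralizer ((R : Subgroup G) : Set G) := by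
    have hcomm : (⊤ : Subgroup G) ≤ D1.cC R := by
      rw [← hperf, commutator_def, Subgroup.commutator_le]
      intro a _ b _
      have hN : ∀ g : G, g ∈ D1.cN R := fun g => by
        rw [D1.cN, Subgroup.normalizer_eq_top_iff.mpr hn]; trivial
      refine (T.u_eq_one_iff (⟨a, hN a⟩ * ⟨b, hN b⟩ * ⟨a, hN a⟩⁻¹ * ⟨b, hN b⟩⁻¹)).mp ?_
      have e : ∀ x : D1.cN R, T.u x * T.u x⁻¹ = 1 := fun x => by
        rw [← T.u_mul, mul_inv_cancel, T.u_one]
      rw [T.u_mul, T.u_mul, T.u_mul]
      linear_combination (T.u ⟨b, hN b⟩ * T.u (⟨b, hN b⟩ : D1.cN R)⁻¹) * e ⟨a, hN a⟩ + e ⟨b, hN b⟩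
    exact fun g _ => hcomm (Subgroup.mem_top g)
  letI := IsCyclic.commGroup (α := R)
  set f := MonoidHom.transferSylow R hle
  have htop : f.ker = ⊤ := top_le_iff.mp (hperf ▸ Abelianization.commutator_subset_ker f)
  have h2 := MonoidHom.not_dvd_card_ker_transferSylow R hle
  rw [show (MonoidHom.transferSylow R hle).ker = ⊤ from htop, Subgroup.card_top] at h2
  exact h2 hdvd

theorem perfect_classify {G : Type u} [Group G] [Fintype G] (hperf : commutator G = ⊤)
    (hdvd : p ∣ Nat.card G) (hbig : Nat.card G < p ^ 3) (P : Sylow p G)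
    (hP : ¬ (P : Subgroup G).Normal) (h2 : ∀ N : Subgroup G, N.Normal → Nat.card N ≠ 2) :
    (∃ (F : Type) (_ : Field F) (_ : Fintype F), Fintype.card F = p ∧ 3 < p ∧
      Nonempty (G ≃* Matrix.ProjectiveSpecialLinearGroup (Fin 2) F)) ∨
    (∃ (m : ℕ) (F : Type) (_ : Field F) (_ : Fintype F), Fintype.card F = 2 ^ m ∧ p = 2 ^ m + 1 ∧
      3 < p ∧ Nonempty (G ≃* Matrix.SpecialLinearGroup (Fin 2) F)) := by
  obtain ⟨hPc, hsq⟩ := card_of_not_normal hdvd hbig P hP
  set K := Cfsg.pPrimeCore p G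
  have hKd : ¬ p ∣ Nat.card K := Components.pPrimeCore_not_dvd
  let π := QuotientGroup.mk' K
  letI : Fintype (G ⧸ K) := Fintype.ofFinite _
  have hQp : commutator (G ⧸ K) = ⊤ := by
    rw [commutator_def, ← Subgroup.map_top_of_surjective π (QuotientGroup.mk'_surjective K),
      ← Subgroup.map_commutator, ← commutator_def, hperf]
  have hGQ : Nat.card G = Nat.card (G ⧸ K) * Nat.card K := K.card_eq_card_quotient_mul_card_subgroup
  have hQd : p ∣ Nat.card (G ⧸ K) := ((hp.out.dvd_mul).mp (hGQ ▸ hdvd)).resolve_right hKd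
  have hQsq : ¬ p ^ 2 ∣ Nat.card (G ⧸ K) := fun h => hsq (hGQ ▸ h.mul_right _)
  have hQO : Cfsg.pPrimeCore p (G ⧸ K) = ⊥ := Components.pPrimeCore_quotient_eq_bot
  let R : Sylow p (G ⧸ K) := default
  have hRc : Nat.card R = p := by
    rw [R.card_eq_multiplicity, show (Nat.card (G ⧸ K)).factorization p = 1 from ?_, pow_one]
    have h1 := (hp.out.dvd_iff_one_le_factorization Nat.card_pos.ne').mp hQd
    by_contra hne
    exact hQsq ((hp.out.pow_dvd_iff_le_factorization Nat.card_pos.ne').mpr (by omega))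
  have hRn := not_normal_of_perfect hQp hQd R hRc
  set L := Subgroup.normalClosure ((R : Subgroup (G ⧸ K)) : Set (G ⧸ K))
  have hRL : (R : Subgroup (G ⧸ K)) ≤ L := Subgroup.subset_normalClosure
  have hLd : p ∣ Nat.card L := by
    have h := Subgroup.card_dvd_of_le hRL
    rwa [show Nat.card ↥(R : Subgroup (G ⧸ K)) = p from hRc] at h
  have hLsq : ¬ p ^ 2 ∣ Nat.card L := fun h => hQsq (h.trans (Subgroup.card_subgroup_dvd_card L))
  letI : Fintype L := Fintype.ofFinite _
  haveI : Nontrivial L := Finite.one_lt_card_iff_nontrivial.mp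
    (hp.out.one_lt.trans_le (Nat.le_of_dvd Nat.card_pos hLd))
  haveI : IsSimpleGroup L := by
    refine ⟨fun M hM => ?_⟩
    haveI := hM
    by_cases hd : p ∣ Nat.card M
    · right
      have hle : L ≤ M.map L.subtype := by
        have key : ∀ x : L, (x : G ⧸ K) ^ p = 1 → x ∈ M := fun x hx =>
          mem_of_pow_eq_one hLsq M hd (Subtype.ext (by simpa using hx))
        refine Subgroup.closure_le _ |>.mpr ?_
        intro x hx
        obtain ⟨y, hy, hyx⟩ := Group.mem_conjugatesOfSet_iff.mp hx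
        obtain ⟨g, rfl⟩ := isConj_iff.mp hyx
        have hxL : g * y * g⁻¹ ∈ L := Subgroup.subset_closure hx
        refine ⟨⟨_, hxL⟩, key ⟨_, hxL⟩ ?_, rfl⟩
        have h1 := Subgroup.orderOf_dvd_natCard (R : Subgroup (G ⧸ K)) hy
        rw [show Nat.card ↥(R : Subgroup (G ⧸ K)) = p from hRc] at h1
        rw [show ((⟨g * y * g⁻¹, hxL⟩ : L) : G ⧸ K) = g * y * g⁻¹ from rfl, conj_pow,
          orderOf_dvd_iff_pow_eq_one.mp h1]
        simp
      refine (Subgroup.eq_top_iff' M).mpr fun x => ?_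
      obtain ⟨y, hy, hyx⟩ := hle x.2
      rwa [← Subtype.ext hyx]
    · left
      have h1 := Components.map_subtype_pPrimeCore_of_subnormal (p := p) (H := L)
        (Components.isSubnormal_of_normal L)
      rw [hQO, bot_inf_eq, Subgroup.map_eq_bot_iff_of_injective _ L.subtype_injective] at h1
      exact le_bot_iff.mp (h1 ▸ Components.le_pPrimeCore hM ((hp.out.coprime_iff_not_dvd.mpr hd).symm))
  have hLnc : ¬ IsMulCommutative L := by
    intro hc
    refine hRn ⟨fun y hy g => ?_⟩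
    have hgy : g * y * g⁻¹ ∈ L := (Subgroup.normalClosure_normal).conj_mem y (hRL hy) g
    haveI : ((R : Subgroup (G ⧸ K)).subgroupOf L).Normal :=
      ⟨fun a ha b => by rwa [hc.is_comm.comm b a, mul_inv_cancel_right]⟩
    have hd : p ∣ Nat.card ((R : Subgroup (G ⧸ K)).subgroupOf L) := by
      rw [card_subgroupOf hRL]; exact dvd_of_eq hRc.symm
    have h1 := Subgroup.orderOf_dvd_natCard (R : Subgroup (G ⧸ K)) hy
    rw [show Nat.card ↥(R : Subgroup (G ⧸ K)) = p from hRc] at h1
    exact mem_of_pow_eq_one hLsq _ hd (x := (⟨_, hgy⟩ : L)) (Subtype.ext (by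
      show ((⟨g * y * g⁻¹, hgy⟩ : L) ^ p : L).1 = 1
      rw [SubmonoidClass.coe_pow, conj_pow, orderOf_dvd_iff_pow_eq_one.mp h1]
      simp))
  have hLbig : Nat.card L < p ^ 3 :=
    lt_of_le_of_lt (Nat.le_of_dvd Nat.card_pos
      ((Subgroup.card_subgroup_dvd_card L).trans (Subgroup.card_quotient_dvd_card K))) hbig
  have hlow := card_lower hLnc hLd hLbig
  have hcard : Nat.card G = Nat.card L * (L.index * Nat.card K) := by
    rw [hGQ, ← L.card_mul_index]; ring
  have hlt3 : L.index * Nat.card K < 3 := by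
    have h : Nat.card L * (L.index * Nat.card K) < Nat.card L * 3 := by
      rw [← hcard, mul_comm (Nat.card L) 3]; omega
    exact Nat.lt_of_mul_lt_mul_left h
  have hidx0 : 0 < L.index := Nat.pos_of_ne_zero Subgroup.index_ne_zero_of_finite
  have hK0 : 0 < Nat.card K := Nat.card_pos
  have hLtop : L = ⊤ := by
    by_contra hne
    have h1 : L.index ≠ 1 := fun h => hne (Subgroup.index_eq_one.mp h)
    have h2 : L.index = 2 := by
      have := Nat.le_mul_of_pos_right L.index hK0
      omega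
    haveI : Fact (Nat.Prime 2) := ⟨Nat.prime_two⟩
    haveI : IsCyclic ((G ⧸ K) ⧸ L) := isCyclic_of_prime_card (p := 2) h2
    letI := IsCyclic.commGroup (α := (G ⧸ K) ⧸ L)
    have h3 := Abelianization.commutator_subset_ker (QuotientGroup.mk' L)
    rw [hQp, QuotientGroup.ker_mk', top_le_iff] at h3
    exact hne h3
  have hKbot : K = ⊥ := by
    refine Subgroup.eq_bot_of_card_eq _ ?_
    have hKn : K.Normal := inferInstance
    have := h2 K hKn
    rw [hLtop, Subgroup.index_top, one_mul] at hlt3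
    omega
  let e : G ≃* L := (QuotientGroup.quotientBot.symm.trans
    (QuotientGroup.quotientMulEquivOfEq hKbot.symm)).trans
      (Subgroup.topEquiv.symm.trans (MulEquiv.subgroupCongr hLtop.symm))
  rcases simple_classify hLnc hLd hLbig with ⟨F, iF, tF, hF, h3, ⟨f⟩⟩ |
    ⟨m, F, iF, tF, hF, hm, h3, ⟨f⟩⟩
  · exact Or.inl ⟨F, iF, tF, hF, h3, ⟨e.trans f⟩⟩
  · exact Or.inr ⟨m, F, iF, tF, hF, hm, h3, ⟨e.trans f⟩⟩

end Cfsg.Agent.Blocks.FewSylow
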