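import Cfsg.Agent.Lib.Blocks.FewSylow.Perfect
import Cfsg.Agent.Lib.Blocks.Orthogonality

/-!
# When `n` has no parametrised form the Sylow subgroup of order `p` is self-centralizing

The principal block then has a character of degree `p - 1` whose value at every singular element of
the centralizer of the Sylow subgroup is `-1`; the `p`-regular part of the centralizer is in its kernel.
-/

set_option autoImplicit false
set_option linter.unusedSectionVars false

namespace Cfsg.Agent.Blocks.FewSylow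

open scoped Cfsg.Agent.Blocks.D1 Classical ComplexConjugate
open CT

universe u

variable {p : ℕ} [hp : Fact p.Prime] {G : Type u} [Group G] [Fintype G]

theorem plus_cases {e n d : ℕ} (he : e ∣ p - 1) (he2 : 2 ≤ e) (hnf : NForm p n) (hd : p ∣ d - 1)
    (hd0 : 0 < d) (hdvd : d ∣ e * (1 + n * p)) : d = 1 ∨ d = 1 + n * p := by
  obtain ⟨u, hu⟩ := hd
  have hdu : d = u * p + 1 := by rw [mul_comm, ← hu]; omega
  subst hdu
  obtain ⟨w, hw⟩ := hdvd
  have hp2 := hp.out.two_le
  have hlt : e < p := by have := Nat.le_of_dvd (by omega) he; omega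
  have hmod : w % p = e := by
    have h1 := congrArg (· % p) hw
    simp only [Nat.mul_mod, Nat.add_mod, Nat.mul_mod_left, Nat.mod_eq_of_lt hp.out.one_lt, zero_add,
      add_zero, Nat.mod_mod, one_mul, mul_one, Nat.mod_eq_of_lt hlt] at h1
    simpa [Nat.mod_eq_of_lt hp.out.one_lt, Nat.mod_eq_of_lt hlt] using h1.symm
  obtain ⟨h, rfl⟩ : ∃ h, w = h * p + e := ⟨w / p, by
    have := Nat.div_add_mod w p
    rw [mul_comm, hmod] at this
    omega⟩
  rcases no_plus hp.out.pos (t := (p - 1) / e) (by rw [Nat.div_mul_cancel he]; omega) hnf hw.symm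
    with rfl | rfl
  · left; omega
  · right
    rw [zero_mul, zero_add, mul_comm (u * p + 1)] at hw
    exact (Nat.eq_of_mul_eq_mul_left (by omega) hw).symm

theorem minus_cases {e n d : ℕ} (he : e ∣ p - 1) (he2 : 2 ≤ e) (hnf : NForm p n) (hd : p ∣ d + 1)
    (hdvd : d ∣ e * (1 + n * p)) : d = p - 1 ∨ d = e * (1 + n * p) := by
  obtain ⟨u, hu⟩ := hd
  obtain ⟨w, hw⟩ := hdvd
  have hp2 := hp.out.two_le
  have hdu : (d : ℤ) = (u : ℤ) * p - 1 := by
    have : ((d + 1 : ℕ) : ℤ) = ((p * u : ℕ) : ℤ) := by rw [hu]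
    push_cast at this
    linarith
  have hwz : (d : ℤ) * w = e * (1 + n * p) := by exact_mod_cast hw.symm
  obtain ⟨k, hk⟩ := Int.natCast_dvd_natCast.mp (show ((p : ℕ) : ℤ) ∣ ((w + e : ℕ) : ℤ) by
    push_cast
    exact ⟨(u : ℤ) * w - e * n, by rw [hdu] at hwz; linear_combination -hwz⟩)
  have hwk : (w : ℤ) = (k : ℤ) * p - e := by
    have : ((w + e : ℕ) : ℤ) = ((p * k : ℕ) : ℤ) := by rw [hk]
    push_cast at this
    linarith
  have hw0 : 0 < (k : ℤ) * p - e := by
    rw [← hwk]
    have : w ≠ 0 := by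
      rintro rfl
      rw [mul_zero] at hw
      exact absurd hw (Nat.mul_ne_zero (by omega) (by omega))
    omega
  have hte : (p - 1) / e * e + 1 = p := by rw [Nat.div_mul_cancel he]; omega
  have hd' := hwz
  rw [hdu, hwk] at hwz
  rcases no_minus (u := u) (k := k) hp.out.two_le hte hnf hw0 hwz with rfl | ⟨ht1, hk1⟩
  · left; omega
  · right
    rw [ht1, one_mul] at hte
    subst hk1
    have hw1 : w = 1 := by omega
    rw [hw, hw1, mul_one]

theorem self_centralizing (P : Sylow p G) {n : ℕ} (hP : Nat.card P = p)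
    (hperf : commutator G = ⊤) (hcore : ∀ K : Subgroup G, K.Normal → ¬ p ∣ Nat.card K → K = ⊥)
    (hn : Nat.card (Sylow p G) = 1 + n * p) (hnf : NForm p n) {g : G}
    (hg : ∀ y ∈ (P : Subgroup G), g * y = y * g) : g ∈ (P : Subgroup G) := by
  obtain ⟨T⟩ := D1.exists_setup P hP
  set e := (D1.cC P).relIndex (D1.cN P) with hedef
  obtain ⟨M, hM⟩ := exists_isPModular hp.out
  haveI := hM.2.1.isPrime
  obtain ⟨X₀, Y₀, εX, ε, hdvd, hXY, hdis, -, hYc, hX, hε, hY, hag, hrel⟩ :=
    D1.exists_principal_structure (M := M) hM P hP hedef.symm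
  have hCN : D1.cC P ≤ D1.cN P := Subgroup.centralizer_le_normalizer _
  have hidx : (Subgroup.centralizer ({T.x} : Set G)).index = e * (1 + n * p) := by
    rw [T.centralizer_x, ← hn, P.card_eq_index_normalizer]
    exact (Subgroup.relIndex_mul_index hCN).symm
  have hp2 := hp.out.two_le
  have hdG : p ∣ Nat.card G := by
    have h := Subgroup.card_subgroup_dvd_card (P : Subgroup G)
    rwa [show Nat.card ↥(P : Subgroup G) = p from hP] at h
  have hnn : ¬ (P : Subgroup G).Normal := not_normal_of_perfect hperf hdG P hP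
  have hn1 : 1 ≤ n := by
    by_contra h
    rw [show n = 0 by omega, zero_mul, add_zero] at hn
    haveI : Subsingleton (Sylow p G) := (Nat.card_eq_one_iff_unique.mp hn).1
    exact hnn P.normal_of_subsingleton
  have he2 : 2 ≤ e := by
    by_contra hlt
    have he0 : e ≠ 0 := by
      intro h
      rw [h, zero_mul] at hidx
      exact Subgroup.index_ne_zero_of_finite hidx
    have h1 : D1.cN P ≤ D1.cC P := Subgroup.relIndex_eq_one.mp (show e = 1 by omega)
    haveI : IsCyclic P := isCyclic_of_prime_card hP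
    letI := IsCyclic.commGroup (α := P)
    set f := MonoidHom.transferSylow P h1
    have htop : f.ker = ⊤ := top_le_iff.mp (hperf ▸ Abelianization.commutator_subset_ker f)
    have h2 := MonoidHom.not_dvd_card_ker_transferSylow P h1
    rw [show (MonoidHom.transferSylow P h1).ker = ⊤ from htop, Subgroup.card_top] at h2
    exact h2 hdG
  have helt : e < p := by have := Nat.le_of_dvd (by omega) hdvd; omega
  have hx1 : T.x ≠ 1 := fun h => hp.out.one_lt.ne (by rw [← T.hx, h, orderOf_one])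
  have hxP : T.x ∈ (P : Subgroup G) := T.hxP ▸ Subgroup.mem_zpowers _
  have hint : ∀ χ : IrrCharacter G, IsIntegral ℤ (((e * (1 + n * p) : ℕ) : ℂ) *
      (χ : G → ℂ) T.x / (deg (χ : G → ℂ) : ℂ)) := by
    intro χ
    obtain ⟨m, ρ, hρ, hχ⟩ := χ.2
    haveI := hρ
    have hd : deg (χ : G → ℂ) = Module.finrank ℂ (Fin m → ℂ) := by
      apply Nat.cast_injective (R := ℂ)
      rw [← deg_eq (isCharacter_of_isIrr χ.2), ← hχ, Representation.char_one]
    rw [hd, ← hχ, ← hidx]
    exact CT.isIntegral_omega ρ T.x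
  set X : Finset (IrrCharacter G) := X₀.toFinset with hXdef
  set Y : Finset (IrrCharacter G) := Y₀.toFinset with hYdef
  have hdisj : Disjoint X Y := by rw [hXdef, hYdef, Set.disjoint_toFinset]; exact hdis
  have hreg1 : ¬ p ∣ orderOf (1 : G) := by rw [orderOf_one]; exact hp.out.not_dvd_one
  have hXv : ∀ χ ∈ X, (χ : G → ℂ) T.x = (εX χ : ℂ) := by
    intro χ hχ
    have h := (hX χ (Set.mem_toFinset.mp hχ)).2.2 T.x hxP hx1 1 (one_mem _) hreg1
    rwa [mul_one] at h
  -- the degrees of the non-exceptional characters divide the class size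
  have hXdvd : ∀ χ ∈ X, deg (χ : G → ℂ) ∣ e * (1 + n * p) := by
    intro χ hχ
    refine CT.dvd_of_isIntegral_div (deg_pos χ.2).ne' ?_
    have h := (hint χ).mul (CT.isIntegral_intCast (εX χ))
    rw [hXv χ hχ] at h
    have e1 : ((e * (1 + n * p) : ℕ) : ℂ) / (deg (χ : G → ℂ) : ℂ) =
        ((e * (1 + n * p) : ℕ) : ℂ) * (εX χ : ℂ) / (deg (χ : G → ℂ) : ℂ) * (εX χ : ℂ) := by
      rcases (hX χ (Set.mem_toFinset.mp hχ)).1 with h' | h' <;> rw [h'] <;> push_cast <;> ring
    rw [e1]; exact h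
  have hXd : ∀ χ ∈ X, (deg (χ : G → ℂ) : ℤ) ≡ εX χ [ZMOD p] := fun χ hχ =>
    (hX χ (Set.mem_toFinset.mp hχ)).2.1
  have hYne : Y.Nonempty := by
    rw [← Finset.card_pos, hYdef, ← Nat.card_eq_card_toFinset, hYc]
    exact Nat.div_pos (Nat.le_of_dvd (by omega) hdvd) (by omega)
  obtain ⟨ψ₀, hψ₀⟩ := hYne
  set x := deg (ψ₀ : G → ℂ) with hxdef
  have hx0 : 0 < x := deg_pos ψ₀.2
  have hYx : ∀ ψ ∈ Y, deg (ψ : G → ℂ) = x := fun ψ hψ => by
    have h := hag ψ (Set.mem_toFinset.mp hψ) ψ₀ (Set.mem_toFinset.mp hψ₀) 1 hreg1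
    rw [deg_eq (isCharacter_of_isIrr ψ.2), deg_eq (isCharacter_of_isIrr ψ₀.2)] at h
    exact_mod_cast h
  have hsumX : ∑ χ ∈ X, εX χ * (deg (χ : G → ℂ) : ℤ) = ε * x := by
    have h := hrel ψ₀ (Set.mem_toFinset.mp hψ₀) 1 hreg1
    rw [finsum_mem_eq_toFinset_sum, deg_eq (isCharacter_of_isIrr ψ₀.2), ← hxdef,
      Finset.sum_congr rfl fun χ _ => by rw [deg_eq (isCharacter_of_isIrr χ.2)]] at h
    exact_mod_cast h.symm
  -- the sum of the exceptional values at the generator
  have hYsum : ∑ ψ ∈ Y, (ψ : G → ℂ) T.x = -(ε : ℂ) := by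
    have h := weak_orthogonality hM
      (blockCoeff_mem_loc (M := M) (isPBlock_principalBlock (G := G))) hreg1 (h := T.x)
      (by rw [T.hx])
    rw [hXY, finsum_mem_eq_toFinset_sum, Set.toFinset_union, Finset.sum_union hdisj] at h
    have h' := congrArg conj h
    rw [map_zero, map_add, map_sum, map_sum,
      Finset.sum_congr (s₁ := X) rfl (g := fun χ : IrrCharacter G => ((εX χ * (deg (χ : G → ℂ) : ℤ) : ℤ) : ℂ))
        fun χ hχ => by
          rw [map_mul, Complex.conj_conj, deg_eq (isCharacter_of_isIrr χ.2), map_natCast, hXv χ hχ]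
          push_cast; ring,
      Finset.sum_congr (s₁ := Y) rfl (g := fun ψ : IrrCharacter G => (x : ℂ) * (ψ : G → ℂ) T.x)
        fun ψ hψ => by
          rw [map_mul, Complex.conj_conj, deg_eq (isCharacter_of_isIrr ψ.2), map_natCast,
            hYx ψ hψ],
      ← Int.cast_sum, hsumX, ← Finset.mul_sum] at h'
    refine mul_left_cancel₀ (show (x : ℂ) ≠ 0 from Nat.cast_ne_zero.mpr hx0.ne') ?_
    push_cast at h'
    linear_combination h'
  have hxdvd : x ∣ e * (1 + n * p) := by
    refine CT.dvd_of_isIntegral_div hx0.ne' ?_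
    have hs : IsIntegral ℤ (∑ ψ ∈ Y, ((e * (1 + n * p) : ℕ) : ℂ) *
        (ψ : G → ℂ) T.x / (deg (ψ : G → ℂ) : ℂ)) := IsIntegral.sum _ fun ψ _ => hint ψ
    have h := hs.mul (CT.isIntegral_intCast (-ε))
    rw [Finset.sum_congr rfl (g := fun ψ : IrrCharacter G =>
        ((e * (1 + n * p) : ℕ) : ℂ) / (x : ℂ) * (ψ : G → ℂ) T.x) fun ψ hψ => by
          rw [hYx ψ hψ]; ring, ← Finset.mul_sum, hYsum] at h
    rcases hε with h' | h' <;> rw [h'] at h <;> push_cast at h ⊢ <;> simpa using h
  -- the trivial character is not exceptional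
  have htriv1 : deg ((trivIrr G : IrrCharacter G) : G → ℂ) = 1 := by simp [deg, trivIrr]
  have hlin : ∀ χ : IrrCharacter G, deg (χ : G → ℂ) = 1 → χ = trivIrr G := by
    intro χ h
    refine Subtype.ext (funext fun a => ?_)
    have h1 : (χ : G → ℂ) 1 = 1 := by rw [deg_eq (isCharacter_of_isIrr χ.2), h, Nat.cast_one]
    exact (linear_trivial_on_commutator (isCharacter_of_isIrr χ.2) h1 a
      (hperf ▸ Subgroup.mem_top a)).trans h1
  -- a character of degree `p - 1`
  obtain ⟨χ, hχX, hχs, hχd⟩ : ∃ χ ∈ X, εX χ = -1 ∧ deg (χ : G → ℂ) = p - 1 := by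
    by_contra hno
    push Not at hno
    set N : ℤ := ((1 + n * p : ℕ) : ℤ) with hN
    have hmod : ∀ χ ∈ X.erase (trivIrr G), N ∣ εX χ * (deg (χ : G → ℂ) : ℤ) := by
      intro χ hχ
      obtain ⟨hne, hχ'⟩ := Finset.mem_erase.mp hχ
      refine dvd_mul_of_dvd_right (Int.natCast_dvd_natCast.mpr ?_) _
      rcases (hX χ (Set.mem_toFinset.mp hχ')).1 with hs | hs
      · have hd : p ∣ deg (χ : G → ℂ) - 1 := by
          rw [← Int.natCast_dvd_natCast, Nat.cast_sub (deg_pos χ.2), Nat.cast_one]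
          exact Int.modEq_iff_dvd.mp (hs ▸ hXd χ hχ').symm
        rcases plus_cases hdvd he2 hnf hd (deg_pos χ.2) (hXdvd χ hχ') with h | h
        · exact absurd (hlin χ h) hne
        · exact dvd_of_eq h.symm
      · have hd : p ∣ deg (χ : G → ℂ) + 1 := by
          rw [← Int.natCast_dvd_natCast, Nat.cast_add, Nat.cast_one]
          have h' := Int.modEq_iff_dvd.mp (hs ▸ hXd χ hχ').symm
          rwa [sub_neg_eq_add] at h' 
        rcases minus_cases hdvd he2 hnf hd (hXdvd χ hχ') with h | h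
        · exact absurd h (hno χ hχ' hs)
        · exact h ▸ dvd_mul_left _ _
    have hNbig : (p : ℤ) + 1 ≤ N := by
      rw [hN]; push_cast
      have : (1 : ℤ) ≤ n := by exact_mod_cast hn1
      nlinarith
    by_cases htX : trivIrr G ∈ X
    · have hs1 : εX (trivIrr G) = 1 := by
        have h : ((1 : ℤ) : ℂ) = (εX (trivIrr G) : ℂ) := by rw [← hXv _ htX]; simp [trivIrr]
        exact_mod_cast h.symm
      have h1 : N ∣ ε * x - 1 := by
        rw [← hsumX, ← Finset.add_sum_erase _ _ htX, hs1, htriv1, Nat.cast_one, mul_one,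
          add_sub_cancel_left]
        exact Finset.dvd_sum hmod
      have hcop : Nat.Coprime x (1 + n * p) := by
        refine Nat.isCoprime_iff_coprime.mp ?_
        obtain ⟨k, hk⟩ := h1
        exact ⟨ε, -k, by rw [← hN]; linear_combination hk⟩
      have hxe : x ∣ e := hcop.dvd_of_dvd_mul_right hxdvd
      have hxle := Nat.le_of_dvd (by omega) hxe
      have hxmod : (x : ℤ) ≡ ε * (e : ℤ) [ZMOD p] := hY ψ₀ (Set.mem_toFinset.mp hψ₀)
      obtain ⟨k, hk⟩ := Int.modEq_iff_dvd.mp hxmod
      rcases hε with h | h <;> rw [h] at hk h1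
      · have hxe' : x = e := by
          have hk0 : k = 0 := by
            by_contra hk0
            rcases Int.lt_or_gt_of_ne hk0 with h' | h' <;> nlinarith
          rw [hk0, mul_zero, one_mul] at hk
          omega
        rw [hxe', one_mul] at h1
        have := Int.le_of_dvd (by omega) h1
        omega
      · have hk1 : k = -1 := by
          by_contra hk0
          rcases Int.lt_or_gt_of_ne hk0 with h' | h'
          · nlinarith
          · nlinarith
        rw [hk1] at hk
        have hxp : x + e = p := by omega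
        have hxd : x ∣ p := hxp ▸ dvd_add dvd_rfl hxe
        rcases (Nat.dvd_prime hp.out).mp hxd with h' | h'
        · rw [h'] at h1
          have h2 : N ∣ 2 := Int.dvd_neg.mp (by simpa using h1)
          have := Int.le_of_dvd (by norm_num) h2
          omega
        · omega
    · have htY : trivIrr G ∈ Y := by
        have h : trivIrr G ∈ principalBlock M G := trivIrr_mem_principalBlock
        rw [hXY] at h
        rcases h with h | h
        · exact absurd (Set.mem_toFinset.mpr h) htX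
        · exact Set.mem_toFinset.mpr h
      have h1 : N ∣ ε * x := by
        rw [← hsumX, ← Finset.erase_eq_of_notMem htX]
        exact Finset.dvd_sum hmod
      rw [← hYx _ htY, htriv1, Nat.cast_one, mul_one] at h1
      have h2 : N ∣ 1 := by rcases hε with h | h <;> rw [h] at h1 <;> simpa using h1
      have := Int.le_of_dvd one_pos h2
      omega
  -- that character kills the regular part of the centralizer
  by_contra hgP
  have hgC : g ∈ D1.cC P := Subgroup.mem_centralizer_iff.mpr fun y hy => (hg y hy).symm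
  obtain ⟨y, hy, hly⟩ := T.exists_decomp ⟨g, hgC⟩
  have hy1 : (y : G) ≠ 1 := by
    intro h
    rw [show y = 1 from Subtype.ext h, mul_one] at hy
    exact hgP (T.mem_P_iff.mpr ⟨_, hy⟩)
  have hyr : ¬ p ∣ orderOf (y : G) := (T.ell_eq_zero_iff y).mp hly
  set H := Subgroup.zpowers (y : G) with hH
  have hHreg : ∀ h : H, ¬ p ∣ orderOf (h : G) := fun h hd => hyr
    (hd.trans (Subgroup.orderOf_coe h ▸ (orderOf_dvd_natCard h).trans (by rw [hH, Nat.card_zpowers])))
  have hHC : ∀ h : H, (h : G) ∈ D1.cC P := fun h => (Subgroup.zpowers_le.mpr y.2) h.2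
  have hc := isCharacter_of_isIrr χ.2
  let φ : ↥(P : Subgroup G) × H →* G := MonoidHom.noncommCoprod (P : Subgroup G).subtype H.subtype
    fun a b => Subgroup.mem_centralizer_iff.mp (hHC b) _ a.2
  have hm1 := mult_spec (isCharacter_restrict H hc) (isCharacter_one (G := H))
  have hk := mult_spec (isCharacter_comp φ hc) (isCharacter_one (G := ↥(P : Subgroup G) × H))
  set m₁ := mult (fun h : H => (χ : G → ℂ) h) (fun _ => 1)
  set k := mult (fun z : ↥(P : Subgroup G) × H => (χ : G → ℂ) (φ z)) (fun _ => 1)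
  have hHsum : ∑ h : H, (χ : G → ℂ) h = (Nat.card H : ℂ) * m₁ := by
    rw [← hm1, classInner, ← mul_assoc, mul_inv_cancel₀ (Nat.cast_ne_zero.mpr Nat.card_pos.ne'),
      one_mul]
    simp
  have hksum : (p : ℂ) * k * Nat.card H = (Nat.card H : ℂ) * m₁ +
      ((p : ℂ) - 1) * (-(Nat.card H : ℂ)) := by
    have h : ∑ z : ↥(P : Subgroup G) × H, (χ : G → ℂ) (φ z) =
        (Nat.card (↥(P : Subgroup G) × H) : ℂ) * k := by
      rw [← hk, classInner, ← mul_assoc, mul_inv_cancel₀ (Nat.cast_ne_zero.mpr Nat.card_pos.ne'),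
        one_mul]
      simp
    have h1 : ∑ h : H, (χ : G → ℂ) (φ (1, h)) = (Nat.card H : ℂ) * m₁ := by
      rw [← hHsum]
      refine Finset.sum_congr rfl fun h _ => ?_
      show (χ : G → ℂ) (((1 : (P : Subgroup G)) : G) * h) = _
      rw [OneMemClass.coe_one, one_mul]
    have h2 : ∀ a ∈ (Finset.univ : Finset (P : Subgroup G)).erase 1,
        ∑ h : H, (χ : G → ℂ) (φ (a, h)) = -(Nat.card H : ℂ) := by
      intro a ha
      have ha1 : (a : G) ≠ 1 := fun h => (Finset.mem_erase.mp ha).1 (Subtype.ext h)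
      rw [Finset.sum_congr rfl (g := fun _ : H => (-1 : ℂ)) fun h _ => ?_, Finset.sum_const,
        Finset.card_univ, ← Nat.card_eq_fintype_card]
      · simp
      · have h' := (hX χ (Set.mem_toFinset.mp hχX)).2.2 a a.2 ha1 h (hHC h) (hHreg h)
        rw [show φ (a, h) = (a : G) * h from rfl, h', hχs]
        norm_num
    rw [Nat.card_prod, show Nat.card ↥(P : Subgroup G) = p from hP, Nat.cast_mul,
      Fintype.sum_prod_type, ← Finset.add_sum_erase _ _ (Finset.mem_univ (1 : (P : Subgroup G))),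
      h1, Finset.sum_congr rfl h2,
      Finset.sum_const, Finset.card_erase_of_mem (Finset.mem_univ _), Finset.card_univ,
      ← Nat.card_eq_fintype_card, show Nat.card ↥(P : Subgroup G) = p from hP, nsmul_eq_mul,
      Nat.cast_sub (by omega), Nat.cast_one] at h
    linear_combination -h
  have hkz : (p : ℤ) * k = m₁ - ((p : ℤ) - 1) := by
    have h : (p : ℂ) * k = m₁ - ((p : ℂ) - 1) :=
      mul_right_cancel₀ (Nat.cast_ne_zero.mpr (Nat.card_pos (α := H)).ne')
        (by linear_combination hksum)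
    exact_mod_cast h
  have hm : (p : ℤ) - 1 ≤ m₁ := by
    have : (0 : ℤ) ≤ (p : ℤ) * k := by positivity
    omega
  have hle : ∀ h : H, ((χ : G → ℂ) h).re ≤ ((p : ℝ) - 1) := by
    intro h
    obtain ⟨m, ρ, hρ⟩ := hc
    have h1 := CT.norm_char_le ρ (h : G)
    have h2 : ((p - 1 : ℕ) : ℂ) = (Module.finrank ℂ (Fin m → ℂ) : ℂ) := by
      rw [← hχd, ← deg_eq (isCharacter_of_isIrr χ.2), ← hρ, Representation.char_one]
    have h2' : p - 1 = Module.finrank ℂ (Fin m → ℂ) := by exact_mod_cast h2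
    rw [← hρ]
    refine (Complex.re_le_norm _).trans (h1.trans ?_)
    rw [← h2', Nat.cast_sub (by omega), Nat.cast_one]
  have hsum0 : ∑ h : H, (((p : ℝ) - 1) - ((χ : G → ℂ) h).re) ≤ 0 := by
    rw [Finset.sum_sub_distrib, ← Complex.re_sum, hHsum, Finset.sum_const, Finset.card_univ,
      ← Nat.card_eq_fintype_card, nsmul_eq_mul]
    simp only [Complex.mul_re, Complex.natCast_re, Complex.natCast_im, mul_zero, sub_zero]
    have hm' : (p : ℝ) - 1 ≤ m₁ := by exact_mod_cast hm
    nlinarith [mul_le_mul_of_nonneg_left hm' (Nat.cast_nonneg (α := ℝ) (Nat.card H))]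
  have hre : ((χ : G → ℂ) y).re = (p : ℝ) - 1 := by
    have h0 := (Finset.sum_eq_zero_iff_of_nonneg (fun h _ => sub_nonneg.mpr (hle h))).mp
      (le_antisymm hsum0 (Finset.sum_nonneg fun h _ => sub_nonneg.mpr (hle h)))
      ⟨(y : G), Subgroup.mem_zpowers _⟩ (Finset.mem_univ _)
    linarith
  have hyker : (χ : G → ℂ) y = (χ : G → ℂ) 1 := by
    rw [deg_eq hc, hχd, Nat.cast_sub (by omega), Nat.cast_one]
    obtain ⟨m, ρ, hρ⟩ := hc
    have h1 := CT.norm_char_le ρ (y : G)
    have h2 : ((p - 1 : ℕ) : ℂ) = (Module.finrank ℂ (Fin m → ℂ) : ℂ) := by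
      rw [← hχd, ← deg_eq (isCharacter_of_isIrr χ.2), ← hρ, Representation.char_one]
    have h2' : p - 1 = Module.finrank ℂ (Fin m → ℂ) := by exact_mod_cast h2
    rw [← h2', hρ, Nat.cast_sub (by omega), Nat.cast_one] at h1
    have him : ((χ : G → ℂ) y).im = 0 := by
      have h3 := Complex.sq_norm ((χ : G → ℂ) y)
      rw [Complex.normSq_apply, hre] at h3
      have h4 := pow_le_pow_left₀ (norm_nonneg _) h1 2
      nlinarith
    exact Complex.ext (by simp [hre]) (by simp [him])
  have hK : (kerChar (χ : G → ℂ)).Normal := ⟨fun a ha b => by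
    rw [mem_kerChar_iff hc] at ha ⊢
    rw [isClassFunction_of_isIrr χ.2, ha]⟩
  have hymem : (y : G) ∈ kerChar (χ : G → ℂ) := (mem_kerChar_iff hc).mpr hyker
  by_cases hd : p ∣ Nat.card (kerChar (χ : G → ℂ))
  · have hsq : ¬ p ^ 2 ∣ Nat.card G := by
      intro h
      rw [← Subgroup.card_mul_index (P : Subgroup G), show Nat.card ↥(P : Subgroup G) = p from hP,
        pow_two] at h
      exact P.not_dvd_index (Nat.dvd_of_mul_dvd_mul_left hp.out.pos h)
    have h := (mem_kerChar_iff hc).mp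
      (mem_of_pow_eq_one hsq _ hd (x := T.x) (orderOf_dvd_iff_pow_eq_one.mp (dvd_of_eq T.hx)))
    rw [hXv χ hχX, hχs, deg_eq hc, hχd] at h
    have h' : (((p - 1 : ℕ) : ℤ) : ℂ) = ((-1 : ℤ) : ℂ) := by push_cast; rw [← h]; simp
    have := Int.cast_injective h'
    omega
  · exact hy1 (Subgroup.mem_bot.mp (hcore _ hK hd ▸ hymem))

theorem setting_of_nform (P : Sylow p G) {n : ℕ} (hP : Nat.card P = p)
    (hperf : commutator G = ⊤) (hcore : ∀ K : Subgroup G, K.Normal → ¬ p ∣ Nat.card K → K = ⊥)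
    (hn : Nat.card (Sylow p G) = 1 + n * p) (hnf : NForm p n) : Setting P n :=
  ⟨hP, fun _ hg => self_centralizing P hP hperf hcore hn hnf hg, hperf, hn, hnf⟩

end Cfsg.Agent.Blocks.FewSylow
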