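import Cfsg.Agent.Lib.Blocks.FewSylow.Geometry
import Mathlib.GroupTheory.SpecificGroups.Cyclic

/-!
# Case analysis: `n = 1`, or elementary abelian involution centralizers
-/

set_option autoImplicit false
set_option linter.unusedSectionVars false

namespace Cfsg.Agent.Blocks.FewSylow

open scoped Cfsg.Agent.Blocks.D1 Classical Pointwise
open MulAction

universe u

variable {p : ℕ} [hp : Fact p.Prime] {G : Type u} [Group G] [Fintype G]
variable {P Q : Sylow p G} {n : ℕ} {D : CaseA P n}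

theorem eq_of_card_cyclic {C : Type u} [Group C] [Finite C] [IsCyclic C]
    {A B : Subgroup C} (h : Nat.card A = Nat.card B) : A = B := by
  letI : CommGroup C := IsCyclic.commGroup
  have key : ∀ D : Subgroup C, D = (powMonoidHom (Nat.card D) : C →* C).ker := fun D => by
    refine Subgroup.eq_of_le_of_card_ge (fun x hx => ?_) ?_
    · rw [MonoidHom.mem_ker, powMonoidHom_apply, ← orderOf_dvd_iff_pow_eq_one]
      exact Subgroup.orderOf_dvd_natCard D hx
    · rw [IsCyclic.card_powMonoidHom_ker, Nat.gcd_eq_right (Subgroup.card_subgroup_dvd_card D)]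
  exact (key A).trans (by rw [h]; exact (key B).symm)

namespace Frame

variable (F : Frame D Q) (S : Setting P n)
include F S

theorem dvd_p_sub : n + 1 ∣ p * (p - 1) := by
  have h1 : (n + 1) * einv P ∣ (p * (1 + n * p)) * einv P := by
    rw [show p * (1 + n * p) * einv P = p * (einv P * (1 + n * p)) by ring, ← S.card_G,
      ← F.card_normalizer S]
    exact Subgroup.card_subgroup_dvd_card _
  have h2 : n + 1 ∣ p * (1 + n * p) :=
    Nat.dvd_of_mul_dvd_mul_right (by have := S.two_le_e; omega) h1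
  have h3 : p * (1 + n * p) + p * (p - 1) = (n + 1) * (p * p) := by
    obtain ⟨q, hq⟩ : ∃ q, p = q + 1 := ⟨p - 1, by have := hp.out.pos; omega⟩
    subst hq
    rw [Nat.add_sub_cancel]
    ring
  exact (Nat.dvd_add_right h2).mp (h3 ▸ dvd_mul_right _ _)

/-- The arithmetic of the configuration. -/
theorem arith : D.c = n + 1 ∧ einv P = 2 + D.XN.card * (n + 1) ∧ (n + 1) * einv P + 1 = p := by
  have hfs := D.fix_sum
  have he := S.two_le_e
  have hn := S.n_pos
  rcases D.U.eq_empty_or_nonempty with hU | hU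
  · exfalso
    have hep := D.e_eq hU
    rw [hU, Finset.sum_empty, zero_add] at hfs
    have h1 := Nat.eq_of_mul_eq_mul_left D.c_pos hfs
    have ha : D.XN.card ≠ 0 := fun h => by rw [h, zero_mul] at h1; omega
    have h2 : n + 1 < p := by
      have := Nat.le_mul_of_pos_left (n + 1) (Nat.pos_of_ne_zero ha)
      omega
    have hcop : (n + 1).Coprime p :=
      ((hp.out.coprime_iff_not_dvd.mpr fun h => by have := Nat.le_of_dvd (by omega) h; omega)).symm
    have h3 := hcop.dvd_of_dvd_mul_left (F.dvd_p_sub S)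
    rw [show p - 1 = D.XN.card * (n + 1) + 1 by omega] at h3
    have := Nat.le_of_dvd one_pos ((Nat.dvd_add_right (dvd_mul_left _ _)).mp h3)
    omega
  obtain ⟨hc, hf, hce⟩ := D.card_U hU
  obtain ⟨ψ, hψ⟩ := hU
  set r := fix P (ψ : G → ℂ)
  have hr : n + 1 = D.c * r := by
    rw [← hf, hc, ← smul_eq_mul, ← Finset.sum_const]
    exact Finset.sum_congr rfl fun x hx => (D.mm_U_eq S hx hψ (CT.trivIrr _)).2
  rw [hf] at hfs
  have h1 : r + (1 + D.XN.card * (n + 1)) = einv P := by
    apply Nat.eq_of_mul_eq_mul_left D.c_pos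
    rw [Nat.mul_add, ← hr]; exact hfs
  have hce' : p - 1 = D.c * einv P := by omega
  have hlt : einv P < p := by
    have := Nat.le_mul_of_pos_left (einv P) D.c_pos
    omega
  have hcp : D.c < p := by
    have := Nat.le_mul_of_pos_right D.c (show 0 < einv P by omega)
    omega
  have hr0 : 0 < r := by
    rcases Nat.eq_zero_or_pos r with h | h
    · rw [h, mul_zero] at hr; omega
    · exact h
  have hd := F.dvd_p_sub S
  rw [hr, hce', show p * (D.c * einv P) = D.c * (p * einv P) by ring] at hd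
  have hd1 : r ∣ p * einv P := Nat.dvd_of_mul_dvd_mul_left D.c_pos hd
  have hrp : r.Coprime p :=
    (hp.out.coprime_iff_not_dvd.mpr fun h => by have := Nat.le_of_dvd hr0 h; omega).symm
  have hre : r ∣ einv P := hrp.dvd_of_dvd_mul_left hd1
  have hr1 : r = 1 := by
    rw [← h1, hr] at hre
    refine Nat.dvd_one.mp ((Nat.dvd_add_left ?_).mp ((Nat.dvd_add_right dvd_rfl).mp hre))
    exact ⟨D.XN.card * D.c, by ring⟩
  rw [hr1, mul_one] at hr
  refine ⟨hr.symm, by omega, ?_⟩
  rw [hr]; exact hce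

theorem card_G : Nat.card G = (p * (p - einv P)) * ((n + 1) * einv P) := by
  obtain ⟨-, -, hce⟩ := F.arith S
  have hle : einv P ≤ p := by
    have := Nat.le_mul_of_pos_left (einv P) (show 0 < n + 1 by omega)
    omega
  obtain ⟨d, hd⟩ := Nat.exists_eq_add_of_le hle
  rw [S.card_G, show p - einv P = d by omega]
  have hnd : 1 + n * p = (n + 1) * d := by
    have : (n + 1) * (einv P + d) = (n + 1) * p := by rw [← hd]
    nlinarith
  rw [hnd]; ring

theorem conj_fixed {g : G} (hg : ∃ x : G, x⁻¹ * g * x ∈ D1.cN P ∧ x⁻¹ * g * x ∉ (P : Subgroup G)) :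
    Nat.card (fixedBy (Sylow p G) g) = n + 1 := by
  obtain ⟨x, h1, h2⟩ := hg
  have h := smul_fixedBy (α := Sylow p G) (x⁻¹ * g * x) x
  rw [show x * (x⁻¹ * g * x) * x⁻¹ = g by group] at h
  rw [← h, Nat.card_coe_set_eq, Set.ncard_smul_set, ← Nat.card_coe_set_eq, D.card_fixedBy S h1 h2]

theorem two_elt {g : G} (hg : ∃ k : ℕ, g ^ 2 ^ k = 1) : orderOf g ∣ einv P := by
  haveI : Fact (Nat.Prime 2) := ⟨Nat.prime_two⟩
  exact D.orderOf_dvd S (by obtain ⟨m, hm⟩ := S.odd; exact ⟨m, by omega⟩) hg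

theorem pow_two_of (h4 : 2 ≤ n) : ∃ k, n + 1 = 2 ^ k := by
  obtain ⟨-, he, hce⟩ := F.arith S
  refine ⟨(n + 1).primeFactorsList.length, Nat.eq_prime_pow_of_unique_prime_dvd (by omega) ?_⟩
  intro l hl hdvd
  by_contra hl2
  haveI : Fact l.Prime := ⟨hl⟩
  set NE := Subgroup.normalizer (Kq P Q : Set G)
  obtain ⟨T⟩ : Nonempty (Sylow l NE) := inferInstance
  have hlp : l ∣ p - 1 := ⟨(n + 1) / l * einv P, by
    rw [← mul_assoc, Nat.mul_div_cancel' hdvd]; omega⟩
  have hT := T.card_eq_multiplicity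
  rw [F.card_normalizer S] at hT
  have hsub : ∀ g : T, orderOf ((g : NE) : G) ∣ einv P := by
    intro g
    refine D.orderOf_dvd S hlp ?_
    obtain ⟨k, hk⟩ := T.isPGroup' g
    exact ⟨k, by simpa using congrArg (fun x : T => ((x : NE) : G)) hk⟩
  have hne : ((n + 1) * einv P).factorization l ≠ 0 :=
    (Nat.pos_iff_ne_zero.mp (hl.factorization_pos_of_dvd
      (Nat.mul_ne_zero (by omega) (by have := S.two_le_e; omega)) (dvd_mul_of_dvd_left hdvd _)))
  obtain ⟨g, hg⟩ := exists_prime_orderOf_dvd_card' (G := T) l (hT ▸ dvd_pow_self l hne)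
  have h1 : l ∣ einv P := by
    have := hsub g
    rwa [Subgroup.orderOf_coe, Subgroup.orderOf_coe, hg] at this
  rw [he] at h1
  exact hl2 ((Nat.prime_dvd_prime_iff_eq hl Nat.prime_two).mp
    ((Nat.dvd_add_left (dvd_mul_of_dvd_right hdvd _)).mp h1))

/-- With more than two points in a fixed set the involution centralizers are elementary abelian. -/
theorem elementary (h4 : 2 ≤ n) :
    ∃ T : Sylow 2 G, ¬ IsCyclic (T : Subgroup G) ∧ Nat.card (T : Subgroup G) + 1 = p ∧
      ∀ t : G, orderOf t = 2 → IsMulCommutative (Subgroup.centralizer ({t} : Set G)) ∧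
        ∀ c ∈ Subgroup.centralizer ({t} : Set G), c ^ 2 = 1 := by
  haveI : Fact (Nat.Prime 2) := ⟨Nat.prime_two⟩
  obtain ⟨k, hk⟩ := F.pow_two_of S h4
  obtain ⟨-, he, hce⟩ := F.arith S
  have hk2 : 2 ≤ k := by
    by_contra hlt
    have : 2 ^ k ≤ 2 ^ 1 := Nat.pow_le_pow_right two_pos (by omega)
    omega
  have h4k : 4 ∣ n + 1 := by
    rw [hk, show (4 : ℕ) = 2 ^ 2 by norm_num]; exact pow_dvd_pow 2 hk2
  have hexp : ∀ g : G, (∃ j : ℕ, g ^ 2 ^ j = 1) → g ^ 2 = 1 := by
    intro g hg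
    obtain ⟨j, hj⟩ := (Nat.dvd_prime_pow Nat.prime_two).mp
      (orderOf_dvd_of_pow_eq_one hg.choose_spec)
    have h1 : orderOf g ∣ einv P := F.two_elt S hg
    rw [hj.2] at h1
    rw [← orderOf_dvd_iff_pow_eq_one, hj.2]
    rcases Nat.lt_or_ge j 2 with h | h
    · interval_cases j <;> norm_num
    · exfalso
      have h2 : 4 ∣ 2 + D.XN.card * (n + 1) := he ▸ (pow_dvd_pow 2 h).trans h1
      rw [Nat.dvd_add_left (dvd_mul_of_dvd_right h4k _)] at h2
      exact absurd (Nat.le_of_dvd two_pos h2) (by norm_num)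
  -- the involution of `E`
  set E := Kq P Q
  set NE := Subgroup.normalizer (E : Set G) with hNE
  have hcE : Nat.card E = einv P := D.card_Kq S F.ne
  have heven : 2 ∣ einv P := by
    rw [he]
    exact dvd_add dvd_rfl (dvd_mul_of_dvd_right ((show 2 ∣ 4 by norm_num).trans h4k) _)
  obtain ⟨⟨τ, hτE⟩, hτo⟩ := exists_prime_orderOf_dvd_card' (G := E) 2 (hcE ▸ heven)
  have hτ : orderOf τ = 2 := by rw [← hτo, ← Subgroup.orderOf_coe]
  have hτ1 : τ ≠ 1 := fun h => by rw [h, orderOf_one] at hτ; omega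
  haveI := S.isCyclic_Kq F.ne
  have huniq : ∀ x ∈ E, orderOf x = 2 → x = τ := by
    intro x hx hxo
    have h1 : Subgroup.zpowers (⟨x, hx⟩ : E) = Subgroup.zpowers ⟨τ, hτE⟩ :=
      eq_of_card_cyclic (by
        rw [Nat.card_zpowers, Nat.card_zpowers, ← Subgroup.orderOf_coe, hxo, hτo])
    obtain ⟨i, hi⟩ := Subgroup.mem_zpowers_iff.mp (h1 ▸ Subgroup.mem_zpowers (⟨x, hx⟩ : E))
    have hi' : τ ^ i = x := by simpa using congrArg Subtype.val hi
    rw [← hi', ← zpow_mod_orderOf τ i, hτ]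
    rcases Int.emod_two_eq_zero_or_one i with h | h
    · exfalso
      rw [← zpow_mod_orderOf τ i, hτ] at hi'
      simp [h] at hi'
      rw [← hi', orderOf_one] at hxo
      omega
    · simp [h]
  have hcent : ∀ g : G, g * τ = τ * g → g ∈ NE := by
    intro g hg
    rw [hNE, F.normalizer_iff S, ← F.fixed τ hτE hτ1, smul_fixedBy]
    rw [mul_inv_eq_iff_eq_mul.mpr hg]
  have hτNE : τ ∈ NE := Subgroup.le_normalizer hτE
  have hτc : ∀ g ∈ NE, g * τ * g⁻¹ = τ := fun g hg =>
    huniq _ ((Subgroup.mem_normalizer_iff.mp hg τ).mp hτE)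
      ((orderOf_injective (MulAut.conj g).toMonoidHom (MulAut.conj g).injective τ).trans hτ)
  have hinv : ∀ t : G, orderOf t = 2 → ∃ g : G, g * τ * g⁻¹ = t := by
    intro t ht
    have h2 : ∃ j : ℕ, t ^ 2 ^ j = 1 := ⟨1, by rw [pow_one, ← ht]; exact pow_orderOf_eq_one t⟩
    obtain ⟨R, hR⟩ := D.exists_fixed S (l := 2) (by obtain ⟨m, hm⟩ := S.odd; exact ⟨m, by omega⟩) h2
    obtain ⟨x, rfl⟩ := exists_smul_eq G P R
    set h := x⁻¹ * t * x with hh
    have hN : h ∈ D1.cN P := smul_P_iff.mp (by rw [hh, mul_smul, mul_smul, hR, inv_smul_smul])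
    have ho : orderOf h = 2 := by
      rw [← ht]
      have := orderOf_injective (MulAut.conj x⁻¹).toMonoidHom (MulAut.conj x⁻¹).injective t
      simpa [hh] using this
    have hP : h ∉ (P : Subgroup G) := fun hP => by
      have := Subgroup.orderOf_dvd_natCard (P : Subgroup G) hP
      rw [ho, show Nat.card (P : Subgroup G) = p from S.card] at this
      have := (Nat.prime_dvd_prime_iff_eq Nat.prime_two hp.out).mp this
      have := S.three_le
      omega
    obtain ⟨R', hR', hmem⟩ := D.exists_other S hN hP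
    obtain ⟨v, -, hv⟩ := S.conj_Kq F.ne hR' hcE (D.card_Kq S hR')
    rw [hv] at hmem
    obtain ⟨y, hy, hye⟩ := hmem
    have hyo : orderOf y = 2 := by
      rw [← orderOf_injective (MulAut.conj v).toMonoidHom (MulAut.conj v).injective y, hye, ho]
    rw [huniq y hy hyo] at hye
    refine ⟨x * v, ?_⟩
    have hye' : v * τ * v⁻¹ = x⁻¹ * t * x := hye
    calc x * v * τ * (x * v)⁻¹ = x * (v * τ * v⁻¹) * x⁻¹ := by group
      _ = t := by rw [hye']; group
  -- `e = 2`
  have hNEc : Nat.card NE = (n + 1) * einv P := F.card_normalizer S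
  have he2 : einv P = 2 := by
    by_contra hne
    obtain ⟨o, ho⟩ := heven
    have ho1 : o ≠ 1 := fun h => hne (by omega)
    obtain ⟨l, hl, hlo⟩ := Nat.exists_prime_and_dvd ho1
    haveI : Fact l.Prime := ⟨hl⟩
    have hl2 : l ≠ 2 := by
      rintro rfl
      have h2 : 4 ∣ 2 + D.XN.card * (n + 1) := by
        rw [← he, ho]; exact Nat.mul_dvd_mul_left 2 hlo
      rw [Nat.dvd_add_left (dvd_mul_of_dvd_right h4k _)] at h2
      exact absurd (Nat.le_of_dvd two_pos h2) (by norm_num)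
    obtain ⟨⟨y, hyE⟩, hyo⟩ := exists_prime_orderOf_dvd_card' (G := E) l
      (hcE ▸ ho ▸ Dvd.dvd.mul_left hlo 2)
    have hy : orderOf y = l := by rw [← hyo, ← Subgroup.orderOf_coe]
    have hy1 : y ≠ 1 := fun h => by rw [h, orderOf_one] at hy; exact hl.one_lt.ne hy
    obtain ⟨T⟩ : Nonempty (Sylow 2 NE) := inferInstance
    have hTc : 2 ^ (k + 1) ∣ Nat.card T := by
      refine T.pow_dvd_card_of_pow_dvd_card ?_
      rw [hNEc, hk, pow_succ]
      exact Nat.mul_dvd_mul_left _ ⟨o, ho⟩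
    have hT2 : ∀ s : T, ((s : NE) : G) * ((s : NE) : G) = 1 := by
      intro s
      rw [← pow_two]
      refine hexp _ ?_
      obtain ⟨j, hj⟩ := T.isPGroup' s
      exact ⟨j, by simpa using congrArg (fun x : T => ((x : NE) : G)) hj⟩
    have hpm : ∀ s : T, ((s : NE) : G) * y * ((s : NE) : G)⁻¹ = y ∨
        ((s : NE) : G) * y * ((s : NE) : G)⁻¹ = y⁻¹ := by
      intro s
      set σ := ((s : NE) : G)
      have hm : σ * y * σ⁻¹ ∈ E := (Subgroup.mem_normalizer_iff.mp (s : NE).2 y).mp hyE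
      have hz : Subgroup.zpowers (⟨_, hm⟩ : E) = Subgroup.zpowers ⟨y, hyE⟩ :=
        eq_of_card_cyclic (by
          rw [Nat.card_zpowers, Nat.card_zpowers, ← Subgroup.orderOf_coe, ← Subgroup.orderOf_coe]
          exact orderOf_injective (MulAut.conj σ).toMonoidHom (MulAut.conj σ).injective y)
      obtain ⟨i, hi⟩ := Subgroup.mem_zpowers_iff.mp (hz ▸ Subgroup.mem_zpowers (⟨_, hm⟩ : E))
      have hi' : y ^ i = σ * y * σ⁻¹ := by simpa using congrArg Subtype.val hi
      have h2 : y ^ (i * i) = y := by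
        rw [zpow_mul, hi', conj_zpow, hi']
        calc σ * (σ * y * σ⁻¹) * σ⁻¹ = (σ * σ) * y * (σ * σ)⁻¹ := by group
          _ = y := by rw [hT2 s]; group
      have h3 : (l : ℤ) ∣ (i - 1) * (i + 1) := by
        rw [← hy, orderOf_dvd_iff_zpow_eq_one, show (i - 1) * (i + 1) = i * i - 1 by ring,
          zpow_sub_one, h2, mul_inv_cancel]
      rw [← hi']
      rcases (Nat.prime_iff_prime_int.mp hl).dvd_mul.mp h3 with h | h
      · left
        rw [← hy, orderOf_dvd_iff_zpow_eq_one, zpow_sub_one, mul_inv_eq_one] at h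
        exact h
      · right
        rw [← hy, orderOf_dvd_iff_zpow_eq_one, zpow_add_one, mul_eq_one_iff_eq_inv] at h
        exact h
    set S₀ : Finset T := Finset.univ.filter fun s => ((s : NE) : G) * y * ((s : NE) : G)⁻¹ = y
    have hhalf : Fintype.card T ≤ 2 * S₀.card := by
      by_cases hall : ∀ s : T, s ∈ S₀
      · rw [Finset.eq_univ_iff_forall.mpr hall, Finset.card_univ]; omega
      push Not at hall
      obtain ⟨s₁, hs₁⟩ := hall
      have hs₁' := (hpm s₁).resolve_left (fun h => hs₁ (Finset.mem_filter.mpr ⟨Finset.mem_univ _, h⟩))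
      have hsub : Finset.univ ⊆ S₀ ∪ S₀.image (s₁ * ·) := by
        intro s _
        rw [Finset.mem_union, or_iff_not_imp_left]
        intro hs
        have hs' := (hpm s).resolve_left (fun h => hs (Finset.mem_filter.mpr ⟨Finset.mem_univ _, h⟩))
        refine Finset.mem_image.mpr ⟨s₁⁻¹ * s, Finset.mem_filter.mpr ⟨Finset.mem_univ _, ?_⟩,
          mul_inv_cancel_left _ _⟩
        set a := ((s₁ : NE) : G)
        set b := ((s : NE) : G)
        show a⁻¹ * b * y * (a⁻¹ * b)⁻¹ = y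
        calc a⁻¹ * b * y * (a⁻¹ * b)⁻¹ = a⁻¹ * (b * y * b⁻¹) * a := by group
          _ = a⁻¹ * (a * y * a⁻¹) * a := by rw [hs', hs₁']
          _ = y := by group
      have := (Finset.card_le_card hsub).trans
        ((Finset.card_union_le _ _).trans (Nat.add_le_add_left Finset.card_image_le _))
      rw [Finset.card_univ] at this
      omega
    have h8 : 2 * (2 * 2) ≤ Fintype.card T := by
      rw [← Nat.card_eq_fintype_card]
      refine le_trans ?_ (Nat.le_of_dvd Nat.card_pos hTc)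
      calc 2 * (2 * 2) = 2 ^ 3 := by norm_num
        _ ≤ _ := Nat.pow_le_pow_right two_pos (by omega)
    obtain ⟨s, hs, hsne⟩ : ∃ s ∈ S₀, ((s : NE) : G) ∉ ({1, τ} : Finset G) := by
      by_contra hcon
      push Not at hcon
      have h2 : S₀.card ≤ ({1, τ} : Finset G).card :=
        Finset.card_le_card_of_injOn (fun s : T => ((s : NE) : G)) hcon
          (fun a _ b _ h => Subtype.ext (Subtype.ext h))
      have := h2.trans Finset.card_le_two
      omega
    simp only [Finset.mem_insert, Finset.mem_singleton, not_or] at hsne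
    set σ := ((s : NE) : G) with hσ
    have hσo : orderOf σ = 2 := orderOf_eq_prime (by rw [pow_two]; exact hT2 s) hsne.1
    have hσE : σ ∉ E := fun h => hsne.2 (huniq σ h hσo)
    have hσN : σ ∈ NE := (s : NE).2
    have hσy : σ * y = y * σ := mul_inv_eq_iff_eq_mul.mp (Finset.mem_filter.mp hs).2
    obtain ⟨g, hg⟩ := hinv σ hσo
    have hFc : Nat.card (fixedBy (Sylow p G) σ) = n + 1 := by
      refine F.conj_fixed S ⟨g, ?_⟩
      rw [← hg, show g⁻¹ * (g * τ * g⁻¹) * g = τ by group]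
      exact ⟨hτE.1, fun h => hτ1 (S.eq_one_of_mem_Kq F.ne hτE h)⟩
    have hyz : ∀ z ∈ Subgroup.zpowers y, σ * z * σ⁻¹ = z := by
      intro z hz
      obtain ⟨i, rfl⟩ := Subgroup.mem_zpowers_iff.mp hz
      rw [mul_inv_eq_iff_eq_mul]
      exact (Commute.zpow_right hσy i).eq
    letI : MulAction (Subgroup.zpowers y) (fixedBy (Sylow p G) σ) :=
      { smul := fun z R => ⟨(z : G) • (R : Sylow p G), by
          have h := mem_fixedBy.mp R.2
          rw [mem_fixedBy, smul_smul, mul_inv_eq_iff_eq_mul.mp (hyz z z.2), mul_smul, h]⟩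
        one_smul := fun R => Subtype.ext (one_smul G (R : Sylow p G))
        mul_smul := fun a b R => Subtype.ext (mul_smul (a : G) (b : G) (R : Sylow p G)) }
    have hpg : IsPGroup l (Subgroup.zpowers y) :=
      IsPGroup.of_card (n := 1) (by rw [Nat.card_zpowers, hy, pow_one])
    have hempty : IsEmpty (fixedPoints (Subgroup.zpowers y) (fixedBy (Sylow p G) σ)) := by
      refine ⟨fun R => hσE ?_⟩
      have hR : y • ((R.1 : fixedBy (Sylow p G) σ) : Sylow p G) = (R.1 : Sylow p G) :=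
        congrArg Subtype.val (R.2 ⟨y, Subgroup.mem_zpowers y⟩)
      have hRL : ((R.1 : fixedBy (Sylow p G) σ) : Sylow p G) ∈ F.L :=
        F.fixed y hyE hy1 ▸ mem_fixedBy.mpr hR
      exact F.stab_eq S hRL hσN (mem_fixedBy.mp R.1.2)
    have hmod := hpg.card_modEq_card_fixedPoints (fixedBy (Sylow p G) σ)
    rw [Nat.card_of_isEmpty (α := fixedPoints (Subgroup.zpowers y) (fixedBy (Sylow p G) σ)),
      hFc, hk] at hmod
    exact hl2 ((Nat.prime_dvd_prime_iff_eq hl Nat.prime_two).mp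
      (hl.dvd_of_dvd_pow (Nat.modEq_zero_iff_dvd.mp hmod)))
  rw [he2] at hce hNEc
  have hcard : Nat.card G = (p * (p - 2)) * 2 ^ (k + 1) := by
    rw [F.card_G S, he2, hk, pow_succ]
  have hodd : Odd (p * (p - 2)) :=
    S.odd.mul (by obtain ⟨m, hm⟩ := S.odd; have := S.three_le; exact ⟨m - 1, by omega⟩)
  have hfac : (Nat.card G).factorization 2 = k + 1 := by
    rw [hcard, Nat.factorization_mul hodd.pos.ne' (by positivity), Finsupp.add_apply,
      Nat.factorization_eq_zero_of_not_dvd (Odd.not_two_dvd_nat hodd),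
      Nat.Prime.factorization_pow Nat.prime_two, Finsupp.single_eq_same, zero_add]
  have hNEcard : Nat.card NE = 2 ^ (k + 1) := by rw [hNEc, hk, pow_succ]
  let T : Sylow 2 G := Sylow.ofCard NE (by rw [hfac, hNEcard])
  have hNEexp : ∀ g ∈ NE, g ^ 2 = 1 := fun g hg => hexp g ⟨k + 1, by
    rw [← hNEcard]
    exact congrArg Subtype.val (pow_card_eq_one' (x := (⟨g, hg⟩ : NE)))⟩
  refine ⟨T, ?_, ?_, fun t ht => ?_⟩
  · intro hcyc
    haveI : IsCyclic NE := hcyc
    obtain ⟨g, hg⟩ := IsCyclic.exists_generator (α := NE)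
    have h1 := orderOf_eq_card_of_forall_mem_zpowers hg
    have h2 : orderOf g ∣ 2 :=
      orderOf_dvd_of_pow_eq_one (Subtype.ext (by simpa using hNEexp _ g.2))
    rw [h1, hNEcard] at h2
    have h3 := Nat.le_of_dvd two_pos h2
    have : 2 ^ 2 ≤ 2 ^ (k + 1) := Nat.pow_le_pow_right two_pos (by omega)
    omega
  · show Nat.card NE + 1 = p
    rw [hNEc]; exact hce
  obtain ⟨g, rfl⟩ := hinv t ht
  have hmem : ∀ c ∈ Subgroup.centralizer ({g * τ * g⁻¹} : Set G), g⁻¹ * c * g ∈ NE := by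
    intro c hc
    rw [Subgroup.mem_centralizer_singleton_iff] at hc
    refine hcent _ ?_
    calc g⁻¹ * c * g * τ = g⁻¹ * (c * (g * τ * g⁻¹)) * g := by group
      _ = g⁻¹ * ((g * τ * g⁻¹) * c) * g := by rw [hc]
      _ = τ * (g⁻¹ * c * g) := by group
  have hsq : ∀ c ∈ Subgroup.centralizer ({g * τ * g⁻¹} : Set G), c ^ 2 = 1 := by
    intro c hc
    have h1 := hNEexp _ (hmem c hc)
    calc c ^ 2 = g * (g⁻¹ * c * g) ^ 2 * g⁻¹ := by rw [pow_two, pow_two]; group
      _ = 1 := by rw [h1]; group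
  refine ⟨⟨⟨fun a b => ?_⟩⟩, hsq⟩
  have hinv' : ∀ c : Subgroup.centralizer ({g * τ * g⁻¹} : Set G), c⁻¹ = c := fun c =>
    inv_eq_of_mul_eq_one_right (Subtype.ext (by
      rw [Subgroup.coe_mul, ← pow_two]; exact hsq _ c.2))
  calc a * b = (a * b)⁻¹ := (hinv' _).symm
    _ = b⁻¹ * a⁻¹ := mul_inv_rev a b
    _ = b * a := by rw [hinv', hinv']

end Frame

/-- The final dichotomy. -/
theorem Setting.cases (S : Setting P n) : (n = 1 ∧ 2 * einv P + 1 = p) ∨
    ∃ T : Sylow 2 G, ¬ IsCyclic (T : Subgroup G) ∧ Nat.card (T : Subgroup G) + 1 = p ∧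
      ∀ t : G, orderOf t = 2 → IsMulCommutative (Subgroup.centralizer ({t} : Set G)) ∧
        ∀ c ∈ Subgroup.centralizer ({t} : Set G), c ^ 2 = 1 := by
  rcases S.dichotomy with h | ⟨⟨D⟩⟩
  · exact Or.inl h
  obtain ⟨Q, ⟨F⟩⟩ := D.exists_frame S
  rcases Nat.lt_or_ge n 2 with h | h
  · left
    have := S.n_pos
    have hn : n = 1 := by omega
    obtain ⟨-, -, hce⟩ := F.arith S
    subst hn
    exact ⟨rfl, hce⟩
  · exact Or.inr (F.elementary S h)

end Cfsg.Agent.Blocks.FewSylow
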